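import Groth.Agent.FBlowLib.ChartMap
import Groth.Agent.AdicRingLib.TruncFP

/-!
# An affine open of an admissible formal scheme as a formal spectrum
-/

set_option autoImplicit false
set_option linter.style.haveILetI false
set_option backward.isDefEq.respectTransparency false
set_option backward.isDefEq.respectTransparency.types false
set_option maxHeartbeats 1000000
universe u

open CategoryTheory CategoryTheory.Limits AlgebraicGeometry TopologicalSpace Opposite

noncomputable section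

namespace Groth.Agent.FBlowLib

open Groth.Agent.FCompl Groth.Agent.BlowChartLib

lemma ker_SpecMap {B T : Type u} [CommRing B] [CommRing T] (φ : B →+* T) :
    (Spec.map (CommRingCat.ofHom φ)).ker.ideal ⟨⊤, isAffineOpen_top _⟩ =
      (RingHom.ker φ).map (Scheme.ΓSpecIso (CommRingCat.of B)).inv.hom ∨ ¬ Function.Surjective φ := by
  by_cases hφ : Function.Surjective φ
  · left
    haveI : IsClosedImmersion (Spec.map (CommRingCat.ofHom φ)) :=
      IsClosedImmersion.spec_of_surjective (CommRingCat.ofHom φ) hφ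
    exact (Scheme.Hom.ker_apply _ _).trans (S3855.kerTop_Spec _)
  · exact Or.inr hφ

lemma ker_SpecMap_eq {B T : Type u} [CommRing B] [CommRing T] {φ : B →+* T} (hφ : Function.Surjective φ) :
    (Spec.map (CommRingCat.ofHom φ)).ker = FSch.idealSpec B (RingHom.ker φ) := by
  refine Scheme.IdealSheafData.ext_of_isAffine ?_
  rw [S3873.idealSpec_top]
  exact (ker_SpecMap φ).resolve_right (not_not_intro hφ)

lemma secHom_comp_SpecMap {B S : Type u} [CommRing B] [CommRing S] (φ : B →+* S) {X : Scheme.{u}}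
    (f : X ⟶ Spec (CommRingCat.of S)) (V : X.Opens) :
    secHom (f ≫ Spec.map (CommRingCat.ofHom φ)) V = (secHom f V).comp φ := by
  have h1 := Scheme.ΓSpecIso_inv_naturality (CommRingCat.ofHom φ)
  show ((Scheme.ΓSpecIso (CommRingCat.of B)).inv ≫ (f ≫ Spec.map (CommRingCat.ofHom φ)).appLE ⊤ V le_top).hom =
    (CommRingCat.ofHom φ ≫ (Scheme.ΓSpecIso (CommRingCat.of S)).inv ≫ f.appLE ⊤ V le_top).hom
  refine congrArg CommRingCat.Hom.hom ?_
  rw [← Scheme.Hom.appLE_comp_appLE f (Spec.map (CommRingCat.ofHom φ)) ⊤ ⊤ V le_top le_top]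
  rw [show (Spec.map (CommRingCat.ofHom φ)).appLE ⊤ ⊤ le_top = (Spec.map (CommRingCat.ofHom φ)).appTop from
    (Scheme.Hom.app_eq_appLE _).symm, ← Category.assoc, ← h1, Category.assoc]

variable {R : Type u} [CommRing R] {I : Ideal R} {𝔛 : FSch.Sys.{u}} {h : 𝔛.IsFormal}
  (p : 𝔛 ⟶ FSch.spf R I) {U : (𝔛.X 0).Opens}

/-- The maps of the levels to the spectrum of the base. -/
abbrev yB (n : ℕ) : 𝔛.X n ⟶ Spec (CommRingCat.of R) :=
  (p : FSch.Hom 𝔛 (FSch.spf R I)).app n ≫ FSch.spfToSpec R I n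

lemma yB_comm (n : ℕ) : 𝔛.ι n ≫ yB p (n + 1) = yB p n := comp_comm p _ (FSch.spfToSpec_comm R I) n

variable (h) in
/-- The structure map of the sections over the base. -/
abbrev ρB (V : (𝔛.X 0).Opens) : R →+* OR 𝔛 h V := img h (yB p) (yB_comm p) V

lemma secHom_yB (n : ℕ) (V : (𝔛.X n).Opens) :
    secHom (yB p n) V = (secHom ((p : FSch.Hom 𝔛 (FSch.spf R I)).app n) V).comp (Ideal.Quotient.mk (I ^ (n + 1))) :=
  secHom_comp_SpecMap (Ideal.Quotient.mk (I ^ (n + 1))) _ V

lemma map_pow_eq_bot (n : ℕ) (V : (𝔛.X n).Opens) : (I ^ (n + 1)).map (secHom (yB p n) V) = ⊥ := by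
  rw [secHom_yB, ← Ideal.map_map, Ideal.map_quotient_self, Ideal.map_bot]

theorem ker_tr (hp : FSch.IsAdicHom p) (hU : IsAffineOpen U) (n : ℕ) :
    RingHom.ker (tr 𝔛 h U n) = (I ^ (n + 1)).map (secHom (yB p (n + 1)) (𝔛.lvU h (n + 1) U)) := by
  haveI := (h n).1
  let F : R ⧸ I ^ (n + 2) →+* R ⧸ I ^ (n + 1) := Ideal.Quotient.factor (Ideal.pow_le_pow_right (Nat.le_succ (n + 1)))
  have hF : Function.Surjective F := Ideal.Quotient.factor_surjective _
  haveI : IsClosedImmersion ((FSch.spf R I).ι n) :=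
    IsClosedImmersion.spec_of_surjective (CommRingCat.ofHom F) hF
  have hkerF : RingHom.ker F = (I ^ (n + 1)).map (Ideal.Quotient.mk (I ^ (n + 2))) :=
    Ideal.Quotient.factor_ker _
  have h1 := (S3857.ker_of_isPullback (hp n)).2
  have hι : ((FSch.spf R I).ι n).ker = FSch.idealSpec (R ⧸ I ^ (n + 2)) (RingHom.ker F) := ker_SpecMap_eq hF
  rw [hι] at h1
  rw [tr, ker_appLE _ _ _ _ (𝔛.lvU_succ h n U), ← Scheme.Hom.ker_apply (𝔛.ι n) ⟨_, affine_lvU (h := h) hU (n + 1)⟩, h1]
  refine (ideal_comap_idealSpec (A := R ⧸ I ^ (n + 2)) ((p : FSch.Hom 𝔛 (FSch.spf R I)).app (n + 1)) _ _).trans ?_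
  rw [secHom_yB, ← Ideal.map_map, hkerF]

variable (hR : AdicRing.IsBase R I) (hp : FSch.IsAdicHom p) (hU : IsAffineOpen U)

include hR hp hU

/-- The sections over an affine open are complete and the levels are their truncations. -/
theorem affPres :
    (∀ n, Function.Surjective (pr 𝔛 h U n)) ∧ (∀ n, RingHom.ker (pr 𝔛 h U n) = (I ^ (n + 1)).map (ρB h p U)) ∧
      IsAdicComplete (I.map (ρB h p U)) (OR 𝔛 h U) := by
  let L : ℕ → Type u := LR 𝔛 h U
  let t : ∀ n, L (n + 1) →+* L n := tr 𝔛 h U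
  have hts : ∀ n, Function.Surjective (t n) := tr_surjective hU
  let e₀ : OR 𝔛 h U →+* FSchAffineLib.limRing L t :=
    RingHom.codRestrict (RingHom.pi (pr 𝔛 h U)) _ fun x n => tr_pr 𝔛 h U n x
  let e : OR 𝔛 h U ≃+* FSchAffineLib.limRing L t := RingEquiv.ofBijective e₀
    ⟨fun x y hxy => osh_ext fun n => congrFun (congrArg Subtype.val hxy) n,
      fun z => by
        obtain ⟨x, hx⟩ := osh_lift z.1 z.2
        exact ⟨x, Subtype.ext (funext hx)⟩⟩
  have hproj : ∀ n, (FSchAffineLib.proj L t n).comp e.toRingHom = pr 𝔛 h U n := fun n => rfl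
  have hsurj : ∀ n, Function.Surjective (pr 𝔛 h U n) := fun n y => by
    obtain ⟨z, hz⟩ := FSchAffineLib.proj_surjective L t hts n y
    obtain ⟨x, rfl⟩ := e.surjective z
    exact ⟨x, hz⟩
  have hρ : ∀ n, (pr 𝔛 h U n).comp (ρB h p U) = secHom (yB p n) (𝔛.lvU h n U) := fun n =>
    RingHom.ext fun a => pr_img h (yB p) (yB_comm p) U a n
  have hkill : ∀ n, (I ^ (n + 1)).map (ρB h p U) ≤ RingHom.ker (pr 𝔛 h U n) := fun n => by
    rw [Ideal.map_le_iff_le_comap]
    intro a ha
    rw [Ideal.mem_comap, RingHom.mem_ker]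
    exact (RingHom.congr_fun (hρ n) a).trans
      (Ideal.mem_bot.1 ((map_pow_eq_bot p n _).le (Ideal.mem_map_of_mem _ ha)))
  have hsup : ∀ n, RingHom.ker (pr 𝔛 h U n) ≤ (I ^ (n + 1)).map (ρB h p U) ⊔ RingHom.ker (pr 𝔛 h U (n + 1)) := by
    intro n x hx
    have h1 : pr 𝔛 h U (n + 1) x ∈ RingHom.ker (tr 𝔛 h U n) := by
      rw [RingHom.mem_ker, tr_pr]; exact hx
    rw [ker_tr p hp hU n, ← hρ (n + 1), ← Ideal.map_map] at h1
    obtain ⟨z, hz, hzx⟩ := (Ideal.mem_map_iff_of_surjective _ (hsurj (n + 1))).1 h1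
    rw [← add_sub_cancel z x]
    exact add_mem (Ideal.mem_sup_left hz) (Ideal.mem_sup_right (by rw [RingHom.mem_ker, map_sub, hzx, sub_self]))
  let G := (I.map (ρB h p U)).map e.toRingHom
  have hG : ∀ n, ((I ^ (n + 1)).map (ρB h p U)).map e.toRingHom = G ^ (n + 1) := fun n => by
    rw [Ideal.map_pow, Ideal.map_pow]
  have hker_e : ∀ n, (RingHom.ker (pr 𝔛 h U n)).map e.toRingHom = RingHom.ker (FSchAffineLib.proj L t n) := fun n => by
    rw [← hproj n, ← RingHom.comap_ker]
    exact Ideal.map_comap_of_surjective _ e.surjective _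
  have hGK : ∀ n, G ^ (n + 1) ≤ RingHom.ker (FSchAffineLib.proj L t n) := fun n => by
    rw [← hG, ← hker_e]
    exact Ideal.map_mono (hkill n)
  have hsup' : ∀ n, RingHom.ker (FSchAffineLib.proj L t n) ≤
      G ^ (n + 1) ⊔ RingHom.ker (FSchAffineLib.proj L t (n + 1)) := fun n => by
    rw [← hG, ← hker_e, ← hker_e, ← Ideal.map_sup]
    exact Ideal.map_mono (hsup n)
  set J := RingHom.ker (FSchAffineLib.proj L t 0) with hJdef
  have hGJ : G ≤ J := by
    have := hGK 0
    rwa [zero_add, pow_one] at this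
  have hJG1 : J ≤ G ⊔ RingHom.ker (FSchAffineLib.proj L t 1) := by
    have := hsup' 0
    rwa [zero_add, pow_one] at this
  have hJGm : ∀ m, J ≤ G ⊔ RingHom.ker (FSchAffineLib.proj L t m) := fun m => by
    induction m with
    | zero => exact le_sup_right
    | succ m ih =>
      refine ih.trans (sup_le le_sup_left ((hsup' m).trans (sup_le_sup ?_ le_rfl)))
      exact Ideal.pow_le_self (Nat.succ_ne_zero m)
  have hJpow : ∀ n, J ^ (n + 1) ≤ RingHom.ker (FSchAffineLib.proj L t n) := fun n => by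
    have hK : ∀ (K : Ideal (FSchAffineLib.limRing L t)) (m : ℕ), (G ⊔ K) ^ m ≤ G ^ m ⊔ K := fun K m => by
      induction m with
      | zero => rw [pow_zero, pow_zero]; exact le_sup_left
      | succ m ih =>
        rw [pow_succ, pow_succ]
        refine (Ideal.mul_mono_left ih).trans ?_
        rw [Ideal.sup_mul, Ideal.mul_sup]
        exact sup_le (sup_le le_sup_left (Ideal.mul_le_right.trans le_sup_right))
          (Ideal.mul_le_left.trans le_sup_right)
    exact ((Ideal.pow_right_mono (hJGm n) (n + 1)).trans (hK _ _)).trans (sup_le (hGK n) le_rfl)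
  obtain ⟨hfg, hkerJ⟩ := FSchAffineLib.ker_proj L t hts hJpow
    (fun n => (hsup' n).trans (sup_le_sup (Ideal.pow_right_mono hGJ _) le_rfl))
    (by rw [ker_tr p hp hU 0]; exact ((AdicRingLib.isBase_fg hR).pow).map _)
  haveI := FSchAffineLib.isAdicComplete L t hkerJ
  have hJG : J = G := by
    refine le_antisymm ?_ hGJ
    have h2 : J ≤ G ⊔ J • J := by
      refine hJG1.trans (sup_le_sup le_rfl ?_)
      rw [hkerJ 1, smul_eq_mul, ← pow_two]
    exact Submodule.le_of_le_smul_of_le_jacobson_bot hfg (IsAdicComplete.le_jacobson_bot J) h2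
  have hGe : G.comap e.toRingHom = I.map (ρB h p U) :=
    Ideal.comap_map_of_bijective _ e.bijective
  refine ⟨hsurj, fun n => ?_, ?_⟩
  · rw [← hproj n, ← RingHom.comap_ker, hkerJ n,
      show RingHom.ker (FSchAffineLib.proj L t 0) = G from hJG, ← hG]
    exact Ideal.comap_map_of_bijective _ e.bijective
  · rw [← IsAdicComplete.congr_ringEquiv (I := I.map (ρB h p U)) e]
    show IsAdicComplete G _
    rw [← hJG]
    exact inferInstanceAs (IsAdicComplete (RingHom.ker (FSchAffineLib.proj L t 0)) _)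

theorem exists_iso_spf :
    ∃ e : 𝔛.restrictOpen h U ≅ FSch.spf (OR 𝔛 h U) (I.map (ρB h p U)),
      ∀ n, (e.hom : FSch.Hom _ _).app n ≫ FSch.spfToSpec (OR 𝔛 h U) (I.map (ρB h p U)) n = lvSpec h hU n := by
  obtain ⟨hsurj, hker, -⟩ := affPres p hR hp hU
  let K := I.map (ρB h p U)
  have hK : ∀ n, K ^ (n + 1) = RingHom.ker (pr 𝔛 h U n) := fun n => by rw [hker n, Ideal.map_pow]
  let q : ∀ n, OR 𝔛 h U ⧸ K ^ (n + 1) ≃+* LR 𝔛 h U n := fun n =>
    (Ideal.quotEquivOfEq (hK n)).trans (RingHom.quotientKerEquivOfSurjective (hsurj n))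
  let σ : ∀ n, ((𝔛.lvU h n U : (𝔛.X n).Opens) : Scheme.{u}) ≅ Spec (CommRingCat.of (OR 𝔛 h U ⧸ K ^ (n + 1))) :=
    fun n => (affine_lvU (h := h) hU n).isoSpec ≪≫ (Scheme.Spec.mapIso (q n).toCommRingCatIso.op)
  have hσ : ∀ n, (σ n).hom ≫ FSch.spfToSpec (OR 𝔛 h U) K n = lvSpec h hU n := fun n => by
    show ((affine_lvU (h := h) hU n).isoSpec.hom ≫ Spec.map (q n).toCommRingCatIso.hom) ≫ Spec.map _ =
      (affine_lvU (h := h) hU n).isoSpec.hom ≫ _
    rw [Category.assoc, ← Spec.map_comp]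
    rfl
  have hcomm : ∀ n, (σ n).hom ≫ (FSch.spf (OR 𝔛 h U) K).ι n = (𝔛.restrictOpen h U).ι n ≫ (σ (n + 1)).hom := fun n => by
    haveI : IsClosedImmersion (FSch.spfToSpec (OR 𝔛 h U) K (n + 1)) :=
      IsClosedImmersion.spec_of_surjective (CommRingCat.ofHom (Ideal.Quotient.mk (K ^ (n + 1 + 1)))) Ideal.Quotient.mk_surjective
    rw [← cancel_mono (FSch.spfToSpec (OR 𝔛 h U) K (n + 1)), Category.assoc, Category.assoc, FSch.spfToSpec_comm, hσ, hσ]
    exact (lvι_lvSpec h hU n).symm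
  exact ⟨{ hom := ⟨fun n => (σ n).hom, hcomm⟩
           inv := ⟨fun n => (σ n).inv, fun n => by
             rw [Iso.inv_comp_eq, ← Category.assoc, hcomm, Category.assoc, Iso.hom_inv_id, Category.comp_id]⟩
           hom_inv_id := FSch.Hom.ext (funext fun n => (σ n).hom_inv_id)
           inv_hom_id := FSch.Hom.ext (funext fun n => (σ n).inv_hom_id) }, hσ⟩

theorem admissible (hfp : ∀ n, LocallyOfFinitePresentation ((p : FSch.Hom 𝔛 (FSch.spf R I)).app n))
    (htf : ∀ (V : (𝔛.X 0).Opens) (s : (𝔛.Osh h).obj.obj (Opposite.op V)),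
      (∀ a ∈ (FBlow.IdealSh.ker (𝔛.OshProj h 0)).sect V, a * s = 0) → s = 0) :
    letI := (ρB h p U).toAlgebra
    AdicRing.Admissible R I (OR 𝔛 h U) := by
  letI := (ρB h p U).toAlgebra
  obtain ⟨hsurj, hker, hc⟩ := affPres p hR hp hU
  haveI : IsAdicComplete (I.map (algebraMap R (OR 𝔛 h U))) (OR 𝔛 h U) := hc
  refine ⟨AdicRingLib.TruncFP.topFinitePresentation_of_trunc hR _ fun m => ?_, fun x n hn => ?_⟩
  · haveI : IsAffine ((FSch.spf R I).X m) := inferInstanceAs (IsAffine (Spec (CommRingCat.of (R ⧸ I ^ (m + 1)))))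
    haveI := hfp m
    have h1 : (secHom ((p : FSch.Hom 𝔛 (FSch.spf R I)).app m) (𝔛.lvU h m U)).FinitePresentation := by
      show (((p : FSch.Hom 𝔛 (FSch.spf R I)).app m).appLE ⊤ (𝔛.lvU h m U) le_top).hom.comp
        (Scheme.ΓSpecIso (CommRingCat.of (R ⧸ I ^ (m + 1)))).inv.hom |>.FinitePresentation
      exact (Scheme.Hom.finitePresentation_appLE _ (isAffineOpen_top _) (affine_lvU (h := h) hU m) le_top).comp
        (RingHom.FinitePresentation.of_bijective (ConcreteCategory.bijective_of_isIso _))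
    have h2 : (secHom (yB p m) (𝔛.lvU h m U)).FinitePresentation := by
      rw [secHom_yB]
      exact h1.comp (RingHom.FinitePresentation.of_surjective _ Ideal.Quotient.mk_surjective
        (by rw [Ideal.mk_ker]; exact (AdicRingLib.isBase_fg hR).pow))
    rw [← RingHom.finitePresentation_algebraMap]
    let E : OR 𝔛 h U ⧸ (I ^ (m + 1)).map (algebraMap R (OR 𝔛 h U)) ≃+* LR 𝔛 h U m :=
      (Ideal.quotEquivOfEq (hker m).symm).trans (RingHom.quotientKerEquivOfSurjective (hsurj m))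
    have h3 : algebraMap R (OR 𝔛 h U ⧸ (I ^ (m + 1)).map (algebraMap R (OR 𝔛 h U))) =
        E.symm.toRingHom.comp (secHom (yB p m) (𝔛.lvU h m U)) := RingHom.ext fun r => by
      show Ideal.Quotient.mk _ (ρB h p U r) = E.symm _
      rw [RingEquiv.eq_symm_apply]
      exact pr_img h (yB p) (yB_comm p) U r m
    rw [h3]
    exact (RingHom.FinitePresentation.of_bijective E.symm.bijective).comp h2
  · induction n generalizing x with
    | zero => simpa using hn 1 (by simp)
    | succ n ih =>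
      refine ih x fun a ha => htf U _ fun b hb => ?_
      have hb' : b ∈ (I ^ 1).map (ρB h p U) := by
        rw [← hker 0]
        exact hb
      rw [pow_one] at hb'
      refine Submodule.span_induction (p := fun b _ => b * (a • x) = 0) ?_ (zero_mul _) ?_ ?_ hb'
      · rintro _ ⟨c, hc', rfl⟩
        rw [Algebra.smul_def, ← mul_assoc]
        show algebraMap R _ c * algebraMap R _ a * x = 0
        rw [← map_mul, ← Algebra.smul_def]
        exact hn _ (by rw [pow_succ']; exact Ideal.mul_mem_mul hc' ha)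
      · intro b c _ _ hb hc'; rw [add_mul, hb, hc', add_zero]
      · intro r b _ hb; rw [smul_eq_mul, mul_assoc, hb, mul_zero]

end Groth.Agent.FBlowLib
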