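import Groth.Agent.AdicRingLib.PolySat
import Groth.Agent.AdicRingLib.TFT

/-!
# Torsion-free algebras of finite type over algebras topologically of finite type
-/

set_option autoImplicit false
set_option linter.style.haveILetI false
set_option maxHeartbeats 400000
universe u

namespace Groth.Agent.FBlowLib

open AdicRing Groth.Agent.AdicRingLib

theorem ker_fg_of_isSat {R : Type u} [CommRing R] {I : Ideal R} {t : R} (h : IsValBase R I t) (n m : ℕ)
    (N : Ideal (MvPolynomial (Fin m) (RPow R I n))) (hN : ∀ x, t • x ∈ N → x ∈ N) : N.FG := by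
  have := h.domain
  have := h.pre
  have := h.dim
  have : ValuationRing R := ⟨⟩
  obtain ⟨π, h1, h2⟩ := h.exists_red_span n
  have := h.complete_span n
  let P := MvPolynomial (Fin m) (RPow R I n)
  let L : (Fin 1 → P) →ₗ[P] P := LinearMap.proj 0
  obtain ⟨G, hG⟩ := PolySat.fg_of_isSat h.ne h.notUnit π h1 h2 (h.rpow_torsionFree n) (Submodule.comap L N)
    fun x hx => hN (x 0) hx
  refine ⟨(G : Finset (Fin 1 → P)).map ⟨fun x => x 0, fun x y hxy => funext fun i => by
    rw [Subsingleton.elim i 0]; exact hxy⟩, le_antisymm (Ideal.span_le.2 fun z hz => ?_) fun z hz => ?_⟩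
  · obtain ⟨x, hx, rfl⟩ := Finset.mem_map.1 hz
    exact hG.le (Submodule.subset_span hx)
  · have hx : (fun _ : Fin 1 => z) ∈ Submodule.span P (G : Set (Fin 1 → P)) := hG.ge hz
    have h3 := Submodule.apply_mem_span_image_of_mem_span L hx
    rw [Finset.coe_map]
    exact h3

theorem finitePresentation_of_torsionFree {R : Type u} [CommRing R] {I : Ideal R} (hR : IsBase R I)
    {A : Type u} [CommRing A] [Algebra R A] (hA : TopFiniteType R I A)
    (S : Type u) [CommRing S] [Algebra R S] [Algebra A S] [IsScalarTower R A S] [Algebra.FiniteType A S]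
    (htf : NoPowTorsion I S) : Algebra.FinitePresentation A S := by
  obtain ⟨m, g, hg⟩ := Algebra.FiniteType.iff_quotient_mvPolynomial''.1 ‹Algebra.FiniteType A S›
  obtain ⟨n, φ, hφ⟩ := hA
  refine Algebra.FinitePresentation.of_surjective hg ?_
  rcases isBase_cases hR with ⟨hN, -⟩ | ⟨t, h⟩
  · haveI := rpow_isNoetherianRing I n
    haveI : IsNoetherianRing A := isNoetherianRing_of_surjective (RPow R I n) A φ.toRingHom hφ
    exact IsNoetherian.noetherian _
  · let ψ : MvPolynomial (Fin m) (RPow R I n) →+* MvPolynomial (Fin m) A := MvPolynomial.map φ.toRingHom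
    have hψ : Function.Surjective ψ := MvPolynomial.map_surjective _ hφ
    let N : Ideal (MvPolynomial (Fin m) (RPow R I n)) := RingHom.ker (g.toRingHom.comp ψ)
    have hN : N.FG := by
      refine ker_fg_of_isSat h n m N fun x hx => RingHom.mem_ker.2 (htf _ 1 fun a ha => ?_)
      rw [pow_one, h.eq, Ideal.mem_span_singleton'] at ha
      obtain ⟨b, rfl⟩ := ha
      rw [mul_smul]
      refine (congrArg (b • ·) ?_).trans (smul_zero b)
      have h1 : g (ψ (t • x)) = 0 := RingHom.mem_ker.1 hx
      rw [Algebra.smul_def, map_mul, map_mul] at h1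
      rw [Algebra.smul_def, ← h1]
      refine congrArg (· * _) ?_
      rw [IsScalarTower.algebraMap_apply R A S, ← g.commutes]
      refine congrArg g ?_
      show _ = MvPolynomial.map φ.toRingHom (algebraMap R (MvPolynomial (Fin m) (RPow R I n)) t)
      rw [IsScalarTower.algebraMap_apply R (RPow R I n) (MvPolynomial (Fin m) (RPow R I n)),
        MvPolynomial.algebraMap_eq]
      exact ((MvPolynomial.map_C φ.toRingHom _).trans (congrArg MvPolynomial.C (φ.commutes t))).symm
    have e : RingHom.ker g.toRingHom = N.map ψ := by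
      show _ = Ideal.map ψ (RingHom.ker (g.toRingHom.comp ψ))
      rw [← RingHom.comap_ker, Ideal.map_comap_of_surjective ψ hψ]
    show (RingHom.ker g.toRingHom).FG
    rw [e]
    exact hN.map ψ

end Groth.Agent.FBlowLib
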