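import Groth.Agent.FBlowLib.ChartMap
import Groth.Agent.FBlowLib.FPres
import Groth.Agent.FBlowLib.AffPres

/-!
# Torsion and finite presentation of a blow-up of a torsion-free algebra
-/

set_option autoImplicit false
set_option linter.style.haveILetI false
set_option backward.isDefEq.respectTransparency false
set_option backward.isDefEq.respectTransparency.types false
set_option maxHeartbeats 1000000
universe u

open CategoryTheory CategoryTheory.Limits AlgebraicGeometry TopologicalSpace Opposite

noncomputable section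

namespace Groth.Agent.FBlowLib

open Groth.Agent.FCompl Groth.Agent.BlowChartLib

variable {R : Type u} [CommRing R] {I : Ideal R}

/-- No nonzero element is killed by the ideal. -/
def NoTor (I : Ideal R) {S : Type u} [CommRing S] (φ : R →+* S) : Prop :=
  ∀ x : S, (∀ r ∈ I, φ r * x = 0) → x = 0

theorem noTor_of_noPowTorsion {S : Type u} [CommRing S] [Algebra R S] (h : AdicRing.NoPowTorsion I S) :
    NoTor I (algebraMap R S) := fun x hx =>
  h x 1 fun a ha => by
    rw [pow_one] at ha
    rw [Algebra.smul_def]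
    exact hx a ha

theorem noPowTorsion_of_noTor {S : Type u} [CommRing S] [Algebra R S] (h : NoTor I (algebraMap R S)) :
    AdicRing.NoPowTorsion I S := fun x n hx => by
  induction n generalizing x with
  | zero =>
    have := hx 1 (by simp)
    simpa using this
  | succ n ih =>
    refine ih x fun a ha => h _ fun r hr => ?_
    rw [← Algebra.smul_def, ← mul_smul]
    exact hx _ (by rw [pow_succ']; exact Ideal.mul_mem_mul hr ha)

theorem noTor_of_injective {S T : Type u} [CommRing S] [CommRing T] {φ : R →+* S} (g : S →+* T)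
    (hg : Function.Injective g) (h : NoTor I (g.comp φ)) : NoTor I φ := fun x hx =>
  hg ((h (g x) fun r hr => by
    rw [RingHom.comp_apply, ← map_mul, hx r hr, map_zero]).trans (map_zero g).symm)

theorem noTor_localization (hI : I.FG) {S T : Type u} [CommRing S] [CommRing T] [Algebra S T] (M : Submonoid S)
    [IsLocalization M T] {φ : R →+* S} (h : NoTor I φ) : NoTor I ((algebraMap S T).comp φ) := by
  classical
  intro x hx
  obtain ⟨s, m, rfl⟩ := IsLocalization.exists_mk'_eq M x
  obtain ⟨G, hG⟩ := hI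
  have h1 : ∀ r ∈ G, ∃ u : M, (u : S) * (φ r * s) = 0 := fun r hr => by
    have h2 := hx r (hG.le (Ideal.subset_span hr))
    rw [RingHom.comp_apply, IsLocalization.mul_mk'_eq_mk'_of_mul, IsLocalization.mk'_eq_zero_iff] at h2
    exact h2
  choose u hu using h1
  let U : M := ∏ r ∈ G.attach, u r.1 r.2
  have hU : ∀ r ∈ I, φ r * ((U : S) * s) = 0 := by
    intro r hr
    rw [← hG] at hr
    refine Submodule.span_induction (p := fun r _ => φ r * ((U : S) * s) = 0) ?_ ?_ ?_ ?_ hr
    · intro r hr
      have hd : (u r hr : M) ∣ U := Finset.dvd_prod_of_mem (fun r : {r // r ∈ G} => u r.1 r.2) (Finset.mem_attach G ⟨r, hr⟩)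
      obtain ⟨v, hv⟩ := hd
      rw [hv, Submonoid.coe_mul]
      linear_combination (v : S) * hu r hr
    · rw [map_zero, zero_mul]
    · intro a b _ _ ha hb
      rw [map_add, add_mul, ha, hb, add_zero]
    · intro a b _ hb
      rw [smul_eq_mul, map_mul, mul_assoc, hb, mul_zero]
  exact (IsLocalization.mk'_eq_zero_iff _ _).2 ⟨U, h _ hU⟩

variable {A : Type u} [CommRing A] [Algebra R A] {P : Scheme.{u}} {q : P ⟶ Spec (CommRingCat.of A)} {𝔞 : Ideal A}

theorem finiteType_affineAlgebra (h𝔞 : 𝔞.FG) (a : A) : Algebra.FiniteType A ↥(BlowUp.affineAlgebra A 𝔞 a) := by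
  classical
  obtain ⟨G, hG⟩ := h𝔞
  let fr : A → Localization.Away a := fun x => IsLocalization.mk' (Localization.Away a) x ⟨a, Submonoid.mem_powers a⟩
  have e : BlowUp.affineAlgebra A 𝔞 a = Algebra.adjoin A (fr '' (G : Set A)) := by
    refine le_antisymm (Algebra.adjoin_le ?_) (Algebra.adjoin_le ?_)
    · rintro _ ⟨x, hx, rfl⟩
      rw [← hG] at hx
      refine Submodule.span_induction (p := fun x _ => fr x ∈ Algebra.adjoin A (fr '' (G : Set A))) ?_ ?_ ?_ ?_ hx
      · exact fun x hx => Algebra.subset_adjoin ⟨x, hx, rfl⟩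
      · simp only [fr, IsLocalization.mk'_zero]
        exact zero_mem _
      · intro x y _ _ hx hy
        have h1 : fr (x + y) = fr x + fr y := by
          simp only [fr, IsLocalization.mk'_eq_mul_mk'_one x, IsLocalization.mk'_eq_mul_mk'_one y,
            IsLocalization.mk'_eq_mul_mk'_one (x + y), map_add, add_mul]
        rw [h1]; exact add_mem hx hy
      · intro c x _ hx
        have h1 : fr (c • x) = algebraMap A _ c * fr x := (IsLocalization.mul_mk'_eq_mk'_of_mul c x _).symm
        rw [h1]; exact mul_mem ((Algebra.adjoin A (fr '' (G : Set A))).algebraMap_mem c) hx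
    · rintro _ ⟨x, hx, rfl⟩
      exact Algebra.subset_adjoin ⟨x, hG.le (Ideal.subset_span hx), rfl⟩
  rw [e]
  exact (Subalgebra.fg_iff_finiteType _).1 ⟨G.image fr, by rw [Finset.coe_image]⟩

theorem noTor_affineAlgebra (hI : I.FG) (hA : AdicRing.NoPowTorsion I A) (a : A) :
    NoTor I ((algebraMap A ↥(BlowUp.affineAlgebra A 𝔞 a)).comp (algebraMap R A)) := by
  refine noTor_of_injective (BlowUp.affineAlgebra A 𝔞 a).val.toRingHom Subtype.val_injective ?_
  exact noTor_localization hI (Submonoid.powers a) (noTor_of_noPowTorsion hA)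

lemma exists_chart (hq : BlowUp.IsBlowUp q (FSch.idealSpec A 𝔞)) (x : P) :
    ∃ a ∈ 𝔞, x ∈ chartU q 𝔞 a := by
  let ε := (Scheme.ΓSpecIso (CommRingCat.of A)).inv.hom
  have hs : Ideal.span (ε '' (𝔞 : Set A)) = (FSch.idealSpec A 𝔞).ideal topU := by
    rw [S3873.idealSpec_top]
    rfl
  obtain ⟨_, ⟨a, ha, rfl⟩, hx⟩ := BlowExistsLib.exists_mem_chartOpen hq.1 (U := topU) _ hs x trivial
  exact ⟨a, ha, hx⟩

theorem noTor_blowUp (hI : I.FG) (hA : AdicRing.NoPowTorsion I A) (hq : BlowUp.IsBlowUp q (FSch.idealSpec A 𝔞))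
    (V : P.Opens) : NoTor I ((secHom q V).comp (algebraMap R A)) := by
  intro s hs
  have key : ∀ x ∈ V, ∃ W : P.Opens, ∃ i : W ≤ V, x ∈ W ∧ P.presheaf.map (homOfLE i).op s = 0 := by
    intro x hx
    obtain ⟨a, ha, hxa⟩ := exists_chart hq x
    obtain ⟨e, he, hrange, heq⟩ := exists_chart_emb hq ha
    haveI := he
    obtain ⟨w, hw⟩ : x ∈ Set.range e := by
      rw [← hrange] at hxa
      exact hxa
    let B : Type u := ↥(BlowUp.affineAlgebra A 𝔞 a)
    obtain ⟨_, ⟨g, rfl⟩, hwg, hgle⟩ :=
      (PrimeSpectrum.isTopologicalBasis_basic_opens (R := B)).exists_subset_of_mem_open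
        (show w ∈ (e ⁻¹ᵁ V : Set _) by show e w ∈ V; rw [hw]; exact hx) (e ⁻¹ᵁ V).2
    let D : (Spec (CommRingCat.of B)).Opens := PrimeSpectrum.basicOpen g
    let W := e ''ᵁ D
    have i : W ≤ V := by
      rintro _ ⟨z, hz, rfl⟩
      exact hgle hz
    refine ⟨W, i, ⟨w, hwg, hw⟩, ?_⟩
    have hDe : D ≤ e ⁻¹ᵁ W := (Scheme.Hom.preimage_image_eq e D).ge
    have hbij : Function.Bijective (e.appLE W D hDe) := by
      have : IsIso (e.appLE W D hDe) := by
        rw [← Scheme.Hom.appIso_hom']
        infer_instance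
      exact ConcreteCategory.bijective_of_isIso _
    apply hbij.1
    rw [map_zero]
    letI : Algebra B Γ(Spec (CommRingCat.of B), D) :=
      inferInstanceAs (Algebra B ((Spec.structureSheaf B).obj.obj (op D)))
    haveI : IsLocalization.Away g Γ(Spec (CommRingCat.of B), D) :=
      inferInstanceAs (IsLocalization.Away g
        ((Spec.structureSheaf B).obj.obj (op (PrimeSpectrum.basicOpen g))))
    refine noTor_localization hI (Submonoid.powers g) (φ := (algebraMap A B).comp (algebraMap R A))
      (T := Γ(Spec (CommRingCat.of B), D)) (noTor_affineAlgebra hI hA a) _ fun r hr => ?_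
    have h1 : algebraMap B Γ(Spec (CommRingCat.of B), D) (algebraMap A B (algebraMap R A r)) =
        e.appLE W D hDe (P.presheaf.map (homOfLE i).op (secHom q V (algebraMap R A r))) := by
      have e1 := ConcreteCategory.congr_hom (Scheme.Hom.appLE_comp_appLE e q ⊤ V D le_top
        (hDe.trans (e.preimage_mono i))) ((Scheme.ΓSpecIso (CommRingCat.of A)).inv (algebraMap R A r))
      refine Eq.trans ?_ (ConcreteCategory.congr_hom (Scheme.Hom.map_appLE e hDe (homOfLE i).op) _).symm
      refine Eq.trans ?_ e1.symm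
      show _ = secHom (e ≫ q) D (algebraMap R A r)
      rw [heq, ← Category.id_comp (Spec.map _), secHom_comp_SpecMap]
      show _ = secHom (𝟙 (Spec (CommRingCat.of B))) D _
      simp only [secHom, CommRingCat.hom_comp, RingHom.comp_apply]
      rw [Scheme.Hom.appLE, Scheme.Hom.id_app, Category.id_comp]
      rfl
    rw [RingHom.comp_apply, RingHom.comp_apply, h1, ← map_mul, ← map_mul]
    exact (congrArg (fun t => e.appLE W D hDe (P.presheaf.map (homOfLE i).op t)) (hs r hr)).trans
      (by rw [map_zero, map_zero])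
  choose W i hxW hW using key
  refine TopCat.Sheaf.eq_of_locally_eq' P.sheaf (fun x : V => W x.1 x.2) V (fun x => homOfLE (i x.1 x.2))
    (fun x hx => Opens.mem_iSup.2 ⟨⟨x, hx⟩, hxW x hx⟩) s 0 fun x => ?_
  exact (hW x.1 x.2).trans (map_zero _).symm

theorem locallyOfFinitePresentation_blowUp (hR : AdicRing.IsBase R I) (hA : AdicRing.TopFiniteType R I A)
    (htf : AdicRing.NoPowTorsion I A) (h𝔞 : 𝔞.FG) (hq : BlowUp.IsBlowUp q (FSch.idealSpec A 𝔞)) :
    LocallyOfFinitePresentation q := by
  have hcov : ∀ x : P, ∃ (Y : Scheme.{u}) (e : Y ⟶ P) (_ : IsOpenImmersion e),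
      x ∈ Set.range e ∧ LocallyOfFinitePresentation (e ≫ q) := fun x => by
    obtain ⟨a, ha, hxa⟩ := exists_chart hq x
    obtain ⟨e, he, hrange, heq⟩ := exists_chart_emb hq ha
    refine ⟨_, e, he, ?_, ?_⟩
    · rw [← hrange] at hxa
      exact hxa
    · rw [heq, HasRingHomProperty.Spec_iff (P := @LocallyOfFinitePresentation)]
      haveI := finiteType_affineAlgebra h𝔞 a
      rw [CommRingCat.hom_ofHom, RingHom.finitePresentation_algebraMap]
      exact finitePresentation_of_torsionFree hR hA _
        (noPowTorsion_of_noTor (noTor_affineAlgebra (AdicRingLib.isBase_fg hR) htf a))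
  choose Y e he hx hfp using hcov
  let 𝒰 : P.OpenCover := Scheme.Cover.mkOfCovers ↥P Y e (fun x => ⟨x, hx x⟩) he
  exact (IsZariskiLocalAtSource.iff_of_openCover 𝒰).2 hfp

end Groth.Agent.FBlowLib
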