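import Mathlib.RingTheory.AdicCompletion.LocalRing
import Groth.Prelude.Def_W4bk4boschfrg79
import Groth.Agent.AdicRingLib.Maps
import Groth.Agent.AdicRingLib.PolyAR
import Groth.Agent.BlowChartLib.Algebra

/-!
# The levels of a chart algebra of a formal blow-up are those of the affine blow-up algebra
-/

set_option autoImplicit false
set_option linter.style.haveILetI false
set_option maxHeartbeats 2000000
universe u

namespace Groth.Agent.FBlowLib

open Groth.Agent.BlowChartLib

variable {A : Type u} [CommRing A] {ι : Type} [Fintype ι] (f : ι → A) (i : ι)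

/-- The blow-up algebra of the span of the family at one of its members. -/
abbrev BA : Type u := ↥(BlowUp.affineAlgebra A (Ideal.span (Set.range f)) (f i))

/-- The chart algebra maps onto the blow-up algebra. -/
noncomputable def toBA : AdicRing.chartAlg f i →ₐ[A] BA f i :=
  Ideal.Quotient.liftₐ _ (MvPolynomial.aeval fun j : {j // j ≠ i} =>
    frac (f j.1) (Ideal.subset_span (Set.mem_range_self j.1))) fun p hp => by
    refine (Ideal.span_le (I := RingHom.ker (MvPolynomial.aeval (R := A) fun j : {j // j ≠ i} =>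
      (frac (f j.1) (Ideal.subset_span (Set.mem_range_self j.1)) : BA f i)).toRingHom)).2 ?_ hp
    rintro _ ⟨j, rfl⟩
    show MvPolynomial.aeval _ _ = 0
    simp only [map_sub, map_mul, MvPolynomial.aeval_C, MvPolynomial.aeval_X]
    rw [sub_eq_zero, mul_comm]
    exact frac_mul _ _

theorem toBA_surjective : Function.Surjective (toBA f i) := fun z => by
  have hX : ∀ j, frac (f j) (Ideal.subset_span (Set.mem_range_self j)) ∈ (toBA f i).range := fun j => by
    by_cases hj : j = i
    · subst hj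
      exact ⟨1, (map_one _).trans (frac_self _).symm⟩
    · exact ⟨Ideal.Quotient.mk _ (MvPolynomial.X ⟨j, hj⟩), MvPolynomial.aeval_X _ _⟩
  refine (AlgHom.mem_range (toBA f i)).1 (induction_frac (P := fun z => z ∈ (toBA f i).range)
    (fun r => (AlgHom.mem_range _).2 ⟨algebraMap A _ r, (toBA f i).commutes r⟩) (fun x hx => ?_)
    (fun _ _ => add_mem) (fun _ _ => mul_mem) z)
  obtain ⟨c, hc⟩ := Ideal.mem_span_range_iff_exists_fun.1 hx
  rw [frac_linear c f (fun j => Ideal.subset_span (Set.mem_range_self j)) x hx hc]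
  exact sum_mem fun j _ => mul_mem ((toBA f i).range.algebraMap_mem _) (hX j)

omit [Fintype ι] in
theorem exists_pow_mul (z : AdicRing.chartAlg f i) :
    ∃ (N : ℕ) (a : A), algebraMap A (AdicRing.chartAlg f i) (f i) ^ N * z = algebraMap A _ a := by
  obtain ⟨p, rfl⟩ := Ideal.Quotient.mk_surjective z
  induction p using MvPolynomial.induction_on with
  | C a => exact ⟨0, a, by rw [pow_zero, one_mul]; rfl⟩
  | add p q hp hq =>
    obtain ⟨N, a, ha⟩ := hp
    obtain ⟨M, b, hb⟩ := hq
    refine ⟨N + M, f i ^ M * a + f i ^ N * b, ?_⟩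
    simp only [map_add, map_mul, map_pow]
    rw [← ha, ← hb]
    ring
  | mul_X p j hp =>
    obtain ⟨N, a, ha⟩ := hp
    refine ⟨N + 1, a * f j.1, ?_⟩
    have hj : algebraMap A (AdicRing.chartAlg f i) (f i) * Ideal.Quotient.mk _ (MvPolynomial.X j) =
        algebraMap A _ (f j.1) := Ideal.Quotient.eq.2 (Ideal.subset_span ⟨j, rfl⟩)
    rw [map_mul, map_mul, ← ha, ← hj]
    ring

theorem exists_pow_of_toBA_eq_zero {z : AdicRing.chartAlg f i} (hz : toBA f i z = 0) :
    ∃ m : ℕ, algebraMap A (AdicRing.chartAlg f i) (f i) ^ m * z = 0 := by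
  obtain ⟨N, a, ha⟩ := exists_pow_mul f i z
  have h1 : algebraMap A (BA f i) a = 0 := by
    rw [← AlgHom.commutes (toBA f i), ← ha, map_mul, hz, mul_zero]
  obtain ⟨⟨_, M, rfl⟩, hM⟩ := (IsLocalization.map_eq_zero_iff (Submonoid.powers (f i)) (Localization.Away (f i)) a).1
    (congrArg Subtype.val h1)
  refine ⟨M + N, ?_⟩
  rw [pow_add, mul_assoc, ha, ← map_pow, ← map_mul]
  exact (congrArg (algebraMap A _) hM).trans (map_zero _)

omit [Fintype ι] in
theorem exists_approx {C : Type u} [CommRing C] {J : Ideal C} (hJ : J.FG) (k : ℕ) (x : AdicCompletion J C) :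
    ∃ c : C, x - algebraMap C (AdicCompletion J C) c ∈ (J ^ k).map (algebraMap C (AdicCompletion J C)) ∧
      AdicCompletion.evalₐ J k x = Ideal.Quotient.mk _ c := by
  obtain ⟨c, hc⟩ := Ideal.Quotient.mk_surjective (AdicCompletion.eval J C k x)
  have hmem : x - algebraMap C (AdicCompletion J C) c ∈ J ^ k • (⊤ : Submodule C (AdicCompletion J C)) := by
    rw [AdicCompletion.pow_smul_top_eq_ker_eval hJ, LinearMap.mem_ker, map_sub, sub_eq_zero, ← hc]
    rfl
  rw [Ideal.smul_top_eq_map, Submodule.restrictScalars_mem] at hmem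
  refine ⟨c, hmem, ?_⟩
  have h1 : (J ^ k).map ((AdicCompletion.evalₐ J k).toRingHom.comp (algebraMap C (AdicCompletion J C))) ≤ ⊥ := by
    refine Ideal.map_le_iff_le_comap.2 fun a ha => Ideal.mem_comap.2 (Ideal.mem_bot.2 ?_)
    exact ((AdicCompletion.evalₐ J k).commutes a).trans (Ideal.Quotient.eq_zero_iff_mem.2 ha)
  have h2 := Ideal.mem_map_of_mem (AdicCompletion.evalₐ J k).toRingHom hmem
  rw [Ideal.map_map] at h2
  have h3 : AdicCompletion.evalₐ J k (x - algebraMap C _ c) = 0 := Ideal.mem_bot.1 (h1 h2)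
  rw [map_sub, sub_eq_zero, AlgHom.commutes] at h3
  exact h3

omit [Fintype ι] in
/-- Evaluation of a completion on a flat quotient kills the torsion of an element regular downstairs. -/
theorem exists_evalHom {C B : Type u} [CommRing C] [CommRing B] (β : C →+* B) {J : Ideal C} (hJ : J.FG)
    {JB : Ideal B} (hJB : JB.FG) (hmap : J.map β ≤ JB) [Module.Flat B (AdicCompletion JB B)] (n : ℕ) :
    ∃ ε : AdicCompletion J C →+* B ⧸ JB ^ n, (∀ c, ε (algebraMap C _ c) = Ideal.Quotient.mk _ (β c)) ∧
      ∀ (a : C) (x : AdicCompletion J C), β a ∈ nonZeroDivisors B →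
        algebraMap C (AdicCompletion J C) a * x = 0 → ε x = 0 := by
  let Bh := AdicCompletion JB B
  letI : Algebra C B := β.toAlgebra
  letI : Algebra C Bh := ((algebraMap B Bh).comp β).toAlgebra
  haveI : IsAdicComplete (JB.map (algebraMap B Bh)) Bh := AdicCompletion.isAdicComplete_self _ hJB
  obtain ⟨G, hG⟩ := AdicRingLib.exists_algHom_completion J (JB.map (algebraMap B Bh)) (Algebra.ofId C Bh) (by
    show Ideal.map ((algebraMap B Bh).comp β) _ ≤ _
    rw [← Ideal.map_map]
    exact Ideal.map_mono hmap)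
  let ε : AdicCompletion J C →+* B ⧸ JB ^ n := (AdicCompletion.evalₐ JB n).toRingHom.comp G.toRingHom
  have hε : ∀ c, ε (algebraMap C _ c) = Ideal.Quotient.mk _ (β c) := fun c => by
    show AdicCompletion.evalₐ JB n (G (algebraMap C _ c)) = _
    rw [hG]
    exact (AdicCompletion.evalₐ JB n).commutes (β c)
  refine ⟨ε, hε, fun a x ha hax => ?_⟩
  have h1 := congrArg G hax
  rw [map_mul, hG, _root_.map_zero] at h1
  have h2 : G x = 0 :=
    (Module.Flat.isSMulRegular_of_nonZeroDivisors ha).right_eq_zero_of_smul ((Algebra.smul_def _ _).trans h1)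
  show AdicCompletion.evalₐ JB n (G x) = 0
  rw [h2, _root_.map_zero]

variable {R : Type u} [CommRing R] [Algebra R A] (I : Ideal R)

theorem exists_chartAdm_hom (hR : AdicRing.IsBase R I) (hA : AdicRing.TopFiniteType R I A) :
    ∃ δ : BA f i →+* AdicRing.chartAdm I f i,
      δ.comp (algebraMap A (BA f i)) = algebraMap A (AdicRing.chartAdm I f i) ∧
      ∀ n : ℕ,
        Function.Surjective ((Ideal.Quotient.mk ((I.map (algebraMap R (AdicRing.chartAdm I f i))) ^ (n + 1))).comp δ) ∧
        RingHom.ker ((Ideal.Quotient.mk ((I.map (algebraMap R (AdicRing.chartAdm I f i))) ^ (n + 1))).comp δ) =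
          ((I.map (algebraMap R A)) ^ (n + 1)).map (algebraMap A (BA f i)) := by
  classical
  have hI := AdicRingLib.isBase_fg hR
  let C := AdicRing.chartAlg f i
  let B := BA f i
  let β : C →ₐ[A] B := toBA f i
  let Ch := AdicRing.chartCompl I f i
  let T : Ideal Ch := ⨆ n : ℕ, Submodule.torsionBy Ch Ch (algebraMap A Ch (f i) ^ n)
  have hdir : Monotone fun n : ℕ => Submodule.torsionBy Ch Ch (algebraMap A Ch (f i) ^ n) := by
    intro n m h x hx
    rw [Submodule.mem_torsionBy_iff, smul_eq_mul] at hx ⊢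
    rw [← Nat.sub_add_cancel h, pow_add, mul_assoc, hx, mul_zero]
  let γ : C →+* AdicRing.chartAdm I f i := (Ideal.Quotient.mk T).comp (algebraMap C Ch)
  have hγker : RingHom.ker β.toRingHom ≤ RingHom.ker γ := fun z hz => by
    obtain ⟨m, hm⟩ := exists_pow_of_toBA_eq_zero f i hz
    refine RingHom.mem_ker.2 (Ideal.Quotient.eq_zero_iff_mem.2 (Submodule.mem_iSup_of_mem m ?_))
    rw [Submodule.mem_torsionBy_iff, smul_eq_mul, IsScalarTower.algebraMap_apply A C Ch, ← map_pow, ← map_mul, hm]
    exact _root_.map_zero _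
  let δ : B →+* AdicRing.chartAdm I f i := β.toRingHom.liftOfSurjective (toBA_surjective f i) ⟨γ, hγker⟩
  have hδ : ∀ c, δ (β c) = γ c := fun c => β.toRingHom.liftOfRightInverse_comp_apply _ _ ⟨γ, hγker⟩ c
  have hδA : ∀ a, δ (algebraMap A B a) = algebraMap A (AdicRing.chartAdm I f i) a := fun a => by
    rw [← β.commutes a, hδ]
    show Ideal.Quotient.mk T (algebraMap C Ch (algebraMap A C a)) = _
    rw [← IsScalarTower.algebraMap_apply]
    rfl
  have hJC : (I.map (algebraMap R C)).FG := hI.map _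
  refine ⟨δ, RingHom.ext hδA, fun n => ?_⟩
  have hK : ((I.map (algebraMap R A)) ^ (n + 1)).map (algebraMap A B) = (I.map (algebraMap R B)) ^ (n + 1) := by
    rw [Ideal.map_pow, Ideal.map_map]
    rfl
  have hI' : (I ^ (n + 1)).map (algebraMap R (AdicRing.chartAdm I f i)) =
      I.map (algebraMap R (AdicRing.chartAdm I f i)) ^ (n + 1) := Ideal.map_pow _ _ _
  refine ⟨fun y => ?_, le_antisymm (fun b hb => ?_) ?_⟩
  · obtain ⟨y, rfl⟩ := Ideal.Quotient.mk_surjective y
    obtain ⟨x, rfl⟩ := Ideal.Quotient.mk_surjective y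
    obtain ⟨c, hc, -⟩ := exists_approx hJC (n + 1) x
    refine ⟨β c, ?_⟩
    show Ideal.Quotient.mk _ (δ (β c)) = _
    rw [hδ]
    refine (Ideal.Quotient.eq.2 ?_).symm
    have h1 := Ideal.mem_map_of_mem (Ideal.Quotient.mk T) hc
    rw [Ideal.map_map, Ideal.map_pow, Ideal.map_map, map_sub] at h1
    exact h1
  · haveI : Algebra.FiniteType A B := Algebra.FiniteType.of_surjective β (toBA_surjective f i)
    haveI : Module.Flat B (AdicCompletion (I.map (algebraMap R B)) B) :=
      (AdicRingLib.hasAR_finiteType hR A hA B).flat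
    obtain ⟨ε₀, hε₀, hε₀T⟩ := exists_evalHom β.toRingHom hJC (hI.map (algebraMap R B))
      (le_of_eq ((Ideal.map_map _ _).trans (congrArg (fun h => Ideal.map h I) (β.restrictScalars R).comp_algebraMap)))
      (n + 1)
    have hεT : ∀ x ∈ T, ε₀ x = 0 := fun x hx => by
      obtain ⟨m, hm⟩ := (Submodule.mem_iSup_of_directed _ hdir.directed_le).1 hx
      rw [Submodule.mem_torsionBy_iff, smul_eq_mul, IsScalarTower.algebraMap_apply A C Ch, ← map_pow] at hm
      refine hε₀T _ x ?_ hm
      rw [map_pow]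
      exact pow_mem ((β.commutes (f i)).symm ▸ BlowChartLib.mem_nonZeroDivisors) m
    let ε : AdicRing.chartAdm I f i →+* B ⧸ I.map (algebraMap R B) ^ (n + 1) := Ideal.Quotient.lift T ε₀ hεT
    have hεδ : ∀ b, ε (δ b) = Ideal.Quotient.mk _ b := fun b => by
      obtain ⟨c, rfl⟩ := toBA_surjective f i b
      rw [hδ]
      exact hε₀ c
    have hεR : ε.comp (algebraMap R (AdicRing.chartAdm I f i)) =
        (Ideal.Quotient.mk (I.map (algebraMap R B) ^ (n + 1))).comp (algebraMap R B) := RingHom.ext fun r => by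
      show ε₀ (algebraMap R Ch r) = _
      rw [IsScalarTower.algebraMap_apply R C Ch, hε₀]
      exact congrArg (Ideal.Quotient.mk _) ((β.restrictScalars R).commutes r)
    rw [hK]
    rw [RingHom.mem_ker, RingHom.comp_apply, Ideal.Quotient.eq_zero_iff_mem, ← hI'] at hb
    have h3 := Ideal.mem_map_of_mem ε hb
    rw [Ideal.map_map, hεR, ← Ideal.map_map, Ideal.map_pow, hεδ, Ideal.map_quotient_self, Ideal.mem_bot,
      Ideal.Quotient.eq_zero_iff_mem] at h3
    exact h3
  · refine Ideal.map_le_iff_le_comap.2 fun a ha => ?_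
    rw [Ideal.mem_comap, RingHom.mem_ker, RingHom.comp_apply, hδA, Ideal.Quotient.eq_zero_iff_mem, ← hI']
    have h1 := Ideal.mem_map_of_mem (algebraMap A (AdicRing.chartAdm I f i)) ha
    rw [← Ideal.map_pow, Ideal.map_map, ← IsScalarTower.algebraMap_eq] at h1
    exact h1

end Groth.Agent.FBlowLib
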