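import Groth.Agent.FBlowLib.ImgIdeal

/-!
# The locus on which one element generates the ideal of a formal blow-up
-/

set_option autoImplicit false
set_option linter.style.haveILetI false
set_option backward.isDefEq.respectTransparency false
set_option backward.isDefEq.respectTransparency.types false
set_option maxHeartbeats 400000
universe u

open CategoryTheory CategoryTheory.Limits AlgebraicGeometry TopologicalSpace Opposite

noncomputable section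

namespace Groth.Agent.FBlowLib

open Groth.Agent.FCompl Groth.Agent.BlowChartLib

variable {A : Type u} [CommRing A] {𝔜 : FSch.Sys.{u}} (h : 𝔜.IsFormal)
  (y : ∀ n, 𝔜.X n ⟶ Spec (CommRingCat.of A)) (hy : ∀ n, 𝔜.ι n ≫ y (n + 1) = y n)

lemma mem_lvU_zero (V : (𝔜.X 0).Opens) (z : 𝔜.X 0) : z ∈ 𝔜.lvU h 0 V ↔ z ∈ V := by
  have e : 𝔜.gInv h 0 z = z := congr($(𝔜.toX_base_gInv h 0) z)
  show 𝔜.gInv h 0 z ∈ V ↔ _
  rw [e]

/-- A section that is a unit on the smallest level is a unit. -/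
theorem isUnit_of_pr_zero {V : (𝔜.X 0).Opens} {t : OR 𝔜 h V} (ht : IsUnit (pr 𝔜 h V 0 t)) : IsUnit t := by
  have hu : ∀ n, IsUnit (pr 𝔜 h V n t) := fun n => by
    refine (𝔜.X n).toRingedSpace.isUnit_of_isUnit_germ _ _ fun z hz => ?_
    obtain ⟨w, rfl⟩ : ∃ w, (𝔜.toX n) w = z := ⟨𝔜.gInv h n z, congr($(𝔜.gInv_toX_base h n) z)⟩
    have hw : w ∈ 𝔜.toX n ⁻¹ᵁ (𝔜.X n).basicOpen (pr 𝔜 h V n t) := by
      have hmem : w ∈ 𝔜.lvU h 0 V := by
        rw [← toX_preimage_eq 𝔜 h V n]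
        exact hz
      have h1 : w ∈ (𝔜.X 0).basicOpen (cm 𝔜 h V n (pr 𝔜 h V n t)) := by
        rw [cm_pr, Scheme.basicOpen_of_isUnit _ ht]
        exact hmem
      rw [cm, Scheme.basicOpen_appLE] at h1
      exact h1.2
    exact ((𝔜.X n).mem_basicOpen _ _ hz).1 hw
  obtain ⟨s, hs⟩ := osh_lift (fun n => ((hu n).unit⁻¹ : (LR 𝔜 h V n)ˣ).1) fun n => by
    refine left_inv_eq_right_inv (a := pr 𝔜 h V n t) ?_ (hu n).mul_val_inv
    refine Eq.trans (congrArg (_ * ·) (tr_pr 𝔜 h V n t).symm) ?_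
    rw [← map_mul, (hu (n + 1)).val_inv_mul, map_one]
  exact IsUnit.of_mul_eq_one s (osh_ext fun n => by rw [map_mul, hs, (hu n).mul_val_inv, map_one])

/-- A section whose value at a point is a unit is a unit near the point. -/
theorem exists_isUnit_rsO {V : (𝔜.X 0).Opens} {t : OR 𝔜 h V} {x : 𝔜.X 0}
    (hx : x ∈ (𝔜.X 0).basicOpen (pr 𝔜 h V 0 t)) :
    ∃ (W : (𝔜.X 0).Opens) (i : W ≤ V), x ∈ W ∧ IsUnit (rsO 𝔜 h i t) := by
  let W := (𝔜.X 0).basicOpen (pr 𝔜 h V 0 t)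
  have i : W ≤ V := fun z hz => (mem_lvU_zero h V z).1 ((𝔜.X 0).basicOpen_le _ hz)
  refine ⟨W, i, hx, isUnit_of_pr_zero h ?_⟩
  rw [pr_rsO]
  refine (𝔜.X 0).toRingedSpace.isUnit_of_isUnit_germ _ _ fun z hz => ?_
  refine ((𝔜.X 0).mem_basicOpen _ _ hz).1 ?_
  rw [rsL, Scheme.basicOpen_res]
  exact ⟨hz, (mem_lvU_zero h W z).1 hz⟩

/-- A unit section has unit values. -/
theorem mem_basicOpen_of_isUnit {V W : (𝔜.X 0).Opens} (i : W ≤ V) {t : OR 𝔜 h V} {x : 𝔜.X 0} (hx : x ∈ W)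
    (ht : IsUnit (rsO 𝔜 h i t)) : x ∈ (𝔜.X 0).basicOpen (pr 𝔜 h V 0 t) := by
  have h1 := ht.map (pr 𝔜 h W 0)
  rw [pr_rsO, rsL] at h1
  have h2 := Scheme.basicOpen_of_isUnit _ h1
  rw [Scheme.basicOpen_res] at h2
  exact (h2.ge ((mem_lvU_zero h W x).2 hx)).2

/-- Near the point the image of the ideal is generated by one element. -/
def GenAt (𝔞 : Ideal A) (a : A) (x : 𝔜.X 0) : Prop :=
  ∃ V : (𝔜.X 0).Opens, x ∈ V ∧ 𝔞.map (img h y hy V) ≤ Ideal.span {img h y hy V a}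

theorem setOf_sect_eq {ι : Type} [Finite ι] (f : ι → A) (i : ι) :
    {x : 𝔜.X 0 | ∃ V : (𝔜.X 0).Opens, x ∈ V ∧ ∀ V' : (𝔜.X 0).Opens, V' ≤ V →
      (aSh h y hy (Ideal.span (Set.range f))).sect V' = (aSh h y hy (Ideal.span {f i})).sect V'} =
    {x | GenAt h y hy (Ideal.span (Set.range f)) (f i) x} := by
  refine Set.ext fun x => ⟨?_, ?_⟩
  · rintro ⟨V, hxV, hV⟩
    have key : ∀ j, ∃ (W : (𝔜.X 0).Opens) (k : W ≤ V), x ∈ W ∧
        img h y hy W (f j) ∈ Ideal.span {img h y hy W (f i)} := fun j => by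
      have hm : img h y hy V (f j) ∈ (aSh h y hy (Ideal.span (Set.range f))).sect V :=
        map_img_le_aSh h y hy _ V (Ideal.mem_map_of_mem _ (Ideal.subset_span ⟨j, rfl⟩))
      rw [hV V le_rfl] at hm
      obtain ⟨W, k, hxW, hW⟩ := exists_of_mem_aSh h y hy hm hxV
      rw [rsO_img, Ideal.map_span, Set.image_singleton] at hW
      exact ⟨W, k, hxW, hW⟩
    choose W k hxW hW using key
    refine ⟨⟨V ∩ ⋂ j, (W j : Set (𝔜.X 0)), V.isOpen.inter (isOpen_iInter_of_finite fun j => (W j).isOpen)⟩,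
      ⟨hxV, Set.mem_iInter.2 hxW⟩, ?_⟩
    rw [Ideal.map_span, Ideal.span_le]
    rintro _ ⟨_, ⟨j, rfl⟩, rfl⟩
    have hle : (⟨V ∩ ⋂ j, (W j : Set (𝔜.X 0)), V.isOpen.inter (isOpen_iInter_of_finite fun j => (W j).isOpen)⟩ :
        (𝔜.X 0).Opens) ≤ W j := fun z hz => Set.mem_iInter.1 hz.2 j
    have h1 := Ideal.mem_map_of_mem (rsO 𝔜 h hle) (hW j)
    rw [Ideal.map_span, Set.image_singleton, rsO_img, rsO_img] at h1
    exact h1
  · rintro ⟨V, hxV, hV⟩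
    refine ⟨V, hxV, fun V' hV' => le_antisymm (fun s hs => ?_) ?_⟩
    · refine (aSh h y hy _).mem_of_local fun z hz => ?_
      obtain ⟨W, k, hzW, hW⟩ := exists_of_mem_aSh h y hy hs hz
      refine ⟨W, k, hzW, map_img_le_aSh h y hy _ W ?_⟩
      have h1 := Ideal.map_mono (f := rsO 𝔜 h (k.trans hV')) hV
      rw [map_img] at h1
      replace h1 := h1.trans (le_of_eq (show (Ideal.span {img h y hy V (f i)}).map (rsO 𝔜 h (k.trans hV')) =
        Ideal.span {img h y hy W (f i)} by rw [Ideal.map_span, Set.image_singleton, rsO_img]))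
      rw [Ideal.map_span (f := img h y hy W) (s := {f i}), Set.image_singleton]
      exact h1 hW
    · refine FBlow.IdealSh.gen_le ?_ V'
      rintro U _ ⟨a, ha, rfl⟩
      exact FBlow.IdealSh.subset_gen (fun W => img h y hy W '' (Ideal.span (Set.range f) : Set A)) U
        (Set.mem_image_of_mem _ (Ideal.span_mono (Set.singleton_subset_iff.2 (Set.mem_range_self i) : ({f i} : Set A) ⊆ Set.range f) ha))

/-- On an invertible image some generator generates near each point. -/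
theorem exists_genAt {ι : Type} [Fintype ι] (f : ι → A)
    (hinv : (aSh h y hy (Ideal.span (Set.range f))).IsInvertible) (x : 𝔜.X 0) :
    ∃ i, GenAt h y hy (Ideal.span (Set.range f)) (f i) x := by
  obtain ⟨V, -, hxV, -, c, hc, hcV⟩ := exists_affine_gen h y hy hinv (W₀ := ⊤) (x := x) trivial
  rw [Ideal.map_span, ← Set.range_comp] at hcV
  have hmem : ∀ j, ∃ t, t * c = img h y hy V (f j) := fun j =>
    Ideal.mem_span_singleton'.1 (hcV.le (Ideal.subset_span ⟨j, rfl⟩))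
  choose t ht using hmem
  obtain ⟨s, hs⟩ := (Ideal.mem_span_range_iff_exists_fun).1 (hcV.ge (Ideal.mem_span_singleton_self c))
  have hsum : ∑ j, s j * t j = 1 := by
    refine (mul_cancel_right_mem_nonZeroDivisors hc).1 ?_
    rw [one_mul, Finset.sum_mul]
    refine Eq.trans (Finset.sum_congr rfl fun j _ => ?_) hs
    rw [mul_assoc, ht]
    rfl
  have hxl : x ∈ 𝔜.lvU h 0 V := (mem_lvU_zero h V x).2 hxV
  let g : OR 𝔜 h V →+* (𝔜.X 0).presheaf.stalk x :=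
    ((𝔜.X 0).presheaf.germ (𝔜.lvU h 0 V) x hxl).hom.comp (pr 𝔜 h V 0)
  obtain ⟨i, hi⟩ : ∃ i, IsUnit (g (t i)) := by
    by_contra hcon
    push_neg at hcon
    have h1 : g (∑ j, s j * t j) ∈ IsLocalRing.maximalIdeal ((𝔜.X 0).presheaf.stalk x) := by
      rw [map_sum]
      refine Ideal.sum_mem _ fun j _ => ?_
      rw [map_mul]
      exact Ideal.mul_mem_left _ _ (hcon j)
    rw [hsum, map_one] at h1
    exact (IsLocalRing.maximalIdeal.isMaximal _).ne_top ((Ideal.eq_top_iff_one _).2 h1)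
  obtain ⟨W, k, hxW, hW⟩ := exists_isUnit_rsO h (((𝔜.X 0).mem_basicOpen _ x hxl).2 hi)
  refine ⟨i, W, hxW, ?_⟩
  obtain ⟨u, hu⟩ := hW.exists_left_inv
  rw [Ideal.map_span, Ideal.span_le]
  rintro _ ⟨_, ⟨j, rfl⟩, rfl⟩
  refine Ideal.mem_span_singleton'.2 ⟨rsO 𝔜 h k (t j) * u, ?_⟩
  rw [← rsO_img h y hy k (f i), ← rsO_img h y hy k (f j), ← ht i, ← ht j, map_mul, map_mul, mul_assoc,
    ← mul_assoc u, hu, one_mul]

section Hom

variable {𝔜' : FSch.Sys.{u}} (h' : 𝔜'.IsFormal) (y' : ∀ n, 𝔜'.X n ⟶ Spec (CommRingCat.of A))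
  (hy' : ∀ n, 𝔜'.ι n ≫ y' (n + 1) = y' n) (m : 𝔜 ⟶ 𝔜')
  (hm : ∀ n, (m : FSch.Hom 𝔜 𝔜').app n ≫ y' n = y n)

include hm in
lemma sharp_img (V : (𝔜'.X 0).Opens) (a : A) :
    (FSch.Hom.sharp m h h').hom.app (op V) (img h' y' hy' V a) =
      img h y hy ((m : FSch.Hom 𝔜 𝔜').app 0 ⁻¹ᵁ V) a := by
  apply osh_ext (h := h) (U := (m : FSch.Hom 𝔜 𝔜').app 0 ⁻¹ᵁ V)
  intro n
  refine (pr_sharp h h' m V (img h' y' hy' V a) n).trans ?_
  rw [pr_img, pr_img, ← hm n]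
  simp only [secHom, CommRingCat.hom_comp, RingHom.comp_apply]
  exact ConcreteCategory.congr_hom (Scheme.Hom.appLE_comp_appLE ((m : FSch.Hom 𝔜 𝔜').app n) (y' n) ⊤
    (𝔜'.lvU h' n V) (𝔜.lvU h n ((m : FSch.Hom 𝔜 𝔜').app 0 ⁻¹ᵁ V)) le_top
    (FSch.Hom.lvU_preimage m h h' n V).ge) _

include hm in
theorem genAt_of_hom {𝔞 : Ideal A} {a : A} {x : 𝔜.X 0}
    (hx : GenAt h' y' hy' 𝔞 a ((m : FSch.Hom 𝔜 𝔜').app 0 x)) : GenAt h y hy 𝔞 a x := by
  obtain ⟨V, hxV, hV⟩ := hx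
  refine ⟨(m : FSch.Hom 𝔜 𝔜').app 0 ⁻¹ᵁ V, hxV, Ideal.map_le_iff_le_comap.2 fun b hb => Ideal.mem_comap.2 ?_⟩
  have h1 := Ideal.mem_map_of_mem ((FSch.Hom.sharp m h h').hom.app (op V)).hom (hV (Ideal.mem_map_of_mem _ hb))
  rw [Ideal.map_span, Set.image_singleton] at h1
  rw [← sharp_img h y hy h' y' hy' m hm V b, ← sharp_img h y hy h' y' hy' m hm V a]
  exact h1

include hy in
theorem genAt_iso_iff (e : 𝔜 ≅ 𝔜') (he : ∀ n, (e.hom : FSch.Hom 𝔜 𝔜').app n ≫ y' n = y n) (𝔞 : Ideal A) (a : A)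
    (x : 𝔜.X 0) : GenAt h y hy 𝔞 a x ↔ GenAt h' y' hy' 𝔞 a ((e.hom : FSch.Hom 𝔜 𝔜').app 0 x) := by
  have hid : ∀ n, (e.hom : FSch.Hom 𝔜 𝔜').app n ≫ (e.inv : FSch.Hom 𝔜' 𝔜).app n = 𝟙 _ := fun n =>
    congrArg (fun t => FSch.Hom.app t n) e.hom_inv_id
  have hid' : ∀ n, (e.inv : FSch.Hom 𝔜' 𝔜).app n ≫ (e.hom : FSch.Hom 𝔜 𝔜').app n = 𝟙 _ := fun n =>
    congrArg (fun t => FSch.Hom.app t n) e.inv_hom_id
  refine ⟨fun hx => ?_, genAt_of_hom h y hy h' y' hy' e.hom he⟩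
  refine genAt_of_hom h' y' hy' h y hy e.inv (fun n => ?_) ?_
  · rw [← he n, ← Category.assoc, hid', Category.id_comp]
  · have : (e.inv : FSch.Hom 𝔜' 𝔜).app 0 ((e.hom : FSch.Hom 𝔜 𝔜').app 0 x) = x :=
      congr($(hid 0) x)
    rwa [this]

end Hom

end Groth.Agent.FBlowLib
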