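import Groth.Agent.FBlowLib.ComplBlowMain
import Groth.Agent.FBlowLib.GenLocus
import Groth.Agent.FBlowLib.ChartAdm
import Groth.Agent.BlowChartLib.Transport
import Groth.Prelude.Def_FSch6
import Groth.Agent.S3854

/-!
# The charts of an admissible formal blow-up of an affine formal scheme
-/

set_option autoImplicit false
set_option linter.style.haveILetI false
set_option backward.isDefEq.respectTransparency false
set_option backward.isDefEq.respectTransparency.types false
set_option maxHeartbeats 1000000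
universe u

open CategoryTheory CategoryTheory.Limits AlgebraicGeometry TopologicalSpace Opposite

noncomputable section

namespace Groth.Agent.FBlowLib

open Groth.Agent.FCompl Groth.Agent.BlowChartLib

variable {A : Type u} [CommRing A]

theorem exists_spfIso (K : Ideal A) :
    ∃ η : FSch.spf A K ≅ FSch.completionAlong (Spec (CommRingCat.of A)) (FSch.idealSpec A K),
      ∀ n, (η.hom : FSch.Hom _ _).app n ≫ FSch.completionToX (Spec (CommRingCat.of A)) (FSch.idealSpec A K) n =
        FSch.spfToSpec A K n := by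
  have hex : ∀ n, ∃ σ : Spec (CommRingCat.of (A ⧸ K ^ (n + 1))) ≅ (FSch.idealSpec A K ^ (n + 1)).subscheme,
      σ.hom ≫ (FSch.idealSpec A K ^ (n + 1)).subschemeι = CohB1.specQuot K n := fun n => by
    haveI : IsClosedImmersion (CohB1.specQuot K n) := IsClosedImmersion.spec_of_surjective _ Ideal.Quotient.mk_surjective
    have hker : FSch.idealSpec A K ^ (n + 1) = FSch.idealSpec A (K ^ (n + 1)) := by
      refine Scheme.IdealSheafData.ext_of_isAffine ?_
      rw [Scheme.IdealSheafData.ideal_pow, Pi.pow_apply, S3873.idealSpec_top, S3873.idealSpec_top, Ideal.map_pow]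
    rw [hker]
    exact ⟨asIso (CohB1.specQuot K n).toImage, (CohB1.specQuot K n).toImage_imageι⟩
  choose σ hσ using hex
  have hσt : ∀ n, (σ n).hom ≫ (FSch.completionAlong (Spec (CommRingCat.of A)) (FSch.idealSpec A K)).ι n =
      (FSch.spf A K).ι n ≫ (σ (n + 1)).hom := fun n => by
    rw [← cancel_mono (FSch.idealSpec A K ^ (n + 1 + 1)).subschemeι, Category.assoc, Category.assoc, hσ,
      FSch.completionToX_comm (Spec (CommRingCat.of A)) (FSch.idealSpec A K) n, hσ]
    exact (FSch.spfToSpec_comm A K n).symm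
  exact ⟨{ hom := ⟨fun n => (σ n).hom, hσt⟩
           inv := ⟨fun n => (σ n).inv, fun n => by
             rw [Iso.inv_comp_eq, ← Category.assoc, hσt, Category.assoc, Iso.hom_inv_id, Category.comp_id]⟩
           hom_inv_id := FSch.Hom.ext (funext fun n => (σ n).hom_inv_id)
           inv_hom_id := FSch.Hom.ext (funext fun n => (σ n).inv_hom_id) }, hσ⟩

theorem isFormal_completion (X : Scheme.{u}) (𝓘 : X.IdealSheafData) : (FSch.completionAlong X 𝓘).IsFormal :=
  fun _ => ⟨S3854.isClosedImmersion_inclusion _, S3854.surjective_inclusion _ (by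
    rw [Scheme.IdealSheafData.support_pow_succ, Scheme.IdealSheafData.support_pow_succ])⟩

lemma aSh_congr {𝔜 : FSch.Sys.{u}} (h : 𝔜.IsFormal) {y y' : ∀ n, 𝔜.X n ⟶ Spec (CommRingCat.of A)} (e : y = y')
    (hy : ∀ n, 𝔜.ι n ≫ y (n + 1) = y n) (hy' : ∀ n, 𝔜.ι n ≫ y' (n + 1) = y' n) (𝔞 : Ideal A) :
    aSh h y hy 𝔞 = aSh h y' hy' 𝔞 := by
  subst e
  rfl

/-- Transfer of an admissible blow-up of the completion of an affine scheme to the formal spectrum. -/
theorem isAdmBlowUp_of_spfIso {K : Ideal A} {𝔞 : Ideal A}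
    (η : FSch.spf A K ≅ FSch.completionAlong (Spec (CommRingCat.of A)) (FSch.idealSpec A K))
    (hη : ∀ n, (η.hom : FSch.Hom _ _).app n ≫ FSch.completionToX (Spec (CommRingCat.of A)) (FSch.idealSpec A K) n =
        FSch.spfToSpec A K n)
    (hC : (FSch.completionAlong (Spec (CommRingCat.of A)) (FSch.idealSpec A K)).IsFormal)
    (hS : (FSch.spf A K).IsFormal) {𝔓 : FSch.Sys.{u}} (hP : 𝔓.IsFormal)
    (c : 𝔓 ⟶ FSch.completionAlong (Spec (CommRingCat.of A)) (FSch.idealSpec A K))
    (hc : FBlow.IsAdmBlowUp c hP hC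
      (FBlow.schIdealMap (FSch.completionAlong (Spec (CommRingCat.of A)) (FSch.idealSpec A K)) hC
        (FSch.completionToX (Spec (CommRingCat.of A)) (FSch.idealSpec A K))
        (FSch.completionToX_comm (Spec (CommRingCat.of A)) (FSch.idealSpec A K))
        (FBlow.IdealSh.ofData (FSch.idealSpec A 𝔞)))) :
    FBlow.IsAdmBlowUp (c ≫ η.inv) hP hS (FBlow.schIdealMap (FSch.spf A K) hS (FSch.spfToSpec A K)
      (FSch.spfToSpec_comm A K) (FBlow.IdealSh.ofData (FSch.idealSpec A 𝔞))) := by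
  have hid : ∀ n, (η.hom : FSch.Hom _ _).app n ≫ (η.inv : FSch.Hom _ _).app n = 𝟙 _ := fun n =>
    congrArg (fun t => FSch.Hom.app t n) η.hom_inv_id
  have hid' : ∀ n, (η.inv : FSch.Hom _ _).app n ≫ (η.hom : FSch.Hom _ _).app n = 𝟙 _ := fun n =>
    congrArg (fun t => FSch.Hom.app t n) η.inv_hom_id
  have hη' : ∀ n, (η.inv : FSch.Hom _ _).app n ≫ FSch.spfToSpec A K n =
      FSch.completionToX (Spec (CommRingCat.of A)) (FSch.idealSpec A K) n := fun n => by
    rw [← hη n, ← Category.assoc, hid', Category.id_comp]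
  have adic : ∀ {𝔛 𝔜 ℨ : FSch.Sys.{u}} (g : 𝔛 ⟶ 𝔜) (e : 𝔜 ≅ ℨ), FSch.IsAdicHom g → FSch.IsAdicHom (g ≫ e.hom) :=
    fun g e hg n => by
      haveI : ∀ m, IsIso ((e.hom : FSch.Hom _ _).app m) := fun m => ⟨(e.inv : FSch.Hom _ _).app m,
        congrArg (fun t => FSch.Hom.app t m) e.hom_inv_id, congrArg (fun t => FSch.Hom.app t m) e.inv_hom_id⟩
      exact (hg n).paste_vert (IsPullback.of_vert_isIso ⟨((e.hom : FSch.Hom _ _).comm n).symm⟩)
  refine ⟨adic c η.symm hc.1, ?_, fun 𝔜 h𝔜 g hg hinv => ?_⟩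
  · rw [idealMap_schIdealMap_eq]
    have h1 := hc.2.1
    rw [idealMap_schIdealMap_eq] at h1
    rw [aSh_congr hP (funext fun n => by rw [FSch.comp_app, Category.assoc, hη']) _ (comp_comm c _
      (FSch.completionToX_comm (Spec (CommRingCat.of A)) (FSch.idealSpec A K)))]
    exact h1
  · have h1 : (FBlow.idealMap (g ≫ η.hom) h𝔜 hC (FBlow.schIdealMap
        (FSch.completionAlong (Spec (CommRingCat.of A)) (FSch.idealSpec A K)) hC
        (FSch.completionToX (Spec (CommRingCat.of A)) (FSch.idealSpec A K))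
        (FSch.completionToX_comm (Spec (CommRingCat.of A)) (FSch.idealSpec A K))
        (FBlow.IdealSh.ofData (FSch.idealSpec A 𝔞)))).IsInvertible := by
      rw [idealMap_schIdealMap_eq]
      rw [idealMap_schIdealMap_eq] at hinv
      rw [aSh_congr h𝔜 (funext fun n => by rw [FSch.comp_app, Category.assoc, hη]) _ (comp_comm g _
        (FSch.spfToSpec_comm A K))]
      exact hinv
    obtain ⟨k, hk, huniq⟩ := hc.2.2 𝔜 h𝔜 (g ≫ η.hom) (adic g η hg) h1
    refine ⟨k, ?_, fun k' hk' => huniq k' ?_⟩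
    · show k ≫ c ≫ η.inv = g
      rw [← Category.assoc, hk, Category.assoc, η.hom_inv_id, Category.comp_id]
    · rw [← hk', Category.assoc, Category.assoc, η.inv_hom_id, Category.comp_id]

/-- Two admissible blow-ups in one ideal are isomorphic over the base. -/
theorem exists_iso_of_isAdmBlowUp {𝔛 𝔛₁ 𝔛₂ : FSch.Sys.{u}} {h : 𝔛.IsFormal} {h₁ : 𝔛₁.IsFormal}
    {h₂ : 𝔛₂.IsFormal} {b₁ : 𝔛₁ ⟶ 𝔛} {b₂ : 𝔛₂ ⟶ 𝔛} {J : FBlow.IdealSh (𝔛.Osh h)}
    (hb₁ : FBlow.IsAdmBlowUp b₁ h₁ h J) (hb₂ : FBlow.IsAdmBlowUp b₂ h₂ h J) :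
    ∃ e : 𝔛₁ ≅ 𝔛₂, e.hom ≫ b₂ = b₁ := by
  obtain ⟨k, hk, -⟩ := hb₂.2.2 _ h₁ b₁ hb₁.1 hb₁.2.1
  obtain ⟨l, hl, -⟩ := hb₁.2.2 _ h₂ b₂ hb₂.1 hb₂.2.1
  exact ⟨⟨k, l, (hb₁.2.2 _ h₁ b₁ hb₁.1 hb₁.2.1).unique (by rw [Category.assoc, hl, hk]) (Category.id_comp _),
    (hb₂.2.2 _ h₂ b₂ hb₂.1 hb₂.2.1).unique (by rw [Category.assoc, hk, hl]) (Category.id_comp _)⟩, hk⟩

section Chart

/-- The top open of an affine spectrum. -/
abbrev topU : (Spec (CommRingCat.of A)).affineOpens := ⟨⊤, isAffineOpen_top _⟩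

variable {P : Scheme.{u}} (q : P ⟶ Spec (CommRingCat.of A)) (𝔞 : Ideal A)

/-- The open of the blow-up on which an element of the ring generates. -/
def chartU (a : A) : P.Opens :=
  chartOpen (FSch.idealSpec A 𝔞) topU ((Scheme.ΓSpecIso (CommRingCat.of A)).inv a) q

variable {q 𝔞}

theorem exists_chart_emb (hq : BlowUp.IsBlowUp q (FSch.idealSpec A 𝔞)) {a : A} (ha : a ∈ 𝔞) :
    ∃ (e : Spec (CommRingCat.of ↥(BlowUp.affineAlgebra A 𝔞 a)) ⟶ P) (_ : IsOpenImmersion e),
      e.opensRange = chartU q 𝔞 a ∧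
      e ≫ q = Spec.map (CommRingCat.ofHom (algebraMap A ↥(BlowUp.affineAlgebra A 𝔞 a))) := by
  let ε : A ≃+* Γ(Spec (CommRingCat.of A), ⊤) :=
    (Scheme.ΓSpecIso (CommRingCat.of A)).symm.commRingCatIsoToRingEquiv
  have hU : (FSch.idealSpec A 𝔞).ideal topU = 𝔞.map ε.toRingHom := S3873.idealSpec_top A 𝔞
  have haI : ε a ∈ (FSch.idealSpec A 𝔞).ideal topU := hU ▸ Ideal.mem_map_of_mem _ ha
  obtain ⟨η, hη⟩ := exists_equiv ε hU.symm ha
  let e' := BlowExistsLib.emb hq haI
  refine ⟨Spec.map η.toCommRingCatIso.inv ≫ e', inferInstance, ?_, ?_⟩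
  · rw [Scheme.Hom.opensRange_comp_of_isIso]
    exact BlowExistsLib.opensRange_emb hq haI
  · rw [Category.assoc, BlowExistsLib.emb_comp]
    show Spec.map η.toCommRingCatIso.inv ≫ Spec.map _ ≫ (isAffineOpen_top (Spec (CommRingCat.of A))).fromSpec = _
    rw [IsAffineOpen.fromSpec_top, Scheme.isoSpec_Spec_inv, ← Spec.map_comp, ← Spec.map_comp]
    refine congrArg Spec.map (CommRingCat.hom_ext (RingHom.ext fun r => ?_))
    show η.symm (algebraMap _ _ (ε r)) = algebraMap A _ r
    rw [RingEquiv.symm_apply_eq]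
    exact (RingHom.congr_fun hη r).symm

variable {R : Type u} [CommRing R] {I : Ideal R} [Algebra R A] (K : Ideal A)
  (hP : (FSch.completionAlong P ((FSch.idealSpec A K).comap q)).IsFormal)
  (hR : AdicRing.IsBase R I) (hA : AdicRing.TopFiniteType R I A) (hK : K = I.map (algebraMap R A))

include hR hA hK in
theorem genAt_iff (hq : BlowUp.IsBlowUp q (FSch.idealSpec A 𝔞)) (h𝔞 : 𝔞.FG) {a : A} (ha : a ∈ 𝔞)
    (x : (FSch.completionAlong P ((FSch.idealSpec A K).comap q)).X 0) :
    GenAt hP (fun n => FSch.completionToX P ((FSch.idealSpec A K).comap q) n ≫ q) (comm_toX q K) 𝔞 a x ↔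
      FSch.completionToX P ((FSch.idealSpec A K).comap q) 0 x ∈ chartU q 𝔞 a := by
  haveI : LocallyOfFiniteType q := BlowExistsLib.locallyOfFiniteType_of_FG hq fun U => by
    rw [ideal_idealSpec_le]; exact h𝔞.map _
  let p₀ := FSch.completionToX P ((FSch.idealSpec A K).comap q) 0
  let y := fun n => FSch.completionToX P ((FSch.idealSpec A K).comap q) n ≫ q
  have e : ∀ V : P.Opens, img hP y (comm_toX q K) (p₀ ⁻¹ᵁ V) = (FComplTF.shHom hP V).comp (secHom q V) := fun V =>
    RingHom.ext fun b => img_eq_sh q K hP V b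
  constructor
  · rintro ⟨W₁, hxW₁, hW₁⟩
    obtain ⟨U, hxU, g, hg, hgU⟩ := hq.1 (p₀ x)
    have hmem : secHom q U.1 a ∈ ((FSch.idealSpec A 𝔞).comap q).ideal U := by
      rw [ideal_comap_idealSpec]; exact Ideal.mem_map_of_mem _ ha
    rw [hgU] at hmem
    obtain ⟨d, hd⟩ := Ideal.mem_span_singleton'.1 hmem
    obtain ⟨V, -, hxV, hVle, c, hc, hcV⟩ := exists_affine_gen hP y (comm_toX q K)
      (isInvertible_completion q K hP hR hA hK hq.1) (W₀ := p₀ ⁻¹ᵁ U.1 ⊓ W₁) (x := x) ⟨hxU, hxW₁⟩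
    have i : V ≤ p₀ ⁻¹ᵁ U.1 := hVle.trans inf_le_left
    let s := rsO _ hP i (FComplTF.sh hP g)
    have hs : Ideal.span {c} = Ideal.span {s} := by
      rw [← hcV, ← map_img hP y (comm_toX q K) i, e, ← Ideal.map_map, ← ideal_comap_idealSpec, hgU,
        Ideal.map_span, Set.image_singleton, Ideal.map_span, Set.image_singleton]
      rfl
    have hsn : s ∈ nonZeroDivisors _ := by
      obtain ⟨t, ht⟩ := Ideal.mem_span_singleton'.1 (hs.le (Ideal.mem_span_singleton_self c))
      rw [← ht] at hc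
      exact (mul_mem_nonZeroDivisors.1 hc).2
    have ha' : img hP y (comm_toX q K) V a = rsO _ hP i (FComplTF.sh hP d) * s := by
      rw [← rsO_img hP y (comm_toX q K) i, e, RingHom.comp_apply, ← hd, map_mul, map_mul]
      rfl
    have hu : IsUnit (rsO _ hP i (FComplTF.sh hP d)) := by
      refine BlowExistsLib.isUnit_of_span_eq hsn ?_
      rw [← ha']
      have h1 := Ideal.map_mono (f := rsO _ hP (hVle.trans inf_le_right)) hW₁
      rw [map_img, Ideal.map_span, Set.image_singleton, rsO_img] at h1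
      exact h1 (hcV.ge.trans' hs.ge (Ideal.mem_span_singleton_self s))
    have hxd : p₀ x ∈ P.basicOpen d := by
      have h1 := mem_basicOpen_of_isUnit hP i hxV hu
      rw [FComplTF.pr_sh, FComplTF.pl, Scheme.basicOpen_appLE] at h1
      exact h1.2
    exact Opens.mem_iSup.2 ⟨⟨_, isGood_basicOpen (FSch.idealSpec A 𝔞) topU _ q
      (show U.1 ≤ q ⁻¹ᵁ (topU : (Spec (CommRingCat.of A)).affineOpens).1 from le_top) hg hgU hd.symm⟩, hxd⟩
  · intro hx
    obtain ⟨⟨V, e', hn, hI⟩, hxV⟩ := Opens.mem_iSup.1 hx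
    refine ⟨p₀ ⁻¹ᵁ V.1, hxV, le_of_eq ?_⟩
    rw [e, ← Ideal.map_map, ← ideal_comap_idealSpec, hI, Ideal.map_span, Set.image_singleton]
    rfl

theorem isPullback_spec_of_ker {B T : Type u} [CommRing B] [CommRing T] (φ : A →+* B) (J : Ideal A) (ψ : B →+* T)
    (hψ : Function.Surjective ψ) (hker : RingHom.ker ψ = J.map φ) (v : A ⧸ J →+* T)
    (hv : v.comp (Ideal.Quotient.mk J) = ψ.comp φ) :
    IsPullback (Spec.map (CommRingCat.ofHom ψ)) (Spec.map (CommRingCat.ofHom v)) (Spec.map (CommRingCat.ofHom φ))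
      (Spec.map (CommRingCat.ofHom (Ideal.Quotient.mk J))) := by
  let L : Ideal B := J.map φ
  haveI : IsClosedImmersion (Spec.map (CommRingCat.ofHom (Ideal.Quotient.mk L))) :=
    IsClosedImmersion.spec_of_surjective _ Ideal.Quotient.mk_surjective
  haveI : IsClosedImmersion (Spec.map (CommRingCat.ofHom (Ideal.Quotient.mk J))) :=
    IsClosedImmersion.spec_of_surjective _ Ideal.Quotient.mk_surjective
  let qm : A ⧸ J →+* B ⧸ L := Ideal.quotientMap L φ Ideal.le_comap_map
  have h0 : IsPullback (Spec.map (CommRingCat.ofHom (Ideal.Quotient.mk L))) (Spec.map (CommRingCat.ofHom qm))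
      (Spec.map (CommRingCat.ofHom φ)) (Spec.map (CommRingCat.ofHom (Ideal.Quotient.mk J))) := by
    refine AlgebraicGeometry.isPullback_of_isClosedImmersion _ _ _ _ ?_ ?_
    · rw [← Spec.map_comp, ← Spec.map_comp]
      rfl
    · show (FSch.idealSpec A J).comap _ = FSch.idealSpec B L
      exact S3873.result _ _ _ _
  let E : B ⧸ L ≃+* T := (Ideal.quotEquivOfEq hker.symm).trans (RingHom.quotientKerEquivOfSurjective hψ)
  have hE : ∀ b, E (Ideal.Quotient.mk L b) = ψ b := fun b => rfl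
  refine h0.of_iso (Scheme.Spec.mapIso E.symm.toCommRingCatIso.op) (Iso.refl _) (Iso.refl _) (Iso.refl _) ?_ ?_
    (by simp) (by simp)
  · rw [Iso.refl_hom, Category.comp_id]
    show _ = Spec.map E.symm.toCommRingCatIso.hom ≫ Spec.map _
    rw [← Spec.map_comp]
    refine congrArg Spec.map (CommRingCat.hom_ext (RingHom.ext fun b => ?_))
    show Ideal.Quotient.mk L b = E.symm (ψ b)
    rw [← hE, E.symm_apply_apply]
  · rw [Iso.refl_hom, Category.comp_id]
    show _ = Spec.map E.symm.toCommRingCatIso.hom ≫ Spec.map _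
    rw [← Spec.map_comp]
    refine congrArg Spec.map (CommRingCat.hom_ext (Ideal.Quotient.ringHom_ext (RingHom.ext fun a => ?_)))
    show Ideal.Quotient.mk L (φ a) = E.symm (v (Ideal.Quotient.mk J a))
    rw [RingEquiv.eq_symm_apply, hE]
    exact (RingHom.congr_fun hv a).symm

include hR hA in
theorem exists_chart_hom {ι : Type} [Fintype ι] (f : ι → A) (i : ι)
    (hq : BlowUp.IsBlowUp q (FSch.idealSpec A (Ideal.span (Set.range f))))
    (hpc : FSch.PowCompat q ((FSch.idealSpec A (I.map (algebraMap R A))).comap q) (FSch.idealSpec A (I.map (algebraMap R A))))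
    (η : FSch.spf A (I.map (algebraMap R A)) ≅
      FSch.completionAlong (Spec (CommRingCat.of A)) (FSch.idealSpec A (I.map (algebraMap R A))))
    (hη : ∀ n, (η.hom : FSch.Hom _ _).app n ≫
        FSch.completionToX (Spec (CommRingCat.of A)) (FSch.idealSpec A (I.map (algebraMap R A))) n =
        FSch.spfToSpec A (I.map (algebraMap R A)) n)
    (hle : (I.map (algebraMap R A)) ≤
      (I.map (algebraMap R (AdicRing.chartAdm I f i))).comap (algebraMap A (AdicRing.chartAdm I f i))) :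
    ∃ u : FSch.spf (AdicRing.chartAdm I f i) (I.map (algebraMap R (AdicRing.chartAdm I f i))) ⟶
        FSch.completionAlong P ((FSch.idealSpec A (I.map (algebraMap R A))).comap q),
      u ≫ FSch.completionMap q ((FSch.idealSpec A (I.map (algebraMap R A))).comap q) (FSch.idealSpec A (I.map (algebraMap R A))) hpc ≫ η.inv =
        FSch.spfMap (I.map (algebraMap R (AdicRing.chartAdm I f i))) (I.map (algebraMap R A))
          (algebraMap A (AdicRing.chartAdm I f i)) hle ∧
      (∀ n, IsOpenImmersion ((u : FSch.Hom _ _).app n)) ∧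
      Set.range ((u : FSch.Hom _ _).app 0) =
        FSch.completionToX P ((FSch.idealSpec A (I.map (algebraMap R A))).comap q) 0 ⁻¹'
          (chartU q (Ideal.span (Set.range f)) (f i) : Set P) := by
  obtain ⟨emb, hemb, hrange, hcomp⟩ := exists_chart_emb hq (a := f i) (Ideal.subset_span ⟨i, rfl⟩)
  haveI := hemb
  obtain ⟨δ, hδA, hδ⟩ := exists_chartAdm_hom f i I hR hA
  let K := I.map (algebraMap R A)
  let Ji := I.map (algebraMap R (AdicRing.chartAdm I f i))
  let ψ : ∀ n, BA f i →+* AdicRing.chartAdm I f i ⧸ Ji ^ (n + 1) := fun n => (Ideal.Quotient.mk _).comp δ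
  let w : ∀ n, (FSch.spf (AdicRing.chartAdm I f i) Ji).X n ⟶ Spec (CommRingCat.of (BA f i)) := fun n =>
    Spec.map (CommRingCat.ofHom (ψ n))
  let v : ∀ n, (FSch.spf (AdicRing.chartAdm I f i) Ji).X n ⟶ (FSch.spf A K).X n := fun n =>
    (FSch.spfMap Ji K (algebraMap A (AdicRing.chartAdm I f i)) hle : FSch.Hom _ _).app n
  have hout : ∀ n, IsPullback (w n) (v n) (Spec.map (CommRingCat.ofHom (algebraMap A (BA f i))))
      (FSch.spfToSpec A K n) := fun n => by
    show IsPullback (Spec.map (CommRingCat.ofHom (ψ n)))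
      ((FSch.spfMap Ji K (algebraMap A (AdicRing.chartAdm I f i)) hle : FSch.Hom _ _).app n) _ _
    rw [FSch.spfMap_app]
    refine isPullback_spec_of_ker _ _ (ψ n) (hδ n).1 (hδ n).2 _ ?_
    rw [show ψ n = (Ideal.Quotient.mk _).comp δ from rfl, RingHom.comp_assoc, hδA]
    rfl
  let σ := fun n => (η.hom : FSch.Hom _ _).app n
  let p := fun n => FSch.completionToX P ((FSch.idealSpec A K).comap q) n
  let c := fun n => (FSch.completionMap q ((FSch.idealSpec A K).comap q) (FSch.idealSpec A K) hpc : FSch.Hom _ _).app n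
  have sq : ∀ n, IsPullback (p n) (c n ≫ (η.inv : FSch.Hom _ _).app n) q (FSch.spfToSpec A K n) := fun n => by
    haveI : IsIso ((η.inv : FSch.Hom _ _).app n) := ⟨(η.hom : FSch.Hom _ _).app n,
      congrArg (fun t => FSch.Hom.app t n) η.inv_hom_id, congrArg (fun t => FSch.Hom.app t n) η.hom_inv_id⟩
    refine (S3875.h9_completion_square q (FSch.idealSpec A K) hpc n).of_iso (Iso.refl _) (Iso.refl _)
      (asIso ((η.inv : FSch.Hom _ _).app n)) (Iso.refl _) (by simp [p]) (by simp [c]) (by simp) ?_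
    rw [Iso.refl_hom, Category.comp_id, asIso_hom, ← hη n, ← Category.assoc,
      show (η.inv : FSch.Hom _ _).app n ≫ (η.hom : FSch.Hom _ _).app n = 𝟙 _ from
        congrArg (fun t => FSch.Hom.app t n) η.inv_hom_id]
    exact (Category.id_comp _).symm
  have hw : ∀ n, (w n ≫ emb) ≫ q = v n ≫ FSch.spfToSpec A K n := fun n => by
    rw [Category.assoc, hcomp]
    exact (hout n).w
  let u : ∀ n, (FSch.spf (AdicRing.chartAdm I f i) Ji).X n ⟶
      (FSch.completionAlong P ((FSch.idealSpec A K).comap q)).X n := fun n => (sq n).lift (w n ≫ emb) (v n) (hw n)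
  have h1 : ∀ n, u n ≫ p n = w n ≫ emb := fun n => (sq n).lift_fst _ _ _
  have h2 : ∀ n, u n ≫ c n ≫ (η.inv : FSch.Hom _ _).app n = v n := fun n => (sq n).lift_snd _ _ _
  have hsq : ∀ n, IsPullback (u n) (w n) (p n) emb := fun n => by
    refine IsPullback.of_right ?_ (h1 n) (sq n).flip
    rw [hcomp, h2]
    exact (hout n).flip
  refine ⟨⟨u, fun n => ?_⟩, FSch.Hom.ext (funext fun n => ?_), fun n => ?_, ?_⟩
  · refine (sq (n + 1)).hom_ext ?_ ?_
    · rw [Category.assoc, Category.assoc, FSch.completionToX_comm, h1, h1, ← Category.assoc]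
      refine congrArg (· ≫ emb) ?_
      show w n = Spec.map _ ≫ Spec.map _
      rw [← Spec.map_comp]
      rfl
    · have e1 := ((FSch.completionMap q ((FSch.idealSpec A K).comap q) (FSch.idealSpec A K) hpc ≫ η.inv :
          _ ⟶ FSch.spf A K) : FSch.Hom _ _).comm n
      rw [Category.assoc, Category.assoc]
      rw [show (FSch.completionAlong P ((FSch.idealSpec A K).comap q)).ι n ≫ c (n + 1) ≫ (η.inv : FSch.Hom _ _).app (n + 1) =
        (c n ≫ (η.inv : FSch.Hom _ _).app n) ≫ (FSch.spf A K).ι n from e1.symm, ← Category.assoc, h2, h2]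
      exact (FSch.spfMap Ji K (algebraMap A (AdicRing.chartAdm I f i)) hle : FSch.Hom _ _).comm n
  · exact h2 n
  · exact MorphismProperty.of_isPullback (hsq n).flip hemb
    
  · show Set.range (u 0) = _
    rw [← (hsq 0).isoPullback_hom_fst, Scheme.Hom.comp_base, TopCat.coe_comp, Set.range_comp,
      Set.range_eq_univ.2 (hsq 0).isoPullback.hom.surjective, Set.image_univ, Scheme.Pullback.range_fst, ← hrange]
    rfl

end Chart

end Groth.Agent.FBlowLib
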