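import Groth.Agent.FBlowLib.Local
import Groth.Agent.BlowExistsLib.Glue
import Groth.Agent.S3857

/-!
# The model of an admissible blow-up over an affine open
-/

set_option autoImplicit false
set_option linter.style.haveILetI false
set_option backward.isDefEq.respectTransparency false
set_option backward.isDefEq.respectTransparency.types false
set_option maxHeartbeats 1000000
universe u

open CategoryTheory CategoryTheory.Limits AlgebraicGeometry TopologicalSpace Opposite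

noncomputable section

namespace Groth.Agent.FBlowLib

open Groth.Agent.FCompl Groth.Agent.BlowChartLib

theorem isFormal_of_iso {𝔛 𝔜 : FSch.Sys.{u}} (h : 𝔛.IsFormal) (e : 𝔛 ≅ 𝔜) : 𝔜.IsFormal := fun n => by
  have hi : ∀ m, IsIso ((e.inv : FSch.Hom _ _).app m) := fun m => ⟨(e.hom : FSch.Hom _ _).app m,
    congrArg (fun t => FSch.Hom.app t m) e.inv_hom_id, congrArg (fun t => FSch.Hom.app t m) e.hom_inv_id⟩
  haveI := hi n
  have hh : IsIso ((e.hom : FSch.Hom _ _).app (n + 1)) := ⟨(e.inv : FSch.Hom _ _).app (n + 1),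
    congrArg (fun t => FSch.Hom.app t (n + 1)) e.hom_inv_id, congrArg (fun t => FSch.Hom.app t (n + 1)) e.inv_hom_id⟩
  have e1 : 𝔜.ι n = (e.inv : FSch.Hom _ _).app n ≫ 𝔛.ι n ≫ (e.hom : FSch.Hom _ _).app (n + 1) := by
    rw [← (e.hom : FSch.Hom _ _).comm n, ← Category.assoc,
      show (e.inv : FSch.Hom _ _).app n ≫ (e.hom : FSch.Hom _ _).app n = 𝟙 _ from
        congrArg (fun t => FSch.Hom.app t n) e.inv_hom_id, Category.id_comp]
  haveI := (h n).1
  haveI : Surjective (𝔛.ι n) := ⟨(h n).2⟩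
  rw [e1]
  exact ⟨inferInstance, Surjective.surj⟩

variable {R : Type u} [CommRing R] {I : Ideal R} {𝔛 : FSch.Sys.{u}} {h : 𝔛.IsFormal}
  (p : 𝔛 ⟶ FSch.spf R I) (hR : AdicRing.IsBase R I) (hp : FSch.IsAdicHom p)
  (hfp : ∀ n, LocallyOfFinitePresentation ((p : FSch.Hom 𝔛 (FSch.spf R I)).app n))
  (htf : ∀ (V : (𝔛.X 0).Opens) (s : (𝔛.Osh h).obj.obj (Opposite.op V)),
    (∀ a ∈ (FBlow.IdealSh.ker (𝔛.OshProj h 0)).sect V, a * s = 0) → s = 0)

theorem exists_affine_level {J : FBlow.IdealSh (𝔛.Osh h)} (hJ : FBlow.IsCohOpen 𝔛 h J) (x : 𝔛.X 0) :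
    ∃ (U : (𝔛.X 0).Opens) (_ : IsAffineOpen U) (n : ℕ) (𝒜 : (𝔛.X n).IdealSheafData), x ∈ U ∧ FSch.IdealFT 𝒜 ∧
      ∀ V : (𝔛.X 0).Opens, V ≤ U → J.sect V = (FBlow.ofLevel 𝔛 h n 𝒜).sect V := by
  obtain ⟨U₀, hxU₀, n, 𝒜, hFT, hU₀⟩ := hJ x
  obtain ⟨U, hU, hxU, hle⟩ := FCompl.exists_affine_le (𝔛 := 𝔛) hxU₀
  exact ⟨U, hU, n, 𝒜, hxU, hFT, fun V hV => hU₀ V (hV.trans hle)⟩

variable {U : (𝔛.X 0).Opens} (hU : IsAffineOpen U)

/-- The system over an affine open with its projections to the formal spectrum of the sections. -/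
structure SpfModel where
  /-- the iso -/
  e : 𝔛.restrictOpen h U ≅ FSch.spf (OR 𝔛 h U) (I.map (ρB h p U))
  he : ∀ n, (e.hom : FSch.Hom _ _).app n ≫ FSch.spfToSpec (OR 𝔛 h U) (I.map (ρB h p U)) n = lvSpec h hU n

variable {p hU}

lemma SpfModel.isFormal (M : SpfModel (h := h) p hU) : (FSch.spf (OR 𝔛 h U) (I.map (ρB h p U))).IsFormal :=
  isFormal_of_iso (restrict_isFormal h U) M.e

variable {J : FBlow.IdealSh (𝔛.Osh h)} {n : ℕ} {𝒜 : (𝔛.X n).IdealSheafData}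

include hR hp in
theorem SpfModel.isAdmBlowUp (M : SpfModel (h := h) p hU)
    (hJ : ∀ V : (𝔛.X 0).Opens, V ≤ U → J.sect V = (FBlow.ofLevel 𝔛 h n 𝒜).sect V)
    {𝔘' : FSch.Sys.{u}} {hS' : 𝔘'.IsFormal} {c : 𝔘' ⟶ 𝔛.restrictOpen h U}
    (hc : FBlow.IsAdmBlowUp c hS' (restrict_isFormal h U)
      (FBlow.idealMap (𝔛.restrictOpenι h U) (restrict_isFormal h U) h J)) :
    FBlow.IsAdmBlowUp (c ≫ M.e.hom) hS' M.isFormal (FBlow.schIdealMap _ M.isFormal
      (FSch.spfToSpec (OR 𝔛 h U) (I.map (ρB h p U))) (FSch.spfToSpec_comm (OR 𝔛 h U) (I.map (ρB h p U)))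
      (FBlow.IdealSh.ofData (FSch.idealSpec (OR 𝔛 h U) (lvIdeal hU n 𝒜)))) := by
  refine isAdmBlowUp_comp_iso hc M.e ?_
  rw [idealMap_schIdealMap_eq, idealMap_restrictOpenι p hR hp hU hJ (restrict_isFormal h U)]
  exact aSh_congr _ (funext M.he) _ _ _

/-- The completion of a scheme-theoretic blow-up as an admissible blow-up of the formal spectrum. -/
theorem exists_blowUp_spf {A : Type u} [CommRing A] [Algebra R A] (hR : AdicRing.IsBase R I)
    (hA : AdicRing.TopFiniteType R I A) {K : Ideal A} (hK : K = I.map (algebraMap R A)) {𝔞 : Ideal A} (h𝔞 : 𝔞.FG)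
    (hS : (FSch.spf A K).IsFormal) :
    ∃ (P : Scheme.{u}) (q : P ⟶ Spec (CommRingCat.of A)) (_ : BlowUp.IsBlowUp q (FSch.idealSpec A 𝔞))
      (c : FSch.completionAlong P ((FSch.idealSpec A K).comap q) ⟶ FSch.spf A K),
      FBlow.IsAdmBlowUp c (isFormal_completion P ((FSch.idealSpec A K).comap q)) hS
        (FBlow.schIdealMap (FSch.spf A K) hS (FSch.spfToSpec A K) (FSch.spfToSpec_comm A K)
          (FBlow.IdealSh.ofData (FSch.idealSpec A 𝔞))) ∧
      ∀ m, (c : FSch.Hom _ _).app m ≫ FSch.spfToSpec A K m =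
        FSch.completionToX P ((FSch.idealSpec A K).comap q) m ≫ q := by
  obtain ⟨P, q, hq⟩ := BlowExistsLib.exists_isBlowUp (FSch.idealSpec A 𝔞)
  have hpc : FSch.PowCompat q ((FSch.idealSpec A K).comap q) (FSch.idealSpec A K) :=
    fun m => (S3857.comap_pow (FSch.idealSpec A K) q (m + 1)).le
  have hC := isFormal_completion (Spec (CommRingCat.of A)) (FSch.idealSpec A K)
  have hP := isFormal_completion P ((FSch.idealSpec A K).comap q)
  obtain ⟨η, hη⟩ := exists_spfIso K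
  refine ⟨P, q, hq, _, isAdmBlowUp_of_spfIso η hη hC hS hP _
    (isAdmBlowUp_completion q K hpc hR hA h𝔞 hq hK hC hP), fun m => ?_⟩
  rw [FSch.comp_app, Category.assoc, ← completion_y q K hpc m]
  refine congrArg ((FSch.completionMap q _ _ hpc : FSch.Hom _ _).app m ≫ ·) ?_
  rw [← hη m, ← Category.assoc, show (η.inv : FSch.Hom _ _).app m ≫ (η.hom : FSch.Hom _ _).app m = 𝟙 _ from
    congrArg (fun t => FSch.Hom.app t m) η.inv_hom_id]
  exact Category.id_comp _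

include hR hp hfp htf in
/-- Over an affine open an admissible blow-up is the completion of a scheme-theoretic blow-up. -/
theorem exists_local_model {𝔛' : FSch.Sys.{u}} {h' : 𝔛'.IsFormal} {b : 𝔛' ⟶ 𝔛}
    (hb : FBlow.IsAdmBlowUp b h' h J) (hFT : FSch.IdealFT 𝒜) (hU : IsAffineOpen U)
    (hJ : ∀ V : (𝔛.X 0).Opens, V ≤ U → J.sect V = (FBlow.ofLevel 𝔛 h n 𝒜).sect V) :
    letI := (ρB h p U).toAlgebra
    AdicRing.Admissible R I (OR 𝔛 h U) ∧ (lvIdeal (h := h) hU n 𝒜).FG ∧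
    (I ^ (n + 1)).map (ρB h p U) ≤ lvIdeal hU n 𝒜 ∧
    ∃ (P : Scheme.{u}) (q : P ⟶ Spec (CommRingCat.of (OR 𝔛 h U)))
      (_ : BlowUp.IsBlowUp q (FSch.idealSpec (OR 𝔛 h U) (lvIdeal hU n 𝒜)))
      (ε : 𝔛'.restrictOpen h' ((b : FSch.Hom 𝔛' 𝔛).app 0 ⁻¹ᵁ U) ≅
        FSch.completionAlong P ((FSch.idealSpec (OR 𝔛 h U) (I.map (ρB h p U))).comap q)),
      ∀ m, (ε.hom : FSch.Hom _ _).app m ≫
          FSch.completionToX P ((FSch.idealSpec (OR 𝔛 h U) (I.map (ρB h p U))).comap q) m ≫ q =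
        (FSch.Hom.restrictOpen b h' h U : FSch.Hom _ _).app m ≫ lvSpec h hU m := by
  letI := (ρB h p U).toAlgebra
  have hadm := admissible p hR hp hU hfp htf
  obtain ⟨e, he⟩ := exists_iso_spf p hR hp hU
  let M : SpfModel (h := h) p hU := ⟨e, he⟩
  have hA : AdicRing.TopFiniteType R I (OR 𝔛 h U) := by
    obtain ⟨⟨r, φ, hφ, -⟩, -⟩ := hadm
    exact ⟨r, φ, hφ⟩
  have h1 := M.isAdmBlowUp hR hp hJ
    (isAdmBlowUp_restrict hb U (restrict_isFormal h U) (restrict_isFormal h' ((b : FSch.Hom 𝔛' 𝔛).app 0 ⁻¹ᵁ U)))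
  obtain ⟨P, q, hq, c, hc, hcy⟩ := exists_blowUp_spf hR hA (K := I.map (ρB h p U)) rfl
    (fg_lvIdeal p hR hp hU hFT) M.isFormal
  obtain ⟨ε, hε⟩ := exists_iso_of_isAdmBlowUp h1 hc
  refine ⟨hadm, fg_lvIdeal p hR hp hU hFT, pow_le_lvIdeal p hR hp hU, P, q, hq, ε, fun m => ?_⟩
  have h2 := congrArg (fun t => FSch.Hom.app t m) hε
  simp only [FSch.comp_app] at h2
  rw [← hcy m, ← Category.assoc, h2, Category.assoc]
  exact congrArg (_ ≫ ·) (he m)

end Groth.Agent.FBlowLib
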