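import Groth.Agent.FBlowLib.Local
import Groth.Agent.FBlowLib.LocalModel
import Groth.Agent.IdealStalkLib.Comap

/-!
# Pullback of coherent open ideals and of invertible open ideals
-/

set_option autoImplicit false
set_option linter.style.haveILetI false
set_option backward.isDefEq.respectTransparency false
set_option backward.isDefEq.respectTransparency.types false
set_option maxHeartbeats 1000000
universe u

open CategoryTheory CategoryTheory.Limits AlgebraicGeometry TopologicalSpace Opposite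

noncomputable section

namespace Groth.Agent.FBlowLib

open Groth.Agent.FCompl Groth.Agent.BlowChartLib

theorem fg_comap {X Y : Scheme.{u}} (J : Y.IdealSheafData) (f : X ⟶ Y)
    (hJ : ∀ U : Y.affineOpens, (J.ideal U).FG) (V : X.affineOpens) : ((J.comap f).ideal V).FG := by
  have key : ∀ x : V.1, ∃ r : Γ(X, V.1), x.1 ∈ X.basicOpen r ∧
      ((J.comap f).ideal (X.affineBasicOpen (U := V) r)).FG := fun x => by
    obtain ⟨_, ⟨U, hU, rfl⟩, hxU, -⟩ :=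
      Y.isBasis_affineOpens.exists_subset_of_mem_open (Set.mem_univ (f x.1)) isOpen_univ
    obtain ⟨r, hr, hxr⟩ := V.2.exists_basicOpen_le (V := V.1 ⊓ f ⁻¹ᵁ U) ⟨x.1, x.2, hxU⟩ x.2
    exact ⟨r, hxr, by
      rw [IdealStalkLib.comap_ideal J f (U := U) hU (X.affineBasicOpen (U := V) r).2 (hr.trans inf_le_right)]
      exact (hJ ⟨U, hU⟩).map _⟩
  choose r hxr hr using key
  refine Ideal.fg_of_localizationSpan (Set.range r) ?_ ?_
  · rw [← V.2.self_le_iSup_basicOpen_iff]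
    exact fun x hxV => TopologicalSpace.Opens.mem_iSup.2 ⟨⟨_, ⟨x, hxV⟩, rfl⟩, hxr ⟨x, hxV⟩⟩
  · rintro ⟨_, x, rfl⟩
    letI : Algebra Γ(X, V.1) Γ(X, X.basicOpen (r x)) :=
      (X.presheaf.map (homOfLE (X.basicOpen_le (r x))).op).hom.toAlgebra
    haveI : IsLocalization.Away (r x) Γ(X, X.basicOpen (r x)) := V.2.isLocalization_basicOpen (r x)
    let e := IsLocalization.algEquiv (Submonoid.powers (r x)) Γ(X, X.basicOpen (r x)) (Localization.Away (r x))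
    rw [show algebraMap Γ(X, V.1) (Localization.Away (r x)) =
      e.toAlgHom.toRingHom.comp (algebraMap Γ(X, V.1) Γ(X, X.basicOpen (r x))) from (AlgHom.comp_algebraMap e.toAlgHom).symm,
      ← Ideal.map_map, show algebraMap Γ(X, V.1) Γ(X, X.basicOpen (r x)) =
        (X.presheaf.map (homOfLE (X.basicOpen_le (r x))).op).hom from rfl, (J.comap f).map_ideal_basicOpen V (r x)]
    exact (hr x).map _

theorem map_mem_ofData_comap {X Y : Scheme.{u}} (f : X ⟶ Y) (𝒜 : Y.IdealSheafData) {W : Y.Opens} {V : X.Opens}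
    (e : V ≤ f ⁻¹ᵁ W) {s : Γ(Y, W)} (hs : s ∈ (FBlow.IdealSh.ofData 𝒜).sect W) :
    f.appLE W V e s ∈ (FBlow.IdealSh.ofData (𝒜.comap f)).sect V := by
  intro x hx
  obtain ⟨W', i', hxW', hW'⟩ := hs (f x) (e hx)
  obtain ⟨Z, hZ, hxZ, hZle⟩ := Opens.isBasis_iff_nbhd.mp X.isBasis_affineOpens
    (U := V ⊓ f ⁻¹ᵁ W'.1) (x := x) ⟨hx, hxW'⟩
  refine ⟨⟨Z, hZ⟩, hZle.trans inf_le_left, hxZ, ?_⟩
  rw [IdealStalkLib.comap_ideal 𝒜 f W'.2 hZ (hZle.trans inf_le_right)]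
  have h1 := Ideal.mem_map_of_mem (f.appLE W'.1 Z (hZle.trans inf_le_right)).hom hW'
  refine Eq.mp (congrArg (· ∈ _) ?_) h1
  exact (ConcreteCategory.congr_hom (Scheme.Hom.map_appLE f (hZle.trans inf_le_right) (homOfLE i').op) s).trans
    (ConcreteCategory.congr_hom (Scheme.Hom.appLE_map f e (homOfLE (hZle.trans inf_le_left)).op) s).symm

variable {R : Type u} [CommRing R] {I : Ideal R} {𝔛 𝔛' : FSch.Sys.{u}} {h : 𝔛.IsFormal} {h' : 𝔛'.IsFormal}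
  (p : 𝔛 ⟶ FSch.spf R I) (hR : AdicRing.IsBase R I) (hp : FSch.IsAdicHom p) (b : 𝔛' ⟶ 𝔛) (hb : FSch.IsAdicHom b)

lemma isAdicHom_comp {𝔄 𝔅 ℭ : FSch.Sys.{u}} {f : 𝔄 ⟶ 𝔅} {g : 𝔅 ⟶ ℭ} (hf : FSch.IsAdicHom f)
    (hg : FSch.IsAdicHom g) : FSch.IsAdicHom (f ≫ g) := fun n => (hf n).paste_vert (hg n)

lemma isAdicHom_cancel {𝔄 𝔅 ℭ : FSch.Sys.{u}} {f : 𝔄 ⟶ 𝔅} {g : 𝔅 ⟶ ℭ} (hfg : FSch.IsAdicHom (f ≫ g))
    (hg : FSch.IsAdicHom g) : FSch.IsAdicHom f := fun n =>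
  IsPullback.of_bot (hfg n) ((f : FSch.Hom 𝔄 𝔅).comm n).symm (hg n)

include hR hp hb in
/-- Over an affine open on which an ideal comes from a level, its inverse image comes from that level. -/
theorem idealMap_sect_eq {J : FBlow.IdealSh (𝔛.Osh h)} {U : (𝔛.X 0).Opens} (hU : IsAffineOpen U) {n : ℕ}
    {𝒜 : (𝔛.X n).IdealSheafData} (hJU : ∀ V : (𝔛.X 0).Opens, V ≤ U → J.sect V = (FBlow.ofLevel 𝔛 h n 𝒜).sect V)
    {V : (𝔛'.X 0).Opens} (hV : V ≤ (b : FSch.Hom 𝔛' 𝔛).app 0 ⁻¹ᵁ U) :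
    (FBlow.idealMap b h' h J).sect V =
      (FBlow.ofLevel 𝔛' h' n (𝒜.comap ((b : FSch.Hom 𝔛' 𝔛).app n))).sect V := by
  let g₀ := (b : FSch.Hom 𝔛' 𝔛).app 0
  let g := (b : FSch.Hom 𝔛' 𝔛).app n
  refine le_antisymm ?_ ?_
  · intro s hs
    refine (FBlow.ofLevel 𝔛' h' n (𝒜.comap g)).mem_of_local fun z hz => ?_
    obtain ⟨W, i, hzW, hW⟩ := hs z hz
    refine ⟨W, i, hzW, Ideal.span_le.2 ?_ hW⟩
    rintro _ ⟨W', j', _, ⟨W₀, j₀, a, ha, rfl⟩, rfl⟩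
    show rsO 𝔛' h' j' (rsO 𝔛' h' j₀ ((FSch.Hom.sharp b h' h).hom.app (op W₀) a)) ∈ _
    have j : W ≤ g₀ ⁻¹ᵁ (W₀ ⊓ U) := fun w hw => ⟨(j'.trans j₀) hw, hV (i hw)⟩
    have e : rsO 𝔛' h' j' (rsO 𝔛' h' j₀ ((FSch.Hom.sharp b h' h).hom.app (op W₀) a)) =
        rsO 𝔛' h' j ((FSch.Hom.sharp b h' h).hom.app (op (W₀ ⊓ U)) (rsO 𝔛 h inf_le_left a)) := by
      refine (FBlow.IdealSh.map_comp_apply _ _ _).trans ?_
      refine Eq.trans ?_ (congrArg (rsO 𝔛' h' j) (ConcreteCategory.congr_hom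
        ((FSch.Hom.sharp b h' h).hom.naturality (homOfLE (inf_le_left : W₀ ⊓ U ≤ W₀)).op) a)).symm
      exact (FBlow.IdealSh.map_comp_apply (g₀.preimage_mono inf_le_left) j _).symm
    rw [e]
    refine (FBlow.ofLevel 𝔛' h' n (𝒜.comap g)).map_mem j ?_
    have ha' := J.map_mem (inf_le_left : W₀ ⊓ U ≤ W₀) ha
    rw [hJU _ inf_le_right, FBlow.mem_ofLevel_iff] at ha'
    rw [FBlow.mem_ofLevel_iff]
    exact Eq.mp (congrArg (· ∈ _) (pr_sharp h' h b (W₀ ⊓ U) _ n).symm)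
      (map_mem_ofData_comap g 𝒜 (FSch.Hom.lvU_preimage b h' h n (W₀ ⊓ U)).ge ha')
  · intro s hs
    rw [FBlow.mem_ofLevel_iff] at hs
    refine (FBlow.idealMap b h' h J).mem_of_local fun z hz => ?_
    have e0 : 𝔛'.gInv h' n (𝔛'.toX n z) = z := congr($(𝔛'.toX_base_gInv h' n) z)
    obtain ⟨W', i', hzW', hW'⟩ := hs (𝔛'.toX n z) (show 𝔛'.gInv h' n (𝔛'.toX n z) ∈ V from e0.symm ▸ hz)
    obtain ⟨V₁, hV₁, hzV₁, hV₁le⟩ :=
      FCompl.exists_affine_le (𝔛 := 𝔛') (U := V ⊓ 𝔛'.toX n ⁻¹ᵁ W'.1) (x := z) ⟨hz, hzW'⟩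
    have i : V₁ ≤ V := hV₁le.trans inf_le_left
    refine ⟨V₁, i, hzV₁, ?_⟩
    have k : 𝔛'.lvU h' n V₁ ≤ W'.1 := fun w hw => by
      rw [← show 𝔛'.toX n (𝔛'.gInv h' n w) = w from congr($(𝔛'.gInv_toX_base h' n) w)]
      exact (hV₁le hw).2
    obtain ⟨hsurj, hker, -⟩ := affPres (b ≫ p) hR (isAdicHom_comp hb hp) hV₁ (h := h')
    have j : V₁ ≤ g₀ ⁻¹ᵁ U := i.trans hV
    let β : OR 𝔛 h U →+* OR 𝔛' h' V₁ := (rsO 𝔛' h' j).comp ((FSch.Hom.sharp b h' h).hom.app (op U)).hom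
    let 𝔞 := lvIdeal (h := h) hU n 𝒜
    have hβ : β.comp (ρB h p U) = ρB h' (b ≫ p) V₁ := RingHom.ext fun r => by
      refine (congrArg (rsO 𝔛' h' j) (sharp_img h' (yB (b ≫ p)) (yB_comm (b ≫ p)) h (yB p) (yB_comm p) b
        (fun m => ?_) U r)).trans (rsO_img h' _ _ j r)
      show (b : FSch.Hom 𝔛' 𝔛).app m ≫ _ = ((b : FSch.Hom 𝔛' 𝔛).app m ≫ _) ≫ _
      rw [Category.assoc]
    have hle : 𝔞.map β ≤ (FBlow.idealMap b h' h J).sect V₁ := Ideal.map_le_iff_le_comap.2 fun a ha =>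
      Ideal.mem_comap.2 (FBlow.IdealSh.image_mem_map g₀.base (FSch.Hom.sharp b h' h) J (lvIdeal_mem hU hJU ha) j)
    refine hle ?_
    have eV : 𝔛'.lvU h' n V₁ ≤ g ⁻¹ᵁ 𝔛.lvU h n U := by
      rw [show g ⁻¹ᵁ 𝔛.lvU h n U = 𝔛'.lvU h' n (g₀ ⁻¹ᵁ U) from FSch.Hom.lvU_preimage b h' h n U]
      exact FCompl.lvU_mono 𝔛' h' j n
    obtain ⟨hsurjU, -, -⟩ := affPres p hR hp hU
    have h1 : pr 𝔛' h' V₁ n (rsO 𝔛' h' i s) ∈ (𝔞.map β).map (pr 𝔛' h' V₁ n) := by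
      have h2 := FBlow.res_mem_ofData (𝒜.comap g) (V := W') (W := ⟨_, affine_lvU (h := h') hV₁ n⟩) k hW'
      rw [FBlow.sch_map_comp_apply, IdealStalkLib.comap_ideal 𝒜 g (affine_lvU (h := h) hU n) _ eV,
        ← Ideal.map_comap_of_surjective _ (hsurjU n) (𝒜.ideal ⟨_, affine_lvU (h := h) hU n⟩), Ideal.map_map] at h2
      rw [Ideal.map_map, pr_rsO]
      have e : (g.appLE (𝔛.lvU h n U) (𝔛'.lvU h' n V₁) eV).hom.comp (pr 𝔛 h U n) = (pr 𝔛' h' V₁ n).comp β :=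
        RingHom.ext fun a => by
          refine Eq.symm ((pr_rsO 𝔛' h' j n _).trans ((congrArg _ (pr_sharp h' h b U a n)).trans ?_))
          exact ConcreteCategory.congr_hom (Scheme.Hom.appLE_map g _ _) _
      rw [e] at h2
      exact h2
    rw [Ideal.mem_map_iff_of_surjective _ (hsurj n)] at h1
    obtain ⟨c, hc, hcs⟩ := h1
    show rsO 𝔛' h' i s ∈ _
    rw [← sub_add_cancel (rsO 𝔛' h' i s) c]
    refine add_mem (Ideal.map_mono (f := β) (pow_le_lvIdeal p hR hp hU) ?_) hc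
    rw [Ideal.map_map, hβ, ← hker n, RingHom.mem_ker, map_sub, hcs, sub_self]

include hR hp hb in
/-- The inverse image of a coherent open ideal along an adic morphism is a coherent open ideal. -/
theorem isCohOpen_idealMap {J : FBlow.IdealSh (𝔛.Osh h)} (hJ : FBlow.IsCohOpen 𝔛 h J) :
    FBlow.IsCohOpen 𝔛' h' (FBlow.idealMap b h' h J) := by
  intro x
  obtain ⟨U, hU, n, 𝒜, hxU, hFT, hJU⟩ := exists_affine_level hJ ((b : FSch.Hom 𝔛' 𝔛).app 0 x)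
  exact ⟨_, hxU, n, _, fg_comap 𝒜 _ hFT, fun V hV => idealMap_sect_eq p hR hp b hb hU hJU hV⟩

theorem eq_zero_of_pow {S : Type u} [CommRing S] (φ : R →+* S) (htf : ∀ x : S, (∀ r ∈ I, φ r * x = 0) → x = 0)
    (m : ℕ) (x : S) (hx : ∀ r ∈ I ^ m, φ r * x = 0) : x = 0 := by
  induction m generalizing x with
  | zero => simpa using hx 1 (by simp)
  | succ m ih =>
    refine ih x fun a ha => htf _ fun r hr => ?_
    rw [← mul_assoc, ← map_mul]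
    exact hx _ (by rw [pow_succ']; exact Ideal.mul_mem_mul hr ha)

include hR hp hb in
/-- An invertible open ideal stays invertible on a system without torsion. -/
theorem isInvertible_idealMap_of_noTorsion
    (htf' : ∀ (V : (𝔛'.X 0).Opens) (s : (𝔛'.Osh h').obj.obj (Opposite.op V)),
      (∀ a ∈ (FBlow.IdealSh.ker (𝔛'.OshProj h' 0)).sect V, a * s = 0) → s = 0)
    {L : FBlow.IdealSh (𝔛.Osh h)} (hLc : FBlow.IsCohOpen 𝔛 h L) (hL : L.IsInvertible) :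
    (FBlow.idealMap b h' h L).IsInvertible := by
  let g₀ := (b : FSch.Hom 𝔛' 𝔛).app 0
  refine isInvertible_of_local _ fun x => ?_
  obtain ⟨U₀, hxU₀, gen, hgen, hU₀⟩ := hL (g₀ x)
  obtain ⟨U₁, hU₁, n, 𝒜, hxU₁, -, hLU⟩ := exists_affine_level hLc (g₀ x)
  obtain ⟨U, hU, hxU, hUle⟩ := FCompl.exists_affine_le (𝔛 := 𝔛) (U := U₀ ⊓ U₁) (x := g₀ x) ⟨hxU₀, hxU₁⟩
  have i₁ : U ≤ U₀ := hUle.trans inf_le_left
  have hLU' : ∀ V : (𝔛.X 0).Opens, V ≤ U → L.sect V = (FBlow.ofLevel 𝔛 h n 𝒜).sect V :=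
    fun V hV => hLU V (hV.trans (hUle.trans inf_le_right))
  let S : ∀ W : (𝔛.X 0).Opens, OR 𝔛 h W →+* OR 𝔛' h' (g₀ ⁻¹ᵁ W) := fun W =>
    ((FSch.Hom.sharp b h' h).hom.app (op W)).hom
  have nat : ∀ {W W' : (𝔛.X 0).Opens} (k : W' ≤ W) (s : OR 𝔛 h W),
      rsO 𝔛' h' (g₀.preimage_mono k) (S W s) = S W' (rsO 𝔛 h k s) := fun k s =>
    (ConcreteCategory.congr_hom ((FSch.Hom.sharp b h' h).hom.naturality (homOfLE k).op) s).symm
  have hy : ∀ m, (b : FSch.Hom 𝔛' 𝔛).app m ≫ yB p m = yB (b ≫ p) m := fun m => by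
    show (b : FSch.Hom 𝔛' 𝔛).app m ≫ _ = ((b : FSch.Hom 𝔛' 𝔛).app m ≫ _) ≫ _
    rw [Category.assoc]
  refine ⟨g₀ ⁻¹ᵁ U, hxU, S U (rsO 𝔛 h i₁ gen), ?_, fun V i y hy' => ⟨V, le_rfl, hy', fun t ht => ?_⟩,
    fun V i s hs y hy' => ?_⟩
  · have h1 := FBlow.IdealSh.image_mem_map g₀.base (FSch.Hom.sharp b h' h) L (L.map_mem i₁ hgen)
      (le_refl (g₀ ⁻¹ᵁ U))
    rw [FBlow.IdealSh.map_id_apply] at h1
    exact h1
  · refine eq_zero_of_pow (I := I) (ρB h' (b ≫ p) V) (fun z hz => htf' V z fun a ha => ?_) (n + 1) t fun r hr => ?_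
    · obtain ⟨hs0, hk0, -⟩ : True ∧ True ∧ True := ⟨trivial, trivial, trivial⟩
      refine FBlow.IdealSh.bot (𝔛'.Osh h') |>.mem_of_local (U := V) (s := a * z) (fun w hw => ?_) |> Ideal.mem_bot.1
      obtain ⟨V₁, hV₁, hwV₁, hV₁le⟩ := FCompl.exists_affine_le (𝔛 := 𝔛') (U := V) hw
      refine ⟨V₁, hV₁le, hwV₁, Ideal.mem_bot.2 ?_⟩
      obtain ⟨-, hker, -⟩ := affPres (b ≫ p) hR (isAdicHom_comp hb hp) hV₁ (h := h')
      have ha1 : rsO 𝔛' h' hV₁le a ∈ (I ^ 1).map (ρB h' (b ≫ p) V₁) := by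
        rw [← hker 0]
        exact (FBlow.IdealSh.ker (𝔛'.OshProj h' 0)).map_mem hV₁le ha
      rw [pow_one] at ha1
      rw [map_mul]
      refine Submodule.span_induction (p := fun c _ => c * rsO 𝔛' h' hV₁le z = 0) ?_ (zero_mul _) ?_ ?_ ha1
      · rintro _ ⟨r, hr, rfl⟩
        rw [← rsO_img h' (yB (b ≫ p)) (yB_comm (b ≫ p)) hV₁le, ← map_mul, hz r hr, map_zero]
      · intro c d _ _ hc hd; rw [add_mul, hc, hd, add_zero]
      · intro c d _ hd; rw [smul_eq_mul, mul_assoc, hd, mul_zero]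
    · obtain ⟨d, hd⟩ := (hU₀ U i₁).2 (img h (yB p) (yB_comm p) U r)
        (lvIdeal_mem hU hLU' (pow_le_lvIdeal p hR hp hU (Ideal.mem_map_of_mem _ hr)))
      have h1 := congrArg (fun t => rsO 𝔛' h' i (S U t)) hd
      dsimp only at h1
      rw [show S U (img h (yB p) (yB_comm p) U r) = img h' (yB (b ≫ p)) (yB_comm (b ≫ p)) (g₀ ⁻¹ᵁ U) r from
        sharp_img h' _ _ h _ _ b hy U r, rsO_img, map_mul, map_mul] at h1
      show img h' (yB (b ≫ p)) (yB_comm (b ≫ p)) V r * t = 0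
      rw [h1, mul_assoc]
      refine (congrArg (_ * ·) ?_).trans (mul_zero _)
      rw [mul_comm]
      exact ht
  · obtain ⟨W, k, hyW, hW⟩ := hs y hy'
    refine ⟨W, k, hyW, ?_⟩
    suffices hmem : rsO 𝔛' h' k s ∈ Ideal.span {rsO 𝔛' h' (k.trans i) (S U (rsO 𝔛 h i₁ gen))} by
      obtain ⟨t, ht⟩ := Ideal.mem_span_singleton'.1 hmem
      exact ⟨t, ht.symm⟩
    refine (Ideal.span_le.2 ?_) hW
    rintro _ ⟨W', j', _, ⟨W₀, j₀, a, ha, rfl⟩, rfl⟩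
    show rsO 𝔛' h' j' (rsO 𝔛' h' j₀ (S W₀ a)) ∈ _
    let W₁ := U ⊓ W₀
    have hj : W ≤ g₀ ⁻¹ᵁ W₁ := fun z hz => ⟨(k.trans i) hz, (j'.trans j₀) hz⟩
    obtain ⟨t, ht⟩ := (hU₀ W₁ (inf_le_left.trans i₁)).2 _ (L.map_mem (inf_le_right : W₁ ≤ W₀) ha)
    refine Ideal.mem_span_singleton'.2 ⟨rsO 𝔛' h' hj (S W₁ t), ?_⟩
    have e1 : rsO 𝔛' h' j' (rsO 𝔛' h' j₀ (S W₀ a)) =
        rsO 𝔛' h' hj (S W₁ (rsO 𝔛 h (inf_le_right : W₁ ≤ W₀) a)) := by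
      rw [← nat (inf_le_right : W₁ ≤ W₀) a]
      exact (FBlow.IdealSh.map_comp_apply _ _ _).trans (FBlow.IdealSh.map_comp_apply _ _ _).symm
    have e2 : rsO 𝔛' h' (k.trans i) (S U (rsO 𝔛 h i₁ gen)) =
        rsO 𝔛' h' hj (S W₁ (rsO 𝔛 h ((inf_le_left : W₁ ≤ U).trans i₁) gen)) := by
      rw [show rsO 𝔛 h ((inf_le_left : W₁ ≤ U).trans i₁) gen =
          rsO 𝔛 h (inf_le_left : W₁ ≤ U) (rsO 𝔛 h i₁ gen) from (FBlow.IdealSh.map_comp_apply i₁ _ gen).symm,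
        ← nat (inf_le_left : W₁ ≤ U) _]
      exact (FBlow.IdealSh.map_comp_apply _ _ _).symm
    rw [e1, show rsO 𝔛 h (inf_le_right : W₁ ≤ W₀) a = t * rsO 𝔛 h ((inf_le_left : W₁ ≤ U).trans i₁) gen from ht,
      map_mul, map_mul, e2]

end Groth.Agent.FBlowLib
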