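import Groth.Agent.FBlowLib.Piece

/-!
# The composite of two admissible blow-ups is an admissible blow-up
-/

set_option autoImplicit false
set_option linter.style.haveILetI false
set_option backward.isDefEq.respectTransparency false
set_option backward.isDefEq.respectTransparency.types false
set_option maxHeartbeats 1000000
universe u

open CategoryTheory CategoryTheory.Limits AlgebraicGeometry TopologicalSpace Opposite

noncomputable section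

namespace Groth.Agent.FBlowLib

open Groth.Agent.FCompl Groth.Agent.BlowChartLib

variable {R : Type u} [CommRing R] {I : Ideal R} {𝔛 : FSch.Sys.{u}} {h : 𝔛.IsFormal}
  (p : 𝔛 ⟶ FSch.spf R I) (hR : AdicRing.IsBase R I) (hp : FSch.IsAdicHom p)
  (hfp : ∀ n, LocallyOfFinitePresentation ((p : FSch.Hom 𝔛 (FSch.spf R I)).app n))
  (htf : ∀ (V : (𝔛.X 0).Opens) (s : (𝔛.Osh h).obj.obj (Opposite.op V)),
    (∀ a ∈ (FBlow.IdealSh.ker (𝔛.OshProj h 0)).sect V, a * s = 0) → s = 0)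
  {J : FBlow.IdealSh (𝔛.Osh h)} (hJc : FBlow.IsCohOpen 𝔛 h J)
  {𝔛' : FSch.Sys.{u}} {h' : 𝔛'.IsFormal} {b : 𝔛' ⟶ 𝔛} (hb : FBlow.IsAdmBlowUp b h' h J)

include hR hp hfp htf hJc hb

/-- The levels of an admissible blow-up are proper. -/
theorem isProper_app (N : ℕ) : IsProper ((b : FSch.Hom 𝔛' 𝔛).app N) := by
  let bN := (b : FSch.Hom 𝔛' 𝔛).app N
  choose U hU n A hxU hA hJU using fun x : 𝔛.X 0 => exists_affine_level hJc x
  refine (IsZariskiLocalAtTarget.iff_of_iSup_eq_top (P := @IsProper) (fun x : 𝔛.X 0 => 𝔛.lvU h N (U x)) ?_).2 fun x => ?_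
  · exact top_le_iff.1 fun z _ => Opens.mem_iSup.2 ⟨𝔛.gInv h N z, hxU _⟩
  obtain ⟨-, h𝔞, -, P, q, hq, ε, hε⟩ := exists_local_model (p := p) hR hp hfp htf hb (hA x) (hU x) (hJU x)
  let W := 𝔛'.lvU h' N ((b : FSch.Hom 𝔛' 𝔛).app 0 ⁻¹ᵁ U x)
  have hW : bN ⁻¹ᵁ 𝔛.lvU h N (U x) = W := FSch.Hom.lvU_preimage b h' h N (U x)
  have key : ∀ (W : (𝔛'.X N).Opens) (e : bN ⁻¹ᵁ 𝔛.lvU h N (U x) = W),
      IsProper (bN.resLE (𝔛.lvU h N (U x)) W e.ge) → IsProper (bN ∣_ 𝔛.lvU h N (U x)) := by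
    rintro W rfl h1
    rwa [Scheme.Hom.resLE_eq_morphismRestrict] at h1
  refine key W hW ?_
  haveI : IsProper q := BlowExistsLib.isProper_of_FG hq (idealFT_idealSpec h𝔞)
  haveI : IsIso ((ε.hom : FSch.Hom _ _).app N) := ⟨(ε.inv : FSch.Hom _ _).app N,
      congrArg (fun t => FSch.Hom.app t N) ε.hom_inv_id, congrArg (fun t => FSch.Hom.app t N) ε.inv_hom_id⟩
  haveI : IsClosedImmersion (FSch.completionToX P
      ((FSch.idealSpec (OR 𝔛 h (U x)) (I.map (ρB h p (U x)))).comap q) N) :=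
    inferInstanceAs (IsClosedImmersion (Scheme.IdealSheafData.subschemeι _))
  haveI : IsClosedImmersion (Spec.map (CommRingCat.ofHom (pr 𝔛 h (U x) N))) :=
    IsClosedImmersion.spec_of_surjective _ ((affPres p hR hp (hU x)).1 N)
  haveI : IsClosedImmersion (lvSpec h (hU x) N) := by rw [lvSpec]; infer_instance
  haveI : IsProper (bN.resLE (𝔛.lvU h N (U x)) W hW.ge ≫ lvSpec h (hU x) N) := by
    have e : bN.resLE (𝔛.lvU h N (U x)) W hW.ge ≫ lvSpec h (hU x) N = _ := (hε N).symm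
    rw [e]
    infer_instance
  exact IsProper.of_comp _ (lvSpec h (hU x) N)

theorem compactSpace_blowUp [CompactSpace (𝔛.X 0)] : CompactSpace (𝔛'.X 0) := by
  haveI := isProper_app p hR hp hfp htf hJc hb 0
  exact QuasiCompact.compactSpace_of_compactSpace ((b : FSch.Hom 𝔛' 𝔛).app 0)

theorem quasiSeparatedSpace_blowUp [QuasiSeparatedSpace (𝔛.X 0)] : QuasiSeparatedSpace (𝔛'.X 0) := by
  haveI := isProper_app p hR hp hfp htf hJc hb 0
  exact quasiSeparatedSpace_of_quasiSeparated ((b : FSch.Hom 𝔛' 𝔛).app 0)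

/-- A high twist of a coherent open ideal on an admissible blow-up descends to the base. -/
theorem exists_coh_pushdown [CompactSpace (𝔛.X 0)] [QuasiSeparatedSpace (𝔛.X 0)]
    {J' : FBlow.IdealSh (𝔛'.Osh h')} (hJ' : FBlow.IsCohOpen 𝔛' h' J') :
    ∃ (m : ℕ) (K : FBlow.IdealSh (𝔛.Osh h)), FBlow.IsCohOpen 𝔛 h K ∧
      FBlow.idealMap b h' h K = tw J' (FBlow.idealMap b h' h J) m := by
  classical
  haveI := compactSpace_blowUp p hR hp hfp htf hJc hb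
  haveI := quasiSeparatedSpace_blowUp p hR hp hfp htf hJc hb
  have hp' : FSch.IsAdicHom (b ≫ p) := isAdicHom_comp hb.1 hp
  obtain ⟨n₁, A₁, hA₁, hJ₁⟩ := exists_global_level p hR hp hJc
  obtain ⟨n₂, A₂, hA₂, hJ₂⟩ := exists_global_level (h := h') (b ≫ p) hR hp' hJ'
  obtain ⟨A, hA, hJA⟩ := exists_level_of_le p hR hp (le_max_left n₁ n₂) hA₁
    (ext_of_cover fun _ => ⟨⊤, trivial, fun V _ => hJ₁ V⟩)
  obtain ⟨A', hA', hJA'⟩ := exists_level_of_le (h := h') (b ≫ p) hR hp' (le_max_right n₁ n₂) hA₂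
    (ext_of_cover fun _ => ⟨⊤, trivial, fun V _ => hJ₂ V⟩)
  let n := max n₁ n₂
  choose U hU n₀ A₀ hxU hA₀ hU₀ using fun x : 𝔛.X 0 => exists_affine_level hJc x
  obtain ⟨T, hT⟩ := isCompact_univ.elim_finite_subcover (fun x : 𝔛.X 0 => (U x : Set (𝔛.X 0))) (fun x => (U x).2)
    (fun x _ => Set.mem_iUnion.2 ⟨x, hxU x⟩)
  choose m₀ hm₀ using fun x : 𝔛.X 0 => exists_piece_twist p hR hp hfp htf hb hA hJA hA' hJA' (hU x)
  let m := T.sup m₀
  let N := (n + 1) * (m + 1)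
  have hnN : n ≤ N := le_trans (Nat.le_succ n) (Nat.le_mul_of_pos_right _ m.succ_pos)
  obtain ⟨AN, hAN, hJN⟩ := exists_level_of_le p hR hp hnN hA hJA
  obtain ⟨A'N, hA'N, hJ'N⟩ := exists_level_of_le (h := h') (b ≫ p) hR hp' hnN hA' hJA'
  let bN := (b : FSch.Hom 𝔛' 𝔛).app N
  haveI : IsProper bN := isProper_app p hR hp hfp htf hJc hb N
  let K' := A'N * (AN.comap bN) ^ m
  have htw : tw J' (FBlow.idealMap b h' h J) m = FBlow.ofLevel 𝔛' h' N K' := by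
    have hL : FBlow.idealMap b h' h J = FBlow.ofLevel 𝔛' h' N (AN.comap bN) := by
      rw [hJN]; exact idealMap_level (h' := h') p hR hp b hb.1 N AN
    have hdJ : Deep (b ≫ p) (n + 1) (FBlow.ofLevel 𝔛' h' N A'N) := by
      rw [← hJ'N, hJA']; exact deep_ofLevel (b ≫ p) hR hp' n A'
    have hdL : Deep (b ≫ p) (n + 1) (FBlow.ofLevel 𝔛' h' N (AN.comap bN)) := by
      rw [← hL, hJA, idealMap_level (h' := h') p hR hp b hb.1]; exact deep_ofLevel (b ≫ p) hR hp' n _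
    rw [hL, hJ'N]
    refine tw_level (h := h') (b ≫ p) hR hp' A'N _ hdJ hdL m ?_
    show n + 1 + m * (n + 1) ≤ (n + 1) * (m + 1) + 1
    have e : (n + 1) * (m + 1) = n + 1 + m * (n + 1) := by ring
    omega
  let e : 𝔛.X N ≃ₜ 𝔛.X 0 := TopCat.homeoOfIso (asIso (𝔛.gInv h N))
  haveI : CompactSpace (𝔛.X N) := e.symm.compactSpace
  haveI : QuasiSeparatedSpace (𝔛.X N) := QuasiSeparatedSpace.of_isOpenEmbedding (f := e) e.isOpenEmbedding
  haveI : CompactSpace (𝔛'.X N) := QuasiCompact.compactSpace_of_compactSpace bN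
  have hK' : (K'.map bN).comap bN = K' := by
    refine le_antisymm (Scheme.IdealSheafData.comap_map_le K' bN) ?_
    refine BlowTwistLib.le_of_comap_cover
      (fun x : {x : 𝔛.X 0 // x ∈ T} => 𝔛'.lvU h' N ((b : FSch.Hom 𝔛' 𝔛).app 0 ⁻¹ᵁ U x.1)) ?_ fun x => ?_
    · refine top_le_iff.1 fun z _ => ?_
      obtain ⟨x, hx, hzx⟩ := Set.mem_iUnion₂.1 (hT (Set.mem_univ ((b : FSch.Hom 𝔛' 𝔛).app 0 (𝔛'.gInv h' N z))))
      exact Opens.mem_iSup.2 ⟨⟨x, hx⟩, hzx⟩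
    · exact hm₀ x.1 m (Finset.le_sup x.2) N hnN AN A'N hJN hJ'N
  obtain ⟨M, -, hM, hMK⟩ := BlowTwistLib.exists_ft_le_comap_eq bN (K'.map bN) (by
    rw [hK']
    exact BlowTwistLib.idealFT_mul hA'N (BlowTwistLib.idealFT_pow (fg_comap AN bN hAN) m))
  refine ⟨m, FBlow.ofLevel 𝔛 h N M, isCohOpen_ofLevel hM, ?_⟩
  rw [idealMap_level (h' := h') p hR hp b hb.1 N M, htw]
  exact congrArg (FBlow.ofLevel 𝔛' h' N) (hMK.trans hK')

/-- An admissible blow-up followed by an admissible blow-up is an admissible blow-up. -/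
theorem exists_isAdmBlowUp_comp [CompactSpace (𝔛.X 0)] [QuasiSeparatedSpace (𝔛.X 0)]
    {J' : FBlow.IdealSh (𝔛'.Osh h')} (hJ' : FBlow.IsCohOpen 𝔛' h' J')
    {𝔛'' : FSch.Sys.{u}} {h'' : 𝔛''.IsFormal} {b' : 𝔛'' ⟶ 𝔛'} (hb' : FBlow.IsAdmBlowUp b' h'' h' J') :
    ∃ J'' : FBlow.IdealSh (𝔛.Osh h), FBlow.IsCohOpen 𝔛 h J'' ∧ FBlow.IsAdmBlowUp (b' ≫ b) h'' h J'' := by
  haveI := compactSpace_blowUp p hR hp hfp htf hJc hb
  haveI := quasiSeparatedSpace_blowUp p hR hp hfp htf hJc hb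
  obtain ⟨m, K, hK, hKe⟩ := exists_coh_pushdown p hR hp hfp htf hJc hb hJ'
  have hp' : FSch.IsAdicHom (b ≫ p) := isAdicHom_comp hb.1 hp
  have htf' := noTorsion p hR hp hfp htf hJc hb
  have hfp' := lfp p hR hp hfp htf hJc hb
  have htf'' := noTorsion (b ≫ p) hR hp' hfp' htf' hJ' hb'
  have hL : FBlow.IsCohOpen 𝔛' h' (FBlow.idealMap b h' h J) := isCohOpen_idealMap p hR hp b hb.1 hJc
  have hb'K : FBlow.IsAdmBlowUp b' h'' h' (FBlow.idealMap b h' h K) := by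
    rw [hKe]
    refine ⟨hb'.1, ?_, fun 𝔜 hY g hg hinv => ?_⟩
    · rw [idealMap_tw]
      exact isInvertible_tw hb'.2.1
        (isInvertible_idealMap_of_noTorsion (b ≫ p) hR hp' b' hb'.1 htf'' hL hb.2.1) m
    · rw [idealMap_tw] at hinv
      exact hb'.2.2 𝔜 hY g hg (isInvertible_of_tw m hinv)
  refine ⟨FBlow.IdealSh.mul J K, ?_, isAdmBlowUp_mul p hR hp hfp htf hJc hK hb hb'K⟩
  obtain ⟨n₁, A₁, hA₁, hJ₁⟩ := exists_global_level p hR hp hJc
  obtain ⟨n₂, A₂, hA₂, hJ₂⟩ := exists_global_level p hR hp hK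
  have eJ : J = FBlow.ofLevel 𝔛 h n₁ A₁ := ext_of_cover fun _ => ⟨⊤, trivial, fun V _ => hJ₁ V⟩
  have eK : K = FBlow.ofLevel 𝔛 h n₂ A₂ := ext_of_cover fun _ => ⟨⊤, trivial, fun V _ => hJ₂ V⟩
  let N := (n₁ + 1) + (n₂ + 1)
  obtain ⟨B₁, hB₁, hJN⟩ := exists_level_of_le p hR hp (show n₁ ≤ N by omega) hA₁ eJ
  obtain ⟨B₂, hB₂, hKN⟩ := exists_level_of_le p hR hp (show n₂ ≤ N by omega) hA₂ eK
  rw [hJN, hKN, mul_level p hR hp (k := n₁ + 1) (l := n₂ + 1) (show n₁ + 1 + (n₂ + 1) ≤ N + 1 by omega) B₁ B₂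
    (by rw [← hJN, eJ]; exact deep_ofLevel p hR hp n₁ A₁) (by rw [← hKN, eK]; exact deep_ofLevel p hR hp n₂ A₂)]
  exact isCohOpen_ofLevel (BlowTwistLib.idealFT_mul hB₁ hB₂)

end Groth.Agent.FBlowLib
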