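import Groth.Agent.FBlowLib.Prod
import Groth.Agent.FBlowLib.Twist

/-!
# Composites of admissible blow-ups over a locally finite cover are dominated by an admissible blow-up
-/

set_option autoImplicit false
set_option linter.style.haveILetI false
set_option backward.isDefEq.respectTransparency false
set_option backward.isDefEq.respectTransparency.types false
set_option maxHeartbeats 1000000
universe u

open CategoryTheory CategoryTheory.Limits AlgebraicGeometry TopologicalSpace Opposite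

noncomputable section

namespace Groth.Agent.FBlowLib

open Groth.Agent.FCompl Groth.Agent.BlowChartLib

variable {R : Type u} [CommRing R] {I : Ideal R} {𝔛 : FSch.Sys.{u}} {h : 𝔛.IsFormal}
  (p : 𝔛 ⟶ FSch.spf R I) (hR : AdicRing.IsBase R I) (hp : FSch.IsAdicHom p)
  (hfp : ∀ n, LocallyOfFinitePresentation ((p : FSch.Hom 𝔛 (FSch.spf R I)).app n))
  (htf : ∀ (V : (𝔛.X 0).Opens) (s : (𝔛.Osh h).obj.obj (Opposite.op V)),
    (∀ a ∈ (FBlow.IdealSh.ker (𝔛.OshProj h 0)).sect V, a * s = 0) → s = 0)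

include htf in
/-- An open subsystem has no torsion. -/
theorem htf_restrict (U : (𝔛.X 0).Opens) (hU : (𝔛.restrictOpen h U).IsFormal)
    (W : ((𝔛.restrictOpen h U).X 0).Opens) (s : ((𝔛.restrictOpen h U).Osh hU).obj.obj (Opposite.op W))
    (hs : ∀ a ∈ (FBlow.IdealSh.ker ((𝔛.restrictOpen h U).OshProj hU 0)).sect W, a * s = 0) : s = 0 := by
  let ι₀ := (𝔛.restrictOpenι h U : FSch.Hom _ _).app 0
  haveI : ∀ n, IsOpenImmersion ((𝔛.restrictOpenι h U : FSch.Hom _ _).app n) := restrictOpenι_open h U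
  let V := ι₀ ''ᵁ W
  have e : ι₀ ⁻¹ᵁ V = W := Scheme.Hom.preimage_image_eq ι₀ W
  let T : OR 𝔛 h V →+* OR (𝔛.restrictOpen h U) hU W := (rsO _ hU e.ge).comp
    ((FSch.Hom.sharp (𝔛.restrictOpenι h U) hU h).hom.app (op V)).hom
  have hbij : Function.Bijective T := by
    have : ∀ (V₁ : ((𝔛.restrictOpen h U).X 0).Opens) (e' : ι₀ ⁻¹ᵁ V = V₁),
        Function.Bijective (rsO (𝔛.restrictOpen h U) hU e'.ge) := by
      rintro _ rfl
      have e1 : ⇑(rsO (𝔛.restrictOpen h U) hU (le_refl (ι₀ ⁻¹ᵁ V))) = id :=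
        funext fun t => FBlow.IdealSh.map_id_apply _ t
      rw [e1]
      exact Function.bijective_id
    exact (this W e).comp (sharp_bijective_of_open hU h (𝔛.restrictOpenι h U) V
      (by rintro _ ⟨z, -, rfl⟩; exact ⟨z, rfl⟩))
  obtain ⟨s', rfl⟩ := hbij.2 s
  rw [htf V s' fun a ha => hbij.1 ?_, map_zero]
  rw [map_mul, map_zero]
  refine hs _ (RingHom.mem_ker.2 ?_)
  show pr (𝔛.restrictOpen h U) hU W 0 (T a) = 0
  refine (pr_rsO _ hU e.ge 0 _).trans ?_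
  have ha' : pr 𝔛 h V 0 a = 0 := RingHom.mem_ker.1 ha
  refine (congrArg _ (pr_sharp hU h (𝔛.restrictOpenι h U) V a 0)).trans ?_
  rw [ha', map_zero, map_zero]

include hR hp hfp htf in
/-- A composite of admissible blow-ups is dominated by an admissible blow-up. -/
theorem exists_blowUp_dominating [QuasiSeparatedSpace (𝔛.X 0)]
    (hqp : ∃ (ι : Type u) (V : ι → (𝔛.X 0).Opens), (⨆ i, V i) = ⊤ ∧ (∀ i, IsCompact (V i : Set (𝔛.X 0))) ∧
      ∀ i, Set.Finite {j : ι | V i ⊓ V j ≠ ⊥})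
    {J : FBlow.IdealSh (𝔛.Osh h)} (hJ : FBlow.IsCohOpen 𝔛 h J)
    {𝔛' : FSch.Sys.{u}} {h' : 𝔛'.IsFormal} {b : 𝔛' ⟶ 𝔛} (hb : FBlow.IsAdmBlowUp b h' h J)
    {J' : FBlow.IdealSh (𝔛'.Osh h')} (hJ' : FBlow.IsCohOpen 𝔛' h' J')
    {𝔛'' : FSch.Sys.{u}} {h'' : 𝔛''.IsFormal} {b' : 𝔛'' ⟶ 𝔛'} (hb' : FBlow.IsAdmBlowUp b' h'' h' J') :
    ∃ (J''' : FBlow.IdealSh (𝔛.Osh h)) (𝔛''' : FSch.Sys.{u}) (h''' : 𝔛'''.IsFormal) (c : 𝔛''' ⟶ 𝔛),
      FBlow.IsCohOpen 𝔛 h J''' ∧ FBlow.IsAdmBlowUp c h''' h J''' ∧ ∃ s : 𝔛''' ⟶ 𝔛'', s ≫ b' ≫ b = c := by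
  classical
  haveI := hfp 0
  obtain ⟨ι, V, hV, hVc, hVf⟩ := id hqp
  have hp' : FSch.IsAdicHom (b ≫ p) := isAdicHom_comp hb.1 hp
  let W : ι → (𝔛'.X 0).Opens := fun i => (b : FSch.Hom 𝔛' 𝔛).app 0 ⁻¹ᵁ V i
  let r : ∀ i, 𝔛'.restrictOpen h' (W i) ⟶ 𝔛.restrictOpen h (V i) := fun i => FSch.Hom.restrictOpen b h' h (V i)
  have hr := fun i => isAdmBlowUp_restrict hb (V i) (restrict_isFormal h (V i)) (restrict_isFormal h' (W i))
  have hι := fun i => isAdicHom_restrictOpenι (hX := h) (V i)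
  have hpush : ∀ i, ∃ (m : ℕ) (K : FBlow.IdealSh ((𝔛.restrictOpen h (V i)).Osh (restrict_isFormal h (V i)))),
      FBlow.IsCohOpen (𝔛.restrictOpen h (V i)) (restrict_isFormal h (V i)) K ∧
      FBlow.idealMap (r i) (restrict_isFormal h' (W i)) (restrict_isFormal h (V i)) K =
        tw (FBlow.idealMap (𝔛'.restrictOpenι h' (W i)) (restrict_isFormal h' (W i)) h' J')
          (FBlow.idealMap (r i) (restrict_isFormal h' (W i)) (restrict_isFormal h (V i))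
            (FBlow.idealMap (𝔛.restrictOpenι h (V i)) (restrict_isFormal h (V i)) h J)) m := fun i => by
    let ι₀ : (𝔛.restrictOpen h (V i)).X 0 ⟶ 𝔛.X 0 := (𝔛.restrictOpenι h (V i) : FSch.Hom _ _).app 0
    haveI : IsOpenImmersion ι₀ := inferInstanceAs (IsOpenImmersion (𝔛.lvU h 0 (V i)).ι)
    have hcpt0 : IsCompact (𝔛.lvU h 0 (V i) : Set (𝔛.X 0)) := by
      rw [show (𝔛.lvU h 0 (V i) : Set (𝔛.X 0)) = (V i : Set (𝔛.X 0)) from Set.ext fun z => mem_lvU_zero h (V i) z]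
      exact hVc i
    haveI : CompactSpace ((𝔛.restrictOpen h (V i)).X 0) := isCompact_iff_compactSpace.1 hcpt0
    haveI : QuasiSeparatedSpace ((𝔛.restrictOpen h (V i)).X 0) :=
      QuasiSeparatedSpace.of_isOpenEmbedding (f := ι₀) ι₀.isOpenEmbedding
    exact exists_coh_pushdown (h := restrict_isFormal h (V i)) (𝔛.restrictOpenι h (V i) ≫ p) hR
      (isAdicHom_comp (hι i) hp) (fun n => by
        haveI := hfp n
        show LocallyOfFinitePresentation ((𝔛.lvU h n (V i)).ι ≫ (p : FSch.Hom 𝔛 (FSch.spf R I)).app n)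
        infer_instance)
      (htf_restrict htf (V i) _) (isCohOpen_idealMap p hR hp _ (hι i) hJ) (hr i)
      (isCohOpen_idealMap (b ≫ p) hR hp' _ (isAdicHom_restrictOpenι (hX := h') (W i)) hJ')
  choose m K hK hKe using hpush
  choose Ke hKec hres htop using fun i =>
    exists_coh_extension p hR hp hqp (V i) (hVc i) (restrict_isFormal h (V i)) (K i) (hK i)
  let S₀ : ι → Finset ι := fun i => insert i (hVf i).toFinset
  have hloc : ∀ i, ∀ U, U ≤ V i → (lfprod Ke).sect U = (fprod Ke (S₀ i)).sect U := fun i U hU => by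
    refine lfprod_sect_eq Ke (S₀ i) (U := V i) (fun j hj U hU => htop j U (le_bot_iff.1 ?_)) hU
    have hj' : V i ⊓ V j = ⊥ := by
      by_contra hne
      exact hj (Finset.mem_insert_of_mem ((hVf i).mem_toFinset.2 hne))
    exact hj' ▸ inf_le_inf_right (V j) hU
  have hL : FBlow.IsCohOpen 𝔛 h (lfprod Ke) := fun x => by
    obtain ⟨i, hxi⟩ := Opens.mem_iSup.1 (hV.ge (Opens.mem_top x))
    obtain ⟨U, hxU, n, A, hA, hU⟩ := isCohOpen_fprod p hR hp Ke hKec (S₀ i) x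
    exact ⟨U ⊓ V i, ⟨hxU, hxi⟩, n, A, hA, fun U' hU' =>
      (hloc i U' (hU'.trans inf_le_right)).trans (hU U' (hU'.trans inf_le_left))⟩
  have hJ3 := isCohOpen_mul p hR hp hJ hL
  obtain ⟨𝔛₃, h₃, c, hc⟩ := exists_isAdmBlowUp p hR hp hfp htf hJ3
  refine ⟨_, 𝔛₃, h₃, c, hJ3, hc, ?_⟩
  have hinv := hc.2.1
  rw [show FBlow.idealMap c h₃ h (FBlow.IdealSh.mul J (lfprod Ke)) =
    FBlow.IdealSh.mul (FBlow.idealMap c h₃ h J) (FBlow.idealMap c h₃ h (lfprod Ke)) from map_mul' _ _ _ _] at hinv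
  obtain ⟨t, ht, -⟩ := hb.2.2 𝔛₃ h₃ c hc.1 (isInvertible_of_mul hinv)
  have hLinv : (FBlow.idealMap c h₃ h (lfprod Ke)).IsInvertible := isInvertible_of_mul (mul_comm' _ _ ▸ hinv)
  have hta : FSch.IsAdicHom t := isAdicHom_cancel (ht.symm ▸ hc.1) hb.1
  have htJ' : (FBlow.idealMap t h₃ h' J').IsInvertible := by
    refine isInvertible_of_cover h₃ _ fun z => ?_
    obtain ⟨i, hzi⟩ := Opens.mem_iSup.1 (hV.ge (Opens.mem_top ((b : FSch.Hom 𝔛' 𝔛).app 0
      ((t : FSch.Hom 𝔛₃ 𝔛').app 0 z))))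
    let O := (t : FSch.Hom 𝔛₃ 𝔛').app 0 ⁻¹ᵁ W i
    let ti := FSch.Hom.restrictOpen t h₃ h' (W i)
    have hO : (𝔛₃.restrictOpen h₃ O).IsFormal := restrict_isFormal h₃ O
    refine ⟨_, hO, 𝔛₃.restrictOpenι h₃ O, restrictOpenι_open h₃ O,
      ⟨⟨z, (mem_lvU_zero h₃ O z).2 hzi⟩, rfl⟩, ?_⟩
    have hsq : ti ≫ 𝔛'.restrictOpenι h' (W i) = 𝔛₃.restrictOpenι h₃ O ≫ t := FSch.Hom.restrictOpen_ι t h₃ h' (W i)
    have hsqb : r i ≫ 𝔛.restrictOpenι h (V i) = 𝔛'.restrictOpenι h' (W i) ≫ b :=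
      FSch.Hom.restrictOpen_ι b h' h (V i)
    have h1 : (FBlow.idealMap (𝔛₃.restrictOpenι h₃ O ≫ c) hO h (lfprod Ke)).IsInvertible := by
      rw [idealMap_comp hO h₃ h]
      haveI : ∀ n, IsOpenImmersion ((𝔛₃.restrictOpenι h₃ O : FSch.Hom _ _).app n) := restrictOpenι_open h₃ O
      exact isInvertible_idealMap_of_open hO h₃ (𝔛₃.restrictOpenι h₃ O) hLinv
    have e : 𝔛₃.restrictOpenι h₃ O ≫ c = (ti ≫ r i) ≫ 𝔛.restrictOpenι h (V i) := by
      rw [Category.assoc, hsqb, ← Category.assoc, hsq, Category.assoc]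
      exact congrArg (_ ≫ ·) ht.symm
    rw [e, idealMap_comp hO (restrict_isFormal h (V i)) h, idealMap_restrict_congr _ (hloc i),
      ← idealMap_comp hO (restrict_isFormal h (V i)) h] at h1
    have h2 := isInvertible_of_fprod Ke hO _ (Finset.mem_insert_self i (hVf i).toFinset) h1
    rw [idealMap_comp hO (restrict_isFormal h (V i)) h, hres i,
      idealMap_comp hO (restrict_isFormal h' (W i)) (restrict_isFormal h (V i)), hKe i, idealMap_tw] at h2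
    have h3 := isInvertible_of_tw (m i) h2
    rw [← idealMap_comp hO (restrict_isFormal h' (W i)) h', hsq, idealMap_comp hO h₃ h'] at h3
    exact h3
  obtain ⟨s, hs, -⟩ := hb'.2.2 𝔛₃ h₃ t hta htJ'
  exact ⟨s, by rw [← Category.assoc, hs]; exact ht⟩

end Groth.Agent.FBlowLib
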