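import Groth.Agent.FComplLib.Rings
import Groth.Agent.BlowChartLib.AffineCrit
import Groth.Prelude.Def_FBlow
import Groth.Agent.S3873

/-!
# The ideal generated on a formal system by an ideal of a ring
-/

set_option autoImplicit false
set_option linter.style.haveILetI false
set_option backward.isDefEq.respectTransparency false
set_option backward.isDefEq.respectTransparency.types false
set_option maxHeartbeats 400000
universe u

open CategoryTheory CategoryTheory.Limits AlgebraicGeometry TopologicalSpace Opposite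

noncomputable section

namespace Groth.Agent.FBlowLib

open Groth.Agent.FCompl Groth.Agent.BlowChartLib

section Sheaf

variable {T : TopCat.{u}} {O : Sheaf (Opens.grothendieckTopology T) CommRingCat.{u}}

/-- An ideal sheaf with a local generator, which is regular locally, is invertible. -/
theorem isInvertible_of_local (J : FBlow.IdealSh O)
    (hJ : ∀ x : T, ∃ (U : Opens T), x ∈ U ∧ ∃ g ∈ J.sect U,
      (∀ (V : Opens T) (i : V ≤ U), ∀ y ∈ V, ∃ (W : Opens T) (k : W ≤ V), y ∈ W ∧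
        ∀ t : O.obj.obj (op W), t * O.obj.map (homOfLE (k.trans i)).op g = 0 → t = 0) ∧
      ∀ (V : Opens T) (i : V ≤ U), ∀ s ∈ J.sect V, ∀ y ∈ V, ∃ (W : Opens T) (k : W ≤ V), y ∈ W ∧
        ∃ t : O.obj.obj (op W), O.obj.map (homOfLE k).op s = t * O.obj.map (homOfLE (k.trans i)).op g) :
    J.IsInvertible := by
  intro x
  obtain ⟨U, hxU, g, hg, hreg, hgen⟩ := hJ x
  have hnzd : ∀ (V : Opens T) (i : V ≤ U) (t : O.obj.obj (op V)), t * O.obj.map (homOfLE i).op g = 0 → t = 0 := by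
    intro V i t ht
    choose W k hyW hW using hreg V i
    refine TopCat.Sheaf.eq_of_locally_eq' O (fun y : V => W y.1 y.2) V (fun y => homOfLE (k y.1 y.2))
      (fun y hy => Opens.mem_iSup.2 ⟨⟨y, hy⟩, hyW y hy⟩) t 0 fun y => ?_
    rw [map_zero]
    refine hW y.1 y.2 _ ?_
    rw [← FBlow.IdealSh.map_comp_apply i (k y.1 y.2), ← map_mul]
    exact (congrArg _ ht).trans (map_zero _)
  refine ⟨U, hxU, g, hg, fun V i => ⟨hnzd V i, fun s hs => ?_⟩⟩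
  choose W k hyW t ht using hgen V i s hs
  have hcomp : TopCat.Presheaf.IsCompatible O.obj (fun y : V => W y.1 y.2) fun y => t y.1 y.2 := fun a b => by
    refine sub_eq_zero.1 (hnzd _ ((inf_le_left.trans (k a.1 a.2)).trans i) _ ?_)
    have ea := congrArg (O.obj.map (homOfLE (inf_le_left : W a.1 a.2 ⊓ W b.1 b.2 ≤ _)).op) (ht a.1 a.2)
    have eb := congrArg (O.obj.map (homOfLE (inf_le_right : W a.1 a.2 ⊓ W b.1 b.2 ≤ _)).op) (ht b.1 b.2)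
    rw [map_mul, FBlow.IdealSh.map_comp_apply, FBlow.IdealSh.map_comp_apply] at ea eb
    rw [sub_mul, sub_eq_zero]
    exact ea.symm.trans eb
  obtain ⟨t₀, ht₀, -⟩ := TopCat.Sheaf.existsUnique_gluing' O (fun y : V => W y.1 y.2) V
    (fun y => homOfLE (k y.1 y.2)) (fun y hy => Opens.mem_iSup.2 ⟨⟨y, hy⟩, hyW y hy⟩) _ hcomp
  refine ⟨t₀, TopCat.Sheaf.eq_of_locally_eq' O (fun y : V => W y.1 y.2) V (fun y => homOfLE (k y.1 y.2))
    (fun y hy => Opens.mem_iSup.2 ⟨⟨y, hy⟩, hyW y hy⟩) s (t₀ * O.obj.map (homOfLE i).op g) fun y => ?_⟩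
  rw [map_mul, FBlow.IdealSh.map_comp_apply]
  exact (ht y.1 y.2).trans (congrArg (· * _) (ht₀ y).symm)

/-- The preimage of an ideal sheaf under a morphism of ringed spaces. -/
def comapSh {T' : TopCat.{u}} {O' : Sheaf (Opens.grothendieckTopology T') CommRingCat.{u}} (g : T' ⟶ T)
    (φ : O ⟶ (TopCat.Sheaf.pushforward CommRingCat.{u} g).obj O') (L : FBlow.IdealSh O') : FBlow.IdealSh O where
  sect W := (L.sect ((Opens.map g).obj W)).comap (φ.hom.app (op W)).hom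
  map_mem {U V} i s hs := by
    rw [Ideal.mem_comap] at hs ⊢
    change (O.obj.map (homOfLE i).op ≫ φ.hom.app (op V)) s ∈ _
    rw [φ.hom.naturality, CategoryTheory.comp_apply]
    exact L.map_mem (Opens.map g |>.map (homOfLE i)).le hs
  mem_of_local {U s} hs := by
    rw [Ideal.mem_comap]
    refine L.mem_of_local fun x hx => ?_
    obtain ⟨V, i, hxV, hV⟩ := hs (g x) hx
    refine ⟨(Opens.map g).obj V, (Opens.map g |>.map (homOfLE i)).le, hxV, ?_⟩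
    rw [Ideal.mem_comap] at hV
    change (O.obj.map (homOfLE i).op ≫ φ.hom.app (op V)) s ∈ _ at hV
    rw [φ.hom.naturality, CategoryTheory.comp_apply] at hV
    exact hV

theorem map_le_of_le_comapSh {T' : TopCat.{u}} {O' : Sheaf (Opens.grothendieckTopology T') CommRingCat.{u}}
    {g : T' ⟶ T} {φ : O ⟶ (TopCat.Sheaf.pushforward CommRingCat.{u} g).obj O'} {J : FBlow.IdealSh O}
    {L : FBlow.IdealSh O'} (hJ : J ≤ comapSh g φ L) : FBlow.IdealSh.map g φ J ≤ L :=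
  FBlow.IdealSh.map_le fun W a ha _ j => L.map_mem j (hJ W ha)

theorem le_antisymm' {J K : FBlow.IdealSh O} (h₁ : J ≤ K) (h₂ : K ≤ J) : J = K :=
  FBlow.IdealSh.ext (funext fun U => le_antisymm (h₁ U) (h₂ U))

end Sheaf

section Img

variable {A : Type u} [CommRing A] {𝔜 : FSch.Sys.{u}} (h : 𝔜.IsFormal)
  (y : ∀ n, 𝔜.X n ⟶ Spec (CommRingCat.of A)) (hy : ∀ n, 𝔜.ι n ≫ y (n + 1) = y n)

/-- The image of the ring in the sections of the formal system. -/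
def img (V : (𝔜.X 0).Opens) : A →+* OR 𝔜 h V :=
  (((Scheme.ΓSpecIso (CommRingCat.of A)).inv ≫ (FSch.schSharp 𝔜 h y hy).hom.app (op ⊤)) ≫
    (𝔜.Osh h).obj.map (homOfLE (show V ≤ (Opens.map (y 0).base).obj ⊤ from fun _ _ => trivial)).op).hom

lemma pr_schSharp {Y : Scheme.{u}} (p : ∀ n, 𝔜.X n ⟶ Y) (hp : ∀ n, 𝔜.ι n ≫ p (n + 1) = p n) (U : Y.Opens)
    (a : Γ(Y, U)) (n : ℕ) :
    pr 𝔜 h (p 0 ⁻¹ᵁ U) n ((FSch.schSharp 𝔜 h p hp).hom.app (op U) a) =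
      (p n).appLE U _ (FSch.lvU_p 𝔜 h p hp n U).ge a :=
  congr($(FSch.schSharp_proj 𝔜 h p hp n).hom.app (op U) a)

lemma pr_sharp {𝔛 : FSch.Sys.{u}} (hX : 𝔛.IsFormal) (g : 𝔜 ⟶ 𝔛) (U : (𝔛.X 0).Opens) (a : OR 𝔛 hX U) (n : ℕ) :
    pr 𝔜 h ((g : FSch.Hom 𝔜 𝔛).app 0 ⁻¹ᵁ U) n ((FSch.Hom.sharp g h hX).hom.app (op U) a) =
      ((g : FSch.Hom 𝔜 𝔛).app n).appLE _ _ (FSch.Hom.lvU_preimage g h hX n U).ge (pr 𝔛 hX U n a) :=
  congr($(FSch.Hom.sharp_proj g h hX n).hom.app (op U) a)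

lemma pr_img (V : (𝔜.X 0).Opens) (a : A) (n : ℕ) :
    pr 𝔜 h V n (img h y hy V a) = secHom (y n) (𝔜.lvU h n V) a := by
  refine (pr_rsO 𝔜 h (show V ≤ (Opens.map (y 0).base).obj ⊤ from fun _ _ => trivial) n _).trans ?_
  refine (congrArg _ (pr_schSharp h y hy ⊤ _ n)).trans ?_
  exact ConcreteCategory.congr_hom (Scheme.Hom.appLE_map (y n) (FSch.lvU_p 𝔜 h y hy n ⊤).ge
    (homOfLE (FCompl.lvU_mono 𝔜 h (show V ≤ (Opens.map (y 0).base).obj ⊤ from fun _ _ => trivial) n)).op) _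

lemma rsO_img {U V : (𝔜.X 0).Opens} (i : V ≤ U) (a : A) : rsO 𝔜 h i (img h y hy U a) = img h y hy V a :=
  osh_ext fun n => by
    rw [pr_rsO, pr_img, pr_img]
    exact ConcreteCategory.congr_hom (Scheme.Hom.appLE_map (y n) le_top
      (homOfLE (FCompl.lvU_mono 𝔜 h i n)).op) _

lemma map_img {U V : (𝔜.X 0).Opens} (i : V ≤ U) (𝔞 : Ideal A) :
    (𝔞.map (img h y hy U)).map (rsO 𝔜 h i) = 𝔞.map (img h y hy V) := by
  rw [Ideal.map_map]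
  exact congrArg (fun φ : A →+* OR 𝔜 h V => 𝔞.map φ) (RingHom.ext (rsO_img h y hy i))

/-- The ideal sheaf generated by an ideal of the ring. -/
def aSh (𝔞 : Ideal A) : FBlow.IdealSh (𝔜.Osh h) := FBlow.IdealSh.gen fun V => img h y hy V '' (𝔞 : Set A)

lemma exists_of_mem_aSh {𝔞 : Ideal A} {V : (𝔜.X 0).Opens} {s : OR 𝔜 h V} (hs : s ∈ (aSh h y hy 𝔞).sect V)
    {x : 𝔜.X 0} (hx : x ∈ V) :
    ∃ (W : (𝔜.X 0).Opens) (i : W ≤ V), x ∈ W ∧ rsO 𝔜 h i s ∈ 𝔞.map (img h y hy W) := by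
  obtain ⟨W, i, hxW, hW⟩ := hs x hx
  refine ⟨W, i, hxW, Ideal.span_le.2 ?_ hW⟩
  rintro _ ⟨W', j, a, ⟨b, hb, rfl⟩, rfl⟩
  show rsO 𝔜 h j (img h y hy W' b) ∈ _
  rw [rsO_img]
  exact Ideal.mem_map_of_mem _ hb

lemma map_img_le_aSh (𝔞 : Ideal A) (V : (𝔜.X 0).Opens) : 𝔞.map (img h y hy V) ≤ (aSh h y hy 𝔞).sect V :=
  Ideal.map_le_iff_le_comap.2 fun a ha => Ideal.mem_comap.2 (FBlow.IdealSh.subset_gen _ V ⟨a, ha, rfl⟩)

/-- A regular generator of the image near every point makes the ideal sheaf invertible. -/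
theorem isInvertible_aSh (𝔞 : Ideal A)
    (hh : ∀ x : 𝔜.X 0, ∃ (U : (𝔜.X 0).Opens), x ∈ U ∧ ∃ c : OR 𝔜 h U, 𝔞.map (img h y hy U) = Ideal.span {c} ∧
      ∀ (V : (𝔜.X 0).Opens) (i : V ≤ U), ∀ z ∈ V, ∃ (W : (𝔜.X 0).Opens) (k : W ≤ V), z ∈ W ∧
        ∀ t : OR 𝔜 h W, t * rsO 𝔜 h (k.trans i) c = 0 → t = 0) :
    (aSh h y hy 𝔞).IsInvertible := by
  refine isInvertible_of_local _ fun x => ?_
  obtain ⟨U, hxU, c, hc, hreg⟩ := hh x
  refine ⟨U, hxU, c, map_img_le_aSh h y hy 𝔞 U (hc ▸ Ideal.mem_span_singleton_self c), hreg, fun V i s hs z hz => ?_⟩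
  obtain ⟨W, k, hzW, hW⟩ := exists_of_mem_aSh h y hy hs hz
  refine ⟨W, k, hzW, ?_⟩
  rw [← map_img h y hy (k.trans i), hc, Ideal.map_span, Set.image_singleton, Ideal.mem_span_singleton'] at hW
  obtain ⟨t, ht⟩ := hW
  exact ⟨t, ht.symm⟩

/-- An invertible image has a regular generator on small affine opens. -/
theorem exists_affine_gen {𝔞 : Ideal A} (hinv : (aSh h y hy 𝔞).IsInvertible) {W₀ : (𝔜.X 0).Opens}
    {x : 𝔜.X 0} (hx : x ∈ W₀) :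
    ∃ V : (𝔜.X 0).Opens, IsAffineOpen V ∧ x ∈ V ∧ V ≤ W₀ ∧
      ∃ c : OR 𝔜 h V, c ∈ nonZeroDivisors (OR 𝔜 h V) ∧ 𝔞.map (img h y hy V) = Ideal.span {c} := by
  obtain ⟨U, hxU, g, hg, hU⟩ := hinv x
  obtain ⟨W, i, hxW, hW⟩ := exists_of_mem_aSh h y hy hg hxU
  obtain ⟨V, hV, hxV, hVle⟩ := FCompl.exists_affine_le (𝔛 := 𝔜) (U := W ⊓ W₀) ⟨hxW, hx⟩
  have hVW : V ≤ W := hVle.trans inf_le_left
  have hVU : V ≤ U := hVW.trans i
  obtain ⟨hn, hgen⟩ := hU V hVU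
  refine ⟨V, hV, hxV, hVle.trans inf_le_right, rsO 𝔜 h hVU g, mem_nonZeroDivisors_iff_right.2 hn,
    le_antisymm (fun s hs => ?_) ?_⟩
  · obtain ⟨t, ht⟩ := hgen s (map_img_le_aSh h y hy 𝔞 V hs)
    exact Ideal.mem_span_singleton'.2 ⟨t, ht.symm⟩
  · rw [Ideal.span_le, Set.singleton_subset_iff, SetLike.mem_coe, ← map_img h y hy hVW,
      show rsO 𝔜 h hVU g = rsO 𝔜 h hVW (rsO 𝔜 h i g) from (FBlow.IdealSh.map_comp_apply i hVW g).symm]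
    exact Ideal.mem_map_of_mem _ hW

end Img

section Compare

variable {A : Type u} [CommRing A]

lemma ideal_idealSpec_le (𝔞 : Ideal A) (U : (Spec (CommRingCat.of A)).affineOpens) :
    (FSch.idealSpec A 𝔞).ideal U =
      𝔞.map (((Scheme.ΓSpecIso (CommRingCat.of A)).inv ≫
        (Spec (CommRingCat.of A)).presheaf.map (homOfLE (le_top : U.1 ≤ ⊤)).op).hom) := by
  rw [← (FSch.idealSpec A 𝔞).map_ideal (U := U) (V := ⟨⊤, isAffineOpen_top _⟩) (le_top : U.1 ≤ ⊤), S3873.idealSpec_top,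
    Ideal.map_map]
  rfl

variable {𝔛 𝔜 : FSch.Sys.{u}} (hX : 𝔛.IsFormal) (h : 𝔜.IsFormal) (g : 𝔜 ⟶ 𝔛)
  (p : ∀ n, 𝔛.X n ⟶ Spec (CommRingCat.of A)) (hp : ∀ n, 𝔛.ι n ≫ p (n + 1) = p n)

include hp in
lemma comp_comm (n : ℕ) :
    𝔜.ι n ≫ ((g : FSch.Hom 𝔜 𝔛).app (n + 1) ≫ p (n + 1)) = (g : FSch.Hom 𝔜 𝔛).app n ≫ p n := by
  rw [← Category.assoc, ← (g : FSch.Hom 𝔜 𝔛).comm n, Category.assoc, hp]

lemma pr_sharp_schSharp (U : (Spec (CommRingCat.of A)).Opens) (a : Γ(Spec (CommRingCat.of A), U)) (n : ℕ)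
    (e : 𝔜.lvU h n ((g : FSch.Hom 𝔜 𝔛).app 0 ⁻¹ᵁ (p 0 ⁻¹ᵁ U)) ≤ ((g : FSch.Hom 𝔜 𝔛).app n ≫ p n) ⁻¹ᵁ U) :
    pr 𝔜 h ((g : FSch.Hom 𝔜 𝔛).app 0 ⁻¹ᵁ (p 0 ⁻¹ᵁ U)) n
      ((FSch.Hom.sharp g h hX).hom.app (op (p 0 ⁻¹ᵁ U)) ((FSch.schSharp 𝔛 hX p hp).hom.app (op U) a)) =
      ((g : FSch.Hom 𝔜 𝔛).app n ≫ p n).appLE U _ e a := by
  refine (pr_sharp h hX g (p 0 ⁻¹ᵁ U) _ n).trans ((congrArg _ (pr_schSharp hX p hp U a n)).trans ?_)
  exact ConcreteCategory.congr_hom (Scheme.Hom.appLE_comp_appLE ((g : FSch.Hom 𝔜 𝔛).app n) (p n) U _ _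
    (FSch.lvU_p 𝔛 hX p hp n U).ge (FSch.Hom.lvU_preimage g h hX n (p 0 ⁻¹ᵁ U)).ge) a

lemma sharp_schSharp (y : ∀ n, 𝔜.X n ⟶ Spec (CommRingCat.of A)) (hy : ∀ n, 𝔜.ι n ≫ y (n + 1) = y n)
    (e : ∀ n, (g : FSch.Hom 𝔜 𝔛).app n ≫ p n = y n) (U : (Spec (CommRingCat.of A)).Opens)
    (a : Γ(Spec (CommRingCat.of A), U)) :
    rsO 𝔜 h (show y 0 ⁻¹ᵁ U ≤ (g : FSch.Hom 𝔜 𝔛).app 0 ⁻¹ᵁ (p 0 ⁻¹ᵁ U) by rw [← e 0]; exact le_rfl)
        ((FSch.Hom.sharp g h hX).hom.app (op (p 0 ⁻¹ᵁ U)) ((FSch.schSharp 𝔛 hX p hp).hom.app (op U) a)) =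
      (FSch.schSharp 𝔜 h y hy).hom.app (op U) a := by
  obtain rfl : (fun n => (g : FSch.Hom 𝔜 𝔛).app n ≫ p n) = y := funext e
  refine osh_ext fun n => ?_
  refine (pr_rsO 𝔜 h _ n _).trans ?_
  refine Eq.trans ?_ (pr_schSharp h (fun n => (g : FSch.Hom 𝔜 𝔛).app n ≫ p n) hy U a n).symm
  refine (congrArg _ (pr_sharp_schSharp hX h g p hp U a n
    ((FSch.Hom.lvU_preimage g h hX n (p 0 ⁻¹ᵁ U)).ge.trans
      (Scheme.Hom.preimage_mono _ (FSch.lvU_p 𝔛 hX p hp n U).ge)))).trans ?_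
  exact ConcreteCategory.congr_hom (Scheme.Hom.appLE_map _ _ _) a

theorem idealMap_schIdealMap_eq (𝔞 : Ideal A) :
    FBlow.idealMap g h hX (FBlow.schIdealMap 𝔛 hX p hp (FBlow.IdealSh.ofData (FSch.idealSpec A 𝔞))) =
      aSh h (fun n => (g : FSch.Hom 𝔜 𝔛).app n ≫ p n) (comp_comm g p hp) 𝔞 := by
  let Y := Spec (CommRingCat.of A)
  let y : ∀ n, 𝔜.X n ⟶ Y := fun n => (g : FSch.Hom 𝔜 𝔛).app n ≫ p n
  have hy : ∀ n, 𝔜.ι n ≫ y (n + 1) = y n := comp_comm g p hp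
  refine le_antisymm' (map_le_of_le_comapSh (map_le_of_le_comapSh fun U c hc => ?_)) (FBlow.IdealSh.gen_le ?_)
  · suffices hmem : (FSch.schSharp 𝔜 h y hy).hom.app (op U) c ∈ (aSh h y hy 𝔞).sect (y 0 ⁻¹ᵁ U) by
      rw [← sharp_schSharp hX h g p hp y hy (fun n => rfl) U c] at hmem
      show (FSch.Hom.sharp g h hX).hom.app (op (p 0 ⁻¹ᵁ U)) ((FSch.schSharp 𝔛 hX p hp).hom.app (op U) c) ∈
        (aSh h y hy 𝔞).sect ((g : FSch.Hom 𝔜 𝔛).app 0 ⁻¹ᵁ (p 0 ⁻¹ᵁ U))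
      refine (aSh h y hy 𝔞).mem_of_local fun x hx => ⟨y 0 ⁻¹ᵁ U, le_refl _, hx, hmem⟩
    refine (aSh h y hy 𝔞).mem_of_local fun x hx => ?_
    obtain ⟨V, i, hxV, hV⟩ := hc (y 0 x) hx
    refine ⟨y 0 ⁻¹ᵁ V.1, (y 0).preimage_mono i, hxV, ?_⟩
    have hn : (𝔜.Osh h).obj.map (homOfLE ((y 0).preimage_mono i)).op ((FSch.schSharp 𝔜 h y hy).hom.app (op U) c) =
        (FSch.schSharp 𝔜 h y hy).hom.app (op V.1) (Y.presheaf.map (homOfLE i).op c) :=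
      (ConcreteCategory.congr_hom ((FSch.schSharp 𝔜 h y hy).hom.naturality (homOfLE i).op) c).symm
    rw [hn]
    rw [ideal_idealSpec_le] at hV
    have key : ∀ a : A, (FSch.schSharp 𝔜 h y hy).hom.app (op V.1)
        (((Scheme.ΓSpecIso (CommRingCat.of A)).inv ≫ Y.presheaf.map (homOfLE (le_top : V.1 ≤ ⊤)).op) a) =
        img h y hy (y 0 ⁻¹ᵁ V.1) a := fun a =>
      (ConcreteCategory.congr_hom ((FSch.schSharp 𝔜 h y hy).hom.naturality (homOfLE (le_top : V.1 ≤ ⊤)).op) _)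
    have hm := Ideal.mem_map_of_mem ((FSch.schSharp 𝔜 h y hy).hom.app (op V.1)).hom hV
    rw [Ideal.map_map] at hm
    refine Ideal.map_le_iff_le_comap.2 (fun a ha => Ideal.mem_comap.2 ?_) hm
    refine map_img_le_aSh h y hy 𝔞 _ ?_
    exact (key a).symm ▸ Ideal.mem_map_of_mem (img h y hy (y 0 ⁻¹ᵁ V.1)) ha
  · rintro V _ ⟨a, ha, rfl⟩
    have h0 : (Scheme.ΓSpecIso (CommRingCat.of A)).inv a ∈ (FBlow.IdealSh.ofData (FSch.idealSpec A 𝔞)).sect ⊤ :=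
      fun x _ => ⟨⟨⊤, isAffineOpen_top _⟩, le_rfl, trivial,
        (FBlow.IdealSh.map_id_apply (O := Y.sheaf) le_rfl ((Scheme.ΓSpecIso (CommRingCat.of A)).inv a)).symm ▸
          (S3873.idealSpec_top A 𝔞).symm ▸ Ideal.mem_map_of_mem _ ha⟩
    have h1 := FBlow.IdealSh.image_mem_map (p 0).base (FSch.schSharp 𝔛 hX p hp) _ h0 (le_refl (p 0 ⁻¹ᵁ ⊤))
    have h2 := FBlow.IdealSh.image_mem_map ((g : FSch.Hom 𝔜 𝔛).app 0).base (FSch.Hom.sharp g h hX) _ h1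
      (show V ≤ (g : FSch.Hom 𝔜 𝔛).app 0 ⁻¹ᵁ (p 0 ⁻¹ᵁ ⊤) from fun _ _ => trivial)
    rw [FBlow.IdealSh.map_id_apply] at h2
    have e := sharp_schSharp hX h g p hp y hy (fun n => rfl) ⊤ ((Scheme.ΓSpecIso (CommRingCat.of A)).inv a)
    refine Eq.mp (congrArg (· ∈ _) ?_) h2
    refine Eq.trans ?_ (congrArg ((𝔜.Osh h).obj.map
      (homOfLE (show V ≤ (Opens.map (y 0).base).obj ⊤ from fun _ _ => trivial)).op) e)
    exact (FBlow.IdealSh.map_comp_apply _ _ _).symm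

end Compare

end Groth.Agent.FBlowLib
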