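import Groth.Agent.FComplTF.GoodAff
import Groth.Agent.FBlowLib.ImgIdeal
import Groth.Agent.BlowExistsLib.Proper
import Groth.Agent.AdicRingLib.PolyAR
import Groth.Agent.S3875

/-!
# The completion of a blow-up is an admissible formal blow-up
-/

set_option autoImplicit false
set_option linter.style.haveILetI false
set_option backward.isDefEq.respectTransparency false
set_option backward.isDefEq.respectTransparency.types false
set_option maxHeartbeats 1000000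
universe u

open CategoryTheory CategoryTheory.Limits AlgebraicGeometry TopologicalSpace Opposite

noncomputable section

namespace Groth.Agent.FBlowLib

open Groth.Agent.FCompl Groth.Agent.BlowChartLib

theorem resLE_isoSpec {X Y : Scheme.{u}} (f : X ⟶ Y) {W : X.Opens} {V : Y.Opens} (hW : IsAffineOpen W)
    (hV : IsAffineOpen V) (e : W ≤ f ⁻¹ᵁ V) :
    f.resLE V W e ≫ hV.isoSpec.hom = hW.isoSpec.hom ≫ Spec.map (f.appLE V W e) := by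
  rw [← cancel_mono hV.fromSpec, Category.assoc, Category.assoc, IsAffineOpen.SpecMap_appLE_fromSpec f hV hW,
    IsAffineOpen.isoSpec_hom_fromSpec, Scheme.Hom.resLE_comp_ι, ← Category.assoc, IsAffineOpen.isoSpec_hom_fromSpec]

section Spec

variable {A : Type u} [CommRing A] {𝔜 : FSch.Sys.{u}} (h : 𝔜.IsFormal)

/-- A level over an affine open maps to the spectrum of the sections. -/
def lvSpec {V : (𝔜.X 0).Opens} (hV : IsAffineOpen V) (n : ℕ) :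
    ((𝔜.lvU h n V : (𝔜.X n).Opens) : Scheme.{u}) ⟶ Spec (CommRingCat.of (OR 𝔜 h V)) :=
  (affine_lvU (h := h) hV n).isoSpec.hom ≫ Spec.map (CommRingCat.ofHom (pr 𝔜 h V n))

/-- The transition on the levels over an open. -/
def lvι (V : (𝔜.X 0).Opens) (n : ℕ) :
    ((𝔜.lvU h n V : (𝔜.X n).Opens) : Scheme.{u}) ⟶ ((𝔜.lvU h (n + 1) V : (𝔜.X (n + 1)).Opens) : Scheme.{u}) :=
  (𝔜.ι n).resLE _ _ (𝔜.lvU_le h n V)

lemma lvι_lvSpec {V : (𝔜.X 0).Opens} (hV : IsAffineOpen V) (n : ℕ) :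
    lvι h V n ≫ lvSpec h hV (n + 1) = lvSpec h hV n := by
  have h1 := resLE_isoSpec (𝔜.ι n) (affine_lvU (h := h) hV n) (affine_lvU (h := h) hV (n + 1))
    (𝔜.lvU_le h n V)
  rw [lvι, lvSpec, lvSpec, ← Category.assoc, h1, Category.assoc, ← Spec.map_comp]
  congr 2
  ext x
  exact tr_pr 𝔜 h V n x

lemma lvSpec_SpecMap {V : (𝔜.X 0).Opens} (hV : IsAffineOpen V) (n : ℕ) {Z : Scheme.{u}} {W : Z.Opens}
    (hW : IsAffineOpen W) (k : 𝔜.X n ⟶ Z) (e : 𝔜.lvU h n V ≤ k ⁻¹ᵁ W) (φ : Γ(Z, W) →+* OR 𝔜 h V)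
    (hφ : ∀ a, pr 𝔜 h V n (φ a) = k.appLE W (𝔜.lvU h n V) e a) :
    lvSpec h hV n ≫ Spec.map (CommRingCat.ofHom φ) ≫ hW.fromSpec = (𝔜.lvU h n V).ι ≫ k := by
  have h2 : CommRingCat.ofHom φ ≫ CommRingCat.ofHom (pr 𝔜 h V n) = k.appLE W (𝔜.lvU h n V) e := by
    ext a
    exact hφ a
  rw [lvSpec, Category.assoc, ← Category.assoc (Spec.map _) (Spec.map _), ← Spec.map_comp, h2,
    IsAffineOpen.SpecMap_appLE_fromSpec k hW (affine_lvU (h := h) hV n), ← Category.assoc,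
    IsAffineOpen.isoSpec_hom_fromSpec]

lemma lvSpec_img {y : ∀ n, 𝔜.X n ⟶ Spec (CommRingCat.of A)} (hy : ∀ n, 𝔜.ι n ≫ y (n + 1) = y n)
    {V : (𝔜.X 0).Opens} (hV : IsAffineOpen V) (n : ℕ) :
    lvSpec h hV n ≫ Spec.map (CommRingCat.ofHom (img h y hy V)) = (𝔜.lvU h n V).ι ≫ y n := by
  have h2 : CommRingCat.ofHom (img h y hy V) ≫ CommRingCat.ofHom (pr 𝔜 h V n) =
      CommRingCat.ofHom (secHom (y n) (𝔜.lvU h n V)) := by
    ext a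
    exact pr_img h y hy V a n
  rw [lvSpec, Category.assoc, ← Spec.map_comp, h2, fromSpec_secHom (y n) ⟨_, affine_lvU (h := h) hV n⟩,
    ← Category.assoc, IsAffineOpen.isoSpec_hom_fromSpec]

variable {P : Scheme.{u}} (k : ∀ n, 𝔜.X n ⟶ P) (hk : ∀ n, 𝔜.ι n ≫ k (n + 1) = k n)
  (q : P ⟶ Spec (CommRingCat.of A)) {y : ∀ n, 𝔜.X n ⟶ Spec (CommRingCat.of A)}
  (hy : ∀ n, 𝔜.ι n ≫ y (n + 1) = y n) (hky : ∀ n, k n ≫ q = y n)

include hk hky in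
/-- A compatible family factors through the spectrum of the sections near a point. -/
theorem exists_factor {W : P.Opens} (hW : IsAffineOpen W) {V : (𝔜.X 0).Opens} (hV : IsAffineOpen V)
    (hVW : V ≤ k 0 ⁻¹ᵁ W) :
    ∃ f : Spec (CommRingCat.of (OR 𝔜 h V)) ⟶ P, f ≫ q = Spec.map (CommRingCat.ofHom (img h y hy V)) ∧
      ∀ n, lvSpec h hV n ≫ f = (𝔜.lvU h n V).ι ≫ k n := by
  have e : ∀ n, 𝔜.lvU h n V ≤ k n ⁻¹ᵁ W := fun n =>
    (FCompl.lvU_mono 𝔜 h hVW n).trans (FSch.lvU_p 𝔜 h k hk n W).ge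
  let ψ : Γ(P, W) →+* OR 𝔜 h V :=
    (((FSch.schSharp 𝔜 h k hk).hom.app (op W)) ≫ (𝔜.Osh h).obj.map (homOfLE hVW).op).hom
  have hψ : ∀ n a, pr 𝔜 h V n (ψ a) = (k n).appLE W _ (e n) a := fun n a => by
    refine (pr_rsO 𝔜 h hVW n _).trans ((congrArg _ (pr_schSharp h k hk W a n)).trans ?_)
    exact ConcreteCategory.congr_hom (Scheme.Hom.appLE_map _ _ _) a
  refine ⟨Spec.map (CommRingCat.ofHom ψ) ≫ hW.fromSpec, ?_, fun n => lvSpec_SpecMap h hV n hW (k n) (e n) ψ (hψ n)⟩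
  rw [Category.assoc, ← fromSpec_secHom q ⟨W, hW⟩, ← Spec.map_comp]
  congr 1
  ext a
  refine osh_ext fun n => ?_
  show pr 𝔜 h V n (ψ (secHom q W a)) = pr 𝔜 h V n (img h y hy V a)
  rw [hψ, pr_img, ← hky n]
  exact ConcreteCategory.congr_hom (Scheme.Hom.appLE_comp_appLE (k n) q ⊤ W (𝔜.lvU h n V) le_top (e n)) _

end Spec

section Lift

variable {A : Type u} [CommRing A] {𝔞 : Ideal A} {P : Scheme.{u}} {q : P ⟶ Spec (CommRingCat.of A)}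
  (hq : BlowUp.IsBlowUp q (FSch.idealSpec A 𝔞))
  {𝔜 : FSch.Sys.{u}} {h : 𝔜.IsFormal} {y : ∀ n, 𝔜.X n ⟶ Spec (CommRingCat.of A)}
  {hy : ∀ n, 𝔜.ι n ≫ y (n + 1) = y n}

include hq

theorem existsUnique_spec {V : (𝔜.X 0).Opens} {c : OR 𝔜 h V} (hc : c ∈ nonZeroDivisors (OR 𝔜 h V))
    (hcV : 𝔞.map (img h y hy V) = Ideal.span {c}) :
    ∃! f : Spec (CommRingCat.of (OR 𝔜 h V)) ⟶ P, f ≫ q = Spec.map (CommRingCat.ofHom (img h y hy V)) := by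
  refine hq.2 _ _ fun x => ⟨⟨⊤, isAffineOpen_top _⟩, trivial,
    (Scheme.ΓSpecIso (CommRingCat.of (OR 𝔜 h V))).inv c, ?_, ?_⟩
  · let e : OR 𝔜 h V ≃+* Γ(Spec (CommRingCat.of (OR 𝔜 h V)), ⊤) :=
      (Scheme.ΓSpecIso (CommRingCat.of (OR 𝔜 h V))).symm.commRingCatIsoToRingEquiv
    show e c ∈ _
    exact MulEquivClass.map_nonZeroDivisors e ▸ ⟨_, hc, rfl⟩
  · rw [S3873.result (OR 𝔜 h V) A (img h y hy V) 𝔞, S3873.idealSpec_top, hcV, Ideal.map_span, Set.image_singleton]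

theorem factor_eq {U V : (𝔜.X 0).Opens} (i : V ≤ U) {c : OR 𝔜 h V} (hc : c ∈ nonZeroDivisors (OR 𝔜 h V))
    (hcV : 𝔞.map (img h y hy V) = Ideal.span {c})
    {f : Spec (CommRingCat.of (OR 𝔜 h U)) ⟶ P} (hf : f ≫ q = Spec.map (CommRingCat.ofHom (img h y hy U)))
    {f' : Spec (CommRingCat.of (OR 𝔜 h V)) ⟶ P} (hf' : f' ≫ q = Spec.map (CommRingCat.ofHom (img h y hy V))) :
    Spec.map (CommRingCat.ofHom (rsO 𝔜 h i)) ≫ f = f' := by
  refine (existsUnique_spec hq hc hcV).unique ?_ hf'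
  rw [Category.assoc, hf, ← Spec.map_comp]
  congr 1
  ext a
  exact rsO_img h y hy i a

omit hq in
lemma lvSpec_res {U V : (𝔜.X 0).Opens} (i : V ≤ U) (hU : IsAffineOpen U) (hV : IsAffineOpen V) (n : ℕ) :
    (𝔜.X n).homOfLE (FCompl.lvU_mono 𝔜 h i n) ≫ lvSpec h hU n =
      lvSpec h hV n ≫ Spec.map (CommRingCat.ofHom (rsO 𝔜 h i)) := by
  have h1 := resLE_isoSpec (𝟙 (𝔜.X n)) (affine_lvU (h := h) hV n) (affine_lvU (h := h) hU n)
    (show 𝔜.lvU h n V ≤ (𝟙 (𝔜.X n)) ⁻¹ᵁ 𝔜.lvU h n U from FCompl.lvU_mono 𝔜 h i n)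
  rw [Scheme.Hom.resLE_id] at h1
  rw [lvSpec, lvSpec, Category.assoc, ← Category.assoc ((𝔜.X n).homOfLE _), h1, Category.assoc, ← Spec.map_comp,
    ← Spec.map_comp]
  congr 2
  ext x
  refine Eq.trans ?_ (pr_rsO 𝔜 h i n x).symm
  exact congrArg (fun t => t.hom (pr 𝔜 h U n x))
    (show (𝟙 (𝔜.X n) : _ ⟶ _).appLE _ _ (show 𝔜.lvU h n V ≤ (𝟙 (𝔜.X n)) ⁻¹ᵁ 𝔜.lvU h n U from FCompl.lvU_mono 𝔜 h i n) =
      (𝔜.X n).presheaf.map (homOfLE (FCompl.lvU_mono 𝔜 h i n)).op by simp [Scheme.Hom.appLE])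

theorem existsUnique_family (hinv : (aSh h y hy 𝔞).IsInvertible) :
    ∃! k : ∀ n, 𝔜.X n ⟶ P, (∀ n, 𝔜.ι n ≫ k (n + 1) = k n) ∧ ∀ n, k n ≫ q = y n := by
  choose V hV hxV _ c hc hcV using fun x : 𝔜.X 0 =>
    exists_affine_gen h y hy hinv (W₀ := ⊤) (x := x) trivial
  choose f hf using fun x => (existsUnique_spec hq (hc x) (hcV x)).exists
  have hcov : ∀ n, IsOpenCover fun x => 𝔜.lvU h n (V x) := fun n =>
    IsOpenCover.mk (top_le_iff.1 fun z _ => Opens.mem_iSup.2 ⟨𝔜.gInv h n z, hxV _⟩)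
  let 𝒰 : ∀ n, (𝔜.X n).OpenCover := fun n => (𝔜.X n).openCoverOfIsOpenCover _ (hcov n)
  have hov : ∀ n a b, pullback.fst ((𝔜.lvU h n (V a)).ι) ((𝔜.lvU h n (V b)).ι) ≫ lvSpec h (hV a) n ≫ f a =
      pullback.snd ((𝔜.lvU h n (V a)).ι) ((𝔜.lvU h n (V b)).ι) ≫ lvSpec h (hV b) n ≫ f b := by
    intro n a b
    choose W hW hzW hWle d hd hdW using fun z : (V a ⊓ V b : (𝔜.X 0).Opens) =>
      exists_affine_gen h y hy hinv (W₀ := V a ⊓ V b) (x := z.1) z.2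
    let T := pullback ((𝔜.lvU h n (V a)).ι) ((𝔜.lvU h n (V b)).ι)
    let r : T ⟶ 𝔜.X n := pullback.fst _ _ ≫ (𝔜.lvU h n (V a)).ι
    refine Scheme.Cover.hom_ext (T.openCoverOfIsOpenCover (fun z => r ⁻¹ᵁ 𝔜.lvU h n (W z))
      (IsOpenCover.mk (top_le_iff.1 fun t _ => ?_))) _ _ fun z => ?_
    · have ha : r t ∈ 𝔜.lvU h n (V a) := (pullback.fst ((𝔜.lvU h n (V a)).ι) ((𝔜.lvU h n (V b)).ι) t).2
      have hb : r t ∈ 𝔜.lvU h n (V b) := by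
        rw [show r = pullback.snd _ _ ≫ (𝔜.lvU h n (V b)).ι from pullback.condition]
        exact (pullback.snd ((𝔜.lvU h n (V a)).ι) ((𝔜.lvU h n (V b)).ι) t).2
      exact Opens.mem_iSup.2 ⟨⟨𝔜.gInv h n (r t), ha, hb⟩, hzW _⟩
    · show (r ⁻¹ᵁ 𝔜.lvU h n (W z)).ι ≫ _ = (r ⁻¹ᵁ 𝔜.lvU h n (W z)).ι ≫ _
      obtain ⟨φ, hφ, -⟩ := existsUnique_spec hq (hd z) (hdW z)
      have e1 : (r ⁻¹ᵁ 𝔜.lvU h n (W z)).ι ≫ pullback.fst _ _ =
          (r.resLE (𝔜.lvU h n (W z)) _ le_rfl) ≫ (𝔜.X n).homOfLE (FCompl.lvU_mono 𝔜 h ((hWle z).trans inf_le_left) n) := by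
        rw [← cancel_mono (𝔜.lvU h n (V a)).ι, Category.assoc, Category.assoc, Scheme.homOfLE_ι, Scheme.Hom.resLE_comp_ι]
      have e2 : (r ⁻¹ᵁ 𝔜.lvU h n (W z)).ι ≫ pullback.snd _ _ =
          (r.resLE (𝔜.lvU h n (W z)) _ le_rfl) ≫ (𝔜.X n).homOfLE (FCompl.lvU_mono 𝔜 h ((hWle z).trans inf_le_right) n) := by
        rw [← cancel_mono (𝔜.lvU h n (V b)).ι, Category.assoc, Category.assoc, Scheme.homOfLE_ι, Scheme.Hom.resLE_comp_ι,
          ← pullback.condition]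
      rw [reassoc_of% e1, reassoc_of% e2]
      rw [← Category.assoc ((𝔜.X n).homOfLE _), lvSpec_res _ (hV a) (hW z), Category.assoc,
        factor_eq hq _ (hd z) (hdW z) (hf a) hφ,
        ← Category.assoc ((𝔜.X n).homOfLE _), lvSpec_res _ (hV b) (hW z), Category.assoc,
        factor_eq hq _ (hd z) (hdW z) (hf b) hφ]
      · exact (hWle z).trans inf_le_right
      · exact (hWle z).trans inf_le_left
  let k : ∀ n, 𝔜.X n ⟶ P := fun n => (𝒰 n).glueMorphisms (fun x => lvSpec h (hV x) n ≫ f x) (hov n)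
  have hkι : ∀ n x, (𝔜.lvU h n (V x)).ι ≫ k n = lvSpec h (hV x) n ≫ f x := fun n x =>
    (𝒰 n).ι_glueMorphisms (fun x => lvSpec h (hV x) n ≫ f x) (hov n) x
  refine ⟨k, ⟨fun n => Scheme.Cover.hom_ext (𝒰 n) _ _ fun x => ?_, fun n => Scheme.Cover.hom_ext (𝒰 n) _ _ fun x => ?_⟩, ?_⟩
  · show (𝔜.lvU h n (V x)).ι ≫ _ = (𝔜.lvU h n (V x)).ι ≫ k n
    rw [← Category.assoc, ← Scheme.Hom.resLE_comp_ι (𝔜.ι n) (𝔜.lvU_le h n (V x)), Category.assoc, hkι, hkι,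
      ← Category.assoc]
    exact congrArg (· ≫ f x) (lvι_lvSpec h (hV x) n)
  · show (𝔜.lvU h n (V x)).ι ≫ k n ≫ q = (𝔜.lvU h n (V x)).ι ≫ y n
    rw [← Category.assoc, hkι, Category.assoc, hf, lvSpec_img h hy (hV x)]
  · rintro k' ⟨hk', hk'y⟩
    funext n
    choose W hW hxW _ using fun x : 𝔜.X 0 =>
      exists_isAffineOpen_mem_and_subset (U := (⊤ : P.Opens)) (x := k' 0 x) trivial
    choose V' hV' hxV' hle' c' hc' hcV' using fun x : 𝔜.X 0 =>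
      exists_affine_gen h y hy hinv (W₀ := k' 0 ⁻¹ᵁ W x ⊓ V x) (x := x) ⟨hxW x, hxV x⟩
    refine Scheme.Cover.hom_ext ((𝔜.X n).openCoverOfIsOpenCover (fun x => 𝔜.lvU h n (V' x))
      (IsOpenCover.mk (top_le_iff.1 fun z _ => Opens.mem_iSup.2 ⟨𝔜.gInv h n z, hxV' _⟩))) _ _ fun x => ?_
    show (𝔜.lvU h n (V' x)).ι ≫ k' n = (𝔜.lvU h n (V' x)).ι ≫ k n
    obtain ⟨f', hf'q, hf'k⟩ := exists_factor h k' hk' q hy hk'y (hW x) (hV' x) ((hle' x).trans inf_le_left)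
    rw [← hf'k n, ← Scheme.homOfLE_ι (𝔜.X n) (FCompl.lvU_mono 𝔜 h ((hle' x).trans inf_le_right) n), Category.assoc,
      hkι, ← Category.assoc, lvSpec_res ((hle' x).trans inf_le_right) (hV x) (hV' x), Category.assoc,
      factor_eq hq ((hle' x).trans inf_le_right) (hc' x) (hcV' x) (hf x) hf'q]

end Lift

end Groth.Agent.FBlowLib
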