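import Groth.Agent.FBlowLib.ComplBlow

/-!
# The completion of a blow-up in an open ideal is an admissible formal blow-up
-/

set_option autoImplicit false
set_option linter.style.haveILetI false
set_option backward.isDefEq.respectTransparency false
set_option backward.isDefEq.respectTransparency.types false
set_option maxHeartbeats 1000000
universe u

open CategoryTheory CategoryTheory.Limits AlgebraicGeometry TopologicalSpace Opposite

noncomputable section

namespace Groth.Agent.FBlowLib

open Groth.Agent.FCompl Groth.Agent.BlowChartLib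

variable {A : Type u} [CommRing A] {P : Scheme.{u}} (q : P ⟶ Spec (CommRingCat.of A))

lemma ideal_comap_idealSpec (𝔞 : Ideal A) (V : P.affineOpens) :
    ((FSch.idealSpec A 𝔞).comap q).ideal V = 𝔞.map (secHom q V.1) := by
  rw [IdealStalkLib.comap_ideal (FSch.idealSpec A 𝔞) q (isAffineOpen_top _) V.2 (le_top (a := V.1)),
    S3873.idealSpec_top, secHom, CommRingCat.hom_comp, ← Ideal.map_map]

variable (K : Ideal A) (hpc : FSch.PowCompat q ((FSch.idealSpec A K).comap q) (FSch.idealSpec A K))

lemma completion_y (n : ℕ) :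
    (FSch.completionMap q ((FSch.idealSpec A K).comap q) (FSch.idealSpec A K) hpc : FSch.Hom _ _).app n ≫
        FSch.completionToX (Spec (CommRingCat.of A)) (FSch.idealSpec A K) n =
      FSch.completionToX P ((FSch.idealSpec A K).comap q) n ≫ q :=
  Scheme.IdealSheafData.subschemeMap_subschemeι _ _ q (Scheme.IdealSheafData.le_map_iff_comap_le.mpr (hpc n))

lemma comm_toX (n : ℕ) :
    (FSch.completionAlong P ((FSch.idealSpec A K).comap q)).ι n ≫
      (FSch.completionToX P ((FSch.idealSpec A K).comap q) (n + 1) ≫ q) =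
      FSch.completionToX P ((FSch.idealSpec A K).comap q) n ≫ q := by
  rw [← Category.assoc, FSch.completionToX_comm]

theorem isAdicHom_completionMap :
    FSch.IsAdicHom (FSch.completionMap q ((FSch.idealSpec A K).comap q) (FSch.idealSpec A K) hpc) := by
  intro n
  have s₀ := S3875.h9_completion_square q (FSch.idealSpec A K) hpc n
  have s₁ := S3875.h9_completion_square q (FSch.idealSpec A K) hpc (n + 1)
  refine IsPullback.of_right ?_ ((FSch.completionMap q ((FSch.idealSpec A K).comap q) (FSch.idealSpec A K) hpc :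
    FSch.Hom _ _).comm n).symm s₁
  rw [show (FSch.completionAlong P ((FSch.idealSpec A K).comap q)).ι n ≫
      ((FSch.idealSpec A K).comap q ^ (n + 1 + 1)).subschemeι = ((FSch.idealSpec A K).comap q ^ (n + 1)).subschemeι from
    FSch.completionToX_comm P ((FSch.idealSpec A K).comap q) n,
    show (FSch.completionAlong (Spec (CommRingCat.of A)) (FSch.idealSpec A K)).ι n ≫
      ((FSch.idealSpec A K) ^ (n + 1 + 1)).subschemeι = ((FSch.idealSpec A K) ^ (n + 1)).subschemeι from
    FSch.completionToX_comm _ (FSch.idealSpec A K) n]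
  exact s₀

section Invertible

variable (hP : (FSch.completionAlong P ((FSch.idealSpec A K).comap q)).IsFormal)

lemma img_eq_sh (U : P.Opens) (a : A) :
    img hP (fun n => FSch.completionToX P ((FSch.idealSpec A K).comap q) n ≫ q) (comm_toX q K)
        (FSch.completionToX P ((FSch.idealSpec A K).comap q) 0 ⁻¹ᵁ U) a =
      FComplTF.sh hP (secHom q U a) := by
  refine osh_ext fun n => ?_
  rw [pr_img, FComplTF.pr_sh]
  exact (ConcreteCategory.congr_hom (Scheme.Hom.appLE_comp_appLE
    (FSch.completionToX P ((FSch.idealSpec A K).comap q) n) q ⊤ U _ le_top (FComplTF.lv_eq hP U n).ge) _).symm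

variable {R : Type u} [CommRing R] {I : Ideal R} [Algebra R A] (hR : AdicRing.IsBase R I)
  (hA : AdicRing.TopFiniteType R I A) (hK : K = I.map (algebraMap R A)) [LocallyOfFiniteType q]

include hR hA hK

theorem sh_regular {V : P.Opens} (hV : IsAffineOpen V) {f : Γ(P, V)} (hf : f ∈ nonZeroDivisors Γ(P, V))
    (t : OR (FSch.completionAlong P ((FSch.idealSpec A K).comap q)) hP
      (FSch.completionToX P ((FSch.idealSpec A K).comap q) 0 ⁻¹ᵁ V))
    (ht : t * FComplTF.sh hP f = 0) : t = 0 := by
  let S := Γ(P, V)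
  let J := ((FSch.idealSpec A K).comap q).ideal ⟨V, hV⟩
  let φ : A →+* S := secHom q V
  letI : Algebra A S := φ.toAlgebra
  letI : Algebra R S := (φ.comp (algebraMap R A)).toAlgebra
  haveI : IsScalarTower R A S := IsScalarTower.of_algebraMap_eq fun _ => rfl
  haveI : Algebra.FiniteType A S := by
    rw [← RingHom.finiteType_algebraMap]
    show ((q.appLE ⊤ V le_top).hom.comp (Scheme.ΓSpecIso (CommRingCat.of A)).inv.hom).FiniteType
    exact (q.finiteType_appLE (isAffineOpen_top _) hV le_top).comp (RingHom.FiniteType.of_surjective _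
      (ConcreteCategory.bijective_of_isIso (Scheme.ΓSpecIso (CommRingCat.of A)).inv).2)
  have hJ : J = I.map (algebraMap R S) := by
    refine (ideal_comap_idealSpec q K ⟨V, hV⟩).trans ?_
    rw [hK, Ideal.map_map]
    rfl
  haveI : Module.Flat S (AdicCompletion J S) := by
    rw [hJ]
    exact (AdicRingLib.hasAR_finiteType hR A hA S).flat
  let O := OR (FSch.completionAlong P ((FSch.idealSpec A K).comap q)) hP
    (FSch.completionToX P ((FSch.idealSpec A K).comap q) 0 ⁻¹ᵁ V)
  letI : Algebra S O := (FComplTF.shHom hP V).toAlgebra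
  obtain ⟨-, -, ⟨E⟩⟩ := FComplTF.exists_equiv_completion (S := S) (O := O) (J := J)
    (pr _ hP _) (tr _ hP _) (by rw [hJ]; exact (AdicRingLib.isBase_fg hR).map _) (tr_pr _ hP _)
    (fun x y => osh_ext) osh_lift
    (fun n => by
      show Function.Surjective ((pr _ hP _ n).comp (FComplTF.shHom hP V))
      rw [FComplTF.pr_comp_shHom]; exact FComplTF.pl_surjective hP hV n)
    (fun n => by
      show RingHom.ker ((pr _ hP _ n).comp (FComplTF.shHom hP V)) = _
      rw [FComplTF.pr_comp_shHom]; exact FComplTF.ker_pl hP hV n)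
  have h1 : f • t = 0 := by
    rw [Algebra.smul_def, mul_comm]
    exact ht
  apply E.symm.injective
  rw [map_zero]
  refine (Module.Flat.isSMulRegular_of_nonZeroDivisors hf).right_eq_zero_of_smul ?_
  rw [← map_smul, h1, map_zero]

theorem isInvertible_completion {𝔞 : Ideal A} (hq : BlowUp.IsEffCartierIdeal ((FSch.idealSpec A 𝔞).comap q)) :
    (aSh hP (fun n => FSch.completionToX P ((FSch.idealSpec A K).comap q) n ≫ q) (comm_toX q K) 𝔞).IsInvertible := by
  let 𝔓 := FSch.completionAlong P ((FSch.idealSpec A K).comap q)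
  let p₀ := FSch.completionToX P ((FSch.idealSpec A K).comap q) 0
  refine isInvertible_aSh hP _ _ 𝔞 fun x => ?_
  obtain ⟨U, hxU, f, hf, hfU⟩ := hq (p₀ x)
  refine ⟨p₀ ⁻¹ᵁ U.1, hxU, FComplTF.sh hP f, ?_, fun V i z hz => ?_⟩
  · have e : img hP (fun n => FSch.completionToX P ((FSch.idealSpec A K).comap q) n ≫ q) (comm_toX q K)
        (p₀ ⁻¹ᵁ U.1) = (FComplTF.shHom hP U.1).comp (secHom q U.1) := RingHom.ext fun a => img_eq_sh q K hP U.1 a
    rw [e, ← Ideal.map_map, ← ideal_comap_idealSpec, hfU, Ideal.map_span, Set.image_singleton]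
    rfl
  · haveI : IsClosedImmersion p₀ :=
      inferInstanceAs (IsClosedImmersion (((FSch.idealSpec A K).comap q) ^ (0 + 1)).subschemeι)
    obtain ⟨G, hG, hGV⟩ := p₀.isClosedEmbedding.isInducing.isOpen_iff.1 V.isOpen
    have hzG : p₀ z ∈ G := by
      have : z ∈ p₀ ⁻¹' G := hGV ▸ hz
      exact this
    obtain ⟨g, hg, hzg⟩ := U.2.exists_basicOpen_le (V := ⟨G, hG⟩ ⊓ U.1) ⟨p₀ z, hzG, i hz⟩ (i hz)
    have hgV : p₀ ⁻¹ᵁ P.basicOpen g ≤ V := fun w hw => by
      have h1 : w ∈ p₀ ⁻¹' G := (hg hw).1
      rw [hGV] at h1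
      exact h1
    refine ⟨p₀ ⁻¹ᵁ P.basicOpen g, hgV, hzg, fun t ht => ?_⟩
    refine sh_regular q K hP hR hA hK (U.2.basicOpen g)
      (f := P.presheaf.map (homOfLE (P.basicOpen_le g)).op f) ?_ t ?_
    · letI : Algebra Γ(P, U.1) Γ(P, P.basicOpen g) := (P.presheaf.map (homOfLE (P.basicOpen_le g)).op).hom.toAlgebra
      haveI : IsLocalization.Away g Γ(P, P.basicOpen g) :=
        U.2.isLocalization_of_eq_basicOpen g (homOfLE (P.basicOpen_le g)) rfl
      haveI : Module.Flat Γ(P, U.1) Γ(P, P.basicOpen g) := IsLocalization.flat _ (Submonoid.powers g)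
      refine mem_nonZeroDivisors_iff_right.2 fun s hs => ?_
      refine (Module.Flat.isSMulRegular_of_nonZeroDivisors hf).right_eq_zero_of_smul ?_
      rw [Algebra.smul_def, mul_comm]
      exact hs
    · refine Eq.trans (congrArg (t * ·) ?_) ht
      refine osh_ext fun n => ?_
      rw [FComplTF.pr_sh, pr_rsO, FComplTF.pr_sh]
      exact (ConcreteCategory.congr_hom (Scheme.Hom.map_appLE _ _ _) f).trans
        (ConcreteCategory.congr_hom (Scheme.Hom.appLE_map _ _ _) f).symm

end Invertible

theorem isAdmBlowUp_completion {R : Type u} [CommRing R] {I : Ideal R} [Algebra R A] (hR : AdicRing.IsBase R I)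
    (hA : AdicRing.TopFiniteType R I A) {𝔞 : Ideal A} (h𝔞 : 𝔞.FG)
    (hq : BlowUp.IsBlowUp q (FSch.idealSpec A 𝔞)) (hK : K = I.map (algebraMap R A))
    (hX : (FSch.completionAlong (Spec (CommRingCat.of A)) (FSch.idealSpec A K)).IsFormal)
    (hP : (FSch.completionAlong P ((FSch.idealSpec A K).comap q)).IsFormal) :
    FBlow.IsAdmBlowUp (FSch.completionMap q ((FSch.idealSpec A K).comap q) (FSch.idealSpec A K) hpc) hP hX
      (FBlow.schIdealMap (FSch.completionAlong (Spec (CommRingCat.of A)) (FSch.idealSpec A K)) hX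
        (FSch.completionToX (Spec (CommRingCat.of A)) (FSch.idealSpec A K))
        (FSch.completionToX_comm (Spec (CommRingCat.of A)) (FSch.idealSpec A K))
        (FBlow.IdealSh.ofData (FSch.idealSpec A 𝔞))) := by
  haveI : LocallyOfFiniteType q := BlowExistsLib.locallyOfFiniteType_of_FG hq fun U => by
    rw [ideal_idealSpec_le]; exact h𝔞.map _
  refine ⟨isAdicHom_completionMap q K hpc, ?_, fun 𝔜 h𝔜 g hg hinv => ?_⟩
  · rw [idealMap_schIdealMap_eq]
    have hc := completion_y q K hpc
    convert isInvertible_completion q K hP hR hA hK hq.1 using 3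
    exact hc _
  · rw [idealMap_schIdealMap_eq] at hinv
    obtain ⟨k, ⟨hk, hky⟩, huniq⟩ := existsUnique_family hq hinv
    have sq := fun n => S3875.h9_completion_square q (FSch.idealSpec A K) hpc n
    let k' : ∀ n, 𝔜.X n ⟶ (FSch.completionAlong P ((FSch.idealSpec A K).comap q)).X n := fun n =>
      (sq n).lift (k n) ((g : FSch.Hom 𝔜 _).app n) (hky n)
    have h1 : ∀ n, k' n ≫ FSch.completionToX P ((FSch.idealSpec A K).comap q) n = k n := fun n =>
      (sq n).lift_fst _ _ _
    have h2 : ∀ n, k' n ≫ (FSch.completionMap q ((FSch.idealSpec A K).comap q) (FSch.idealSpec A K) hpc :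
        FSch.Hom _ _).app n = (g : FSch.Hom 𝔜 _).app n := fun n => (sq n).lift_snd _ _ _
    refine ⟨⟨k', fun n => ?_⟩, FSch.Hom.ext (funext h2), fun m hm => ?_⟩
    · refine (sq (n + 1)).hom_ext ?_ ?_
      · show (k' n ≫ (FSch.completionAlong P _).ι n) ≫ FSch.completionToX P _ (n + 1) =
          (𝔜.ι n ≫ k' (n + 1)) ≫ FSch.completionToX P _ (n + 1)
        rw [Category.assoc, Category.assoc, FSch.completionToX_comm, h1, h1, hk]
      · show (k' n ≫ (FSch.completionAlong P _).ι n) ≫ (FSch.completionMap q _ _ hpc : FSch.Hom _ _).app (n + 1) =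
          (𝔜.ι n ≫ k' (n + 1)) ≫ (FSch.completionMap q _ _ hpc : FSch.Hom _ _).app (n + 1)
        rw [Category.assoc, Category.assoc, h2, ← (FSch.completionMap q _ _ hpc : FSch.Hom _ _).comm n,
          ← Category.assoc, h2]
        exact (g : FSch.Hom 𝔜 _).comm n
    · have hmn : ∀ n, (m : FSch.Hom 𝔜 _).app n ≫
          (FSch.completionMap q ((FSch.idealSpec A K).comap q) (FSch.idealSpec A K) hpc : FSch.Hom _ _).app n =
            (g : FSch.Hom 𝔜 _).app n := fun n => congrArg (fun t => FSch.Hom.app t n) hm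
      have hfam := huniq (fun n => (m : FSch.Hom 𝔜 _).app n ≫ FSch.completionToX P ((FSch.idealSpec A K).comap q) n)
        ⟨fun n => by rw [← Category.assoc, ← (m : FSch.Hom 𝔜 _).comm n, Category.assoc, FSch.completionToX_comm],
          fun n => by
            rw [Category.assoc, ← completion_y q K hpc n, ← Category.assoc, hmn]⟩
      refine FSch.Hom.ext (funext fun n => (sq n).hom_ext ?_ ?_)
      · exact (congrFun hfam n).trans (h1 n).symm
      · exact (hmn n).trans (h2 n).symm

end Groth.Agent.FBlowLib
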