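import Groth.Agent.FBlowLib.BlowTF

/-!
# The completion of a torsion-free blow-up has no torsion
-/

set_option autoImplicit false
set_option linter.style.haveILetI false
set_option backward.isDefEq.respectTransparency false
set_option backward.isDefEq.respectTransparency.types false
set_option maxHeartbeats 1000000
universe u

open CategoryTheory CategoryTheory.Limits AlgebraicGeometry TopologicalSpace Opposite
open scoped TensorProduct

noncomputable section

namespace Groth.Agent.FBlowLib

open Groth.Agent.FCompl Groth.Agent.BlowChartLib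

theorem eq_zero_of_flat {S M : Type u} [CommRing S] [AddCommGroup M] [Module S M] [Module.Flat S M] (G : Finset S)
    (hG : ∀ s : S, (∀ g ∈ G, g * s = 0) → s = 0) {m : M} (hm : ∀ g ∈ G, g • m = 0) : m = 0 := by
  classical
  let f : S →ₗ[S] ({g // g ∈ G} → S) := LinearMap.pi fun g => LinearMap.mulLeft S g.1
  have hf : Function.Injective f := by
    rw [← LinearMap.ker_eq_bot, LinearMap.ker_eq_bot']
    intro s hs
    exact hG s fun g hg => congrFun hs ⟨g, hg⟩
  have h0 : f.lTensor M (m ⊗ₜ (1 : S)) = 0 := by
    have e : f 1 = ∑ g : {g // g ∈ G}, g.1 • Pi.single (M := fun _ => S) g 1 := by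
      refine funext fun i => ?_
      simp [f, Finset.sum_apply, Pi.single_apply]
    rw [LinearMap.lTensor_tmul, e, TensorProduct.tmul_sum]
    refine Finset.sum_eq_zero fun g _ => ?_
    rw [← TensorProduct.smul_tmul, hm g.1 g.2, TensorProduct.zero_tmul]
  have h1 : m ⊗ₜ[S] (1 : S) = 0 :=
    Module.Flat.lTensor_preserves_injective_linearMap (M := M) f hf (h0.trans (map_zero _).symm)
  rw [← one_smul S m, ← TensorProduct.rid_tmul, h1, map_zero]

variable {R : Type u} [CommRing R] {I : Ideal R} {A : Type u} [CommRing A] [Algebra R A] {P : Scheme.{u}}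
  (q : P ⟶ Spec (CommRingCat.of A)) [LocallyOfFiniteType q] (K : Ideal A)
  (hP : (FSch.completionAlong P ((FSch.idealSpec A K).comap q)).IsFormal)

theorem completion_noTor (hR : AdicRing.IsBase R I) (hA : AdicRing.TopFiniteType R I A) (hK : K = I.map (algebraMap R A))
    {V : P.Opens} (hV : IsAffineOpen V) (htf : NoTor I ((secHom q V).comp (algebraMap R A))) :
    NoTor I ((FComplTF.shHom hP V).comp ((secHom q V).comp (algebraMap R A))) := by
  classical
  intro t ht
  let S := Γ(P, V)
  let J := ((FSch.idealSpec A K).comap q).ideal ⟨V, hV⟩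
  let φ : A →+* S := secHom q V
  letI : Algebra A S := φ.toAlgebra
  letI : Algebra R S := (φ.comp (algebraMap R A)).toAlgebra
  haveI : IsScalarTower R A S := IsScalarTower.of_algebraMap_eq fun _ => rfl
  haveI : Algebra.FiniteType A S := by
    rw [← RingHom.finiteType_algebraMap]
    show ((q.appLE ⊤ V le_top).hom.comp (Scheme.ΓSpecIso (CommRingCat.of A)).inv.hom).FiniteType
    exact (q.finiteType_appLE (isAffineOpen_top _) hV le_top).comp (RingHom.FiniteType.of_surjective _
      (ConcreteCategory.bijective_of_isIso (Scheme.ΓSpecIso (CommRingCat.of A)).inv).2)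
  have hJ : J = I.map (algebraMap R S) := by
    refine (ideal_comap_idealSpec q K ⟨V, hV⟩).trans ?_
    rw [hK, Ideal.map_map]
    rfl
  haveI : Module.Flat S (AdicCompletion J S) := by
    rw [hJ]
    exact (AdicRingLib.hasAR_finiteType hR A hA S).flat
  let O := OR (FSch.completionAlong P ((FSch.idealSpec A K).comap q)) hP
    (FSch.completionToX P ((FSch.idealSpec A K).comap q) 0 ⁻¹ᵁ V)
  letI : Algebra S O := (FComplTF.shHom hP V).toAlgebra
  obtain ⟨-, -, ⟨E⟩⟩ := FComplTF.exists_equiv_completion (S := S) (O := O) (J := J)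
    (pr _ hP _) (tr _ hP _) (by rw [hJ]; exact (AdicRingLib.isBase_fg hR).map _) (tr_pr _ hP _)
    (fun x y => osh_ext) osh_lift
    (fun n => by
      show Function.Surjective ((pr _ hP _ n).comp (FComplTF.shHom hP V))
      rw [FComplTF.pr_comp_shHom]; exact FComplTF.pl_surjective hP hV n)
    (fun n => by
      show RingHom.ker ((pr _ hP _ n).comp (FComplTF.shHom hP V)) = _
      rw [FComplTF.pr_comp_shHom]; exact FComplTF.ker_pl hP hV n)
  obtain ⟨G, hG⟩ := AdicRingLib.isBase_fg hR
  apply E.symm.injective
  rw [map_zero]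
  refine eq_zero_of_flat (S := S) (G.image (φ.comp (algebraMap R A))) (fun s hs => htf s fun r hr => ?_) fun g hg => ?_
  · rw [← hG] at hr
    refine Submodule.span_induction (p := fun r _ => ((secHom q V).comp (algebraMap R A)) r * s = 0) ?_ ?_ ?_ ?_ hr
    · exact fun r hr => hs _ (Finset.mem_image_of_mem _ hr)
    · rw [map_zero, zero_mul]
    · intro a b _ _ ha hb; rw [map_add, add_mul, ha, hb, add_zero]
    · intro a b _ hb; rw [smul_eq_mul, map_mul, mul_assoc, hb, mul_zero]
  · obtain ⟨r, hr, rfl⟩ := Finset.mem_image.1 hg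
    rw [← map_smul, Algebra.smul_def]
    exact (congrArg E.symm (ht r (hG.le (Ideal.subset_span hr)))).trans (map_zero _)

end Groth.Agent.FBlowLib
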