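import Groth.Agent.FBlowLib.SysGlue
import Groth.Agent.FBlowLib.LocalModel
import Groth.Agent.FBlowLib.CohPull

/-!
# Existence of admissible blow-ups
-/

set_option autoImplicit false
set_option linter.style.haveILetI false
set_option backward.isDefEq.respectTransparency false
set_option backward.isDefEq.respectTransparency.types false
set_option maxHeartbeats 1000000
universe u

open CategoryTheory CategoryTheory.Limits AlgebraicGeometry TopologicalSpace Opposite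

noncomputable section

namespace Groth.Agent.FBlowLib

open Groth.Agent.FCompl

variable {R : Type u} [CommRing R] {I : Ideal R} {𝔛 : FSch.Sys.{u}} {h : 𝔛.IsFormal}
  (p : 𝔛 ⟶ FSch.spf R I) (hR : AdicRing.IsBase R I) (hp : FSch.IsAdicHom p)
  (hfp : ∀ n, LocallyOfFinitePresentation ((p : FSch.Hom 𝔛 (FSch.spf R I)).app n))
  (htf : ∀ (V : (𝔛.X 0).Opens) (s : (𝔛.Osh h).obj.obj (Opposite.op V)),
    (∀ a ∈ (FBlow.IdealSh.ker (𝔛.OshProj h 0)).sect V, a * s = 0) → s = 0)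
  {J : FBlow.IdealSh (𝔛.Osh h)}

/-- The affine opens on which the ideal comes from a level. -/
def GoodFor (J : FBlow.IdealSh (𝔛.Osh h)) (U : (𝔛.X 0).Opens) : Prop :=
  IsAffineOpen U ∧ ∃ (n : ℕ) (𝒜 : (𝔛.X n).IdealSheafData), FSch.IdealFT 𝒜 ∧
    ∀ V : (𝔛.X 0).Opens, V ≤ U → J.sect V = (FBlow.ofLevel 𝔛 h n 𝒜).sect V

theorem goodFor_basis (hJ : FBlow.IsCohOpen 𝔛 h J) (x : 𝔛.X 0) (V : (𝔛.X 0).Opens) (hx : x ∈ V) :
    ∃ U : Subtype (GoodFor J), x ∈ U.1 ∧ U.1 ≤ V := by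
  obtain ⟨U₀, hxU₀, n, 𝒜, hFT, hU₀⟩ := hJ x
  obtain ⟨U, hU, hxU, hle⟩ := FCompl.exists_affine_le (𝔛 := 𝔛) (U := U₀ ⊓ V) (x := x) ⟨hxU₀, hx⟩
  exact ⟨⟨U, hU, n, 𝒜, hFT, fun W hW => hU₀ W (hW.trans (hle.trans inf_le_left))⟩, hxU, hle.trans inf_le_right⟩

include hR hp hfp htf in
theorem exists_blowUp_good {U : (𝔛.X 0).Opens} (hG : GoodFor J U) :
    ∃ (B : FSch.Sys.{u}) (hB : B.IsFormal) (c : B ⟶ 𝔛.restrictOpen h U),
      FBlow.IsAdmBlowUp c hB (restrict_isFormal h U)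
        (FBlow.idealMap (𝔛.restrictOpenι h U) (restrict_isFormal h U) h J) := by
  obtain ⟨hU, n, 𝒜, hFT, hJU⟩ := hG
  letI := (ρB h p U).toAlgebra
  obtain ⟨⟨r, φ, hφ, -⟩, -⟩ := admissible p hR hp hU hfp htf
  obtain ⟨e, he⟩ := exists_iso_spf p hR hp hU
  have hS := isFormal_of_iso (restrict_isFormal h U) e
  obtain ⟨P, q, -, c, hc, -⟩ := exists_blowUp_spf hR ⟨r, φ, hφ⟩ (K := I.map (ρB h p U)) rfl
    (fg_lvIdeal (n := n) (𝒜 := 𝒜) p hR hp hU hFT) hS
  refine ⟨_, isFormal_completion _ _, c ≫ e.inv, isAdmBlowUp_comp_iso hc e.symm ?_⟩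
  have hJ' : FBlow.idealMap e.hom (restrict_isFormal h U) hS (FBlow.schIdealMap _ hS
      (FSch.spfToSpec (OR 𝔛 h U) (I.map (ρB h p U))) (FSch.spfToSpec_comm (OR 𝔛 h U) (I.map (ρB h p U)))
      (FBlow.IdealSh.ofData (FSch.idealSpec (OR 𝔛 h U) (lvIdeal hU n 𝒜)))) =
      FBlow.idealMap (𝔛.restrictOpenι h U) (restrict_isFormal h U) h J := by
    rw [idealMap_schIdealMap_eq, idealMap_restrictOpenι p hR hp hU hJU (restrict_isFormal h U)]
    exact aSh_congr _ (funext he) _ _ _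
  show FBlow.idealMap e.inv hS (restrict_isFormal h U) _ = _
  rw [← hJ', ← idealMap_comp hS (restrict_isFormal h U) hS, e.inv_hom_id, idealMap_id]

/-- Chosen blow-ups over the good opens. -/
structure LocalBlow (J : FBlow.IdealSh (𝔛.Osh h)) where
  B : Subtype (GoodFor J) → FSch.Sys.{u}
  hB : ∀ U, (B U).IsFormal
  c : ∀ U, B U ⟶ 𝔛.restrictOpen h U.1
  hc : ∀ U, FBlow.IsAdmBlowUp (c U) (hB U) (restrict_isFormal h U.1)
    (FBlow.idealMap (𝔛.restrictOpenι h U.1) (restrict_isFormal h U.1) h J)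

variable (L : LocalBlow J)

theorem LocalBlow.exists_k {U V : Subtype (GoodFor J)} (i : U.1 ≤ V.1) :
    ∃ k : L.B U ⟶ L.B V, k ≫ L.c V = L.c U ≫ resHom 𝔛 h i ∧
      ∀ n, IsPullback ((k : FSch.Hom _ _).app n) ((L.c U : FSch.Hom _ _).app n) ((L.c V : FSch.Hom _ _).app n)
        ((resHom 𝔛 h i : FSch.Hom _ _).app n) := by
  let j := resHom 𝔛 h i
  haveI : ∀ n, IsOpenImmersion ((j : FSch.Hom _ _).app n) := fun n =>
    inferInstanceAs (IsOpenImmersion ((𝔛.X n).homOfLE (FCompl.lvU_mono 𝔛 h i n)))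
  have hT : (FSch.pullbackSys (L.c V) j).IsFormal :=
    isFormal_of_adic (restrict_isFormal h U.1) (isAdicHom_pullbackSnd (L.c V) j (L.hc V).1)
  have h1 := isAdmBlowUp_baseChange (L.c V) j (isAdicHom_resHom 𝔛 h i) (restrict_isFormal h U.1) (L.hc V) hT
  rw [← idealMap_comp (restrict_isFormal h U.1) (restrict_isFormal h V.1) h, resHom_ι] at h1
  obtain ⟨e, he⟩ := exists_iso_of_isAdmBlowUp (L.hc U) h1
  have hw := (S3859.result (L.c V) j).w
  refine ⟨e.hom ≫ FSch.pullbackFst (L.c V) j, by rw [Category.assoc, hw, ← Category.assoc, he], fun n => ?_⟩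
  haveI : IsIso ((e.hom : FSch.Hom _ _).app n) := ⟨(e.inv : FSch.Hom _ _).app n,
    congrArg (fun t => FSch.Hom.app t n) e.hom_inv_id, congrArg (fun t => FSch.Hom.app t n) e.inv_hom_id⟩
  refine (IsPullback.of_hasPullback ((L.c V : FSch.Hom _ _).app n) ((j : FSch.Hom _ _).app n)).of_iso
    (asIso ((e.hom : FSch.Hom _ _).app n)).symm (Iso.refl _) (Iso.refl _) (Iso.refl _) ?_ ?_ (by simp) (by simp [j])
  · simp only [Iso.symm_hom, asIso_inv, Iso.refl_hom, Category.comp_id]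
    show _ = inv _ ≫ (e.hom : FSch.Hom _ _).app n ≫ pullback.fst _ _
    rw [IsIso.inv_hom_id_assoc]
  · simp only [Iso.symm_hom, asIso_inv, Iso.refl_hom, Category.comp_id]
    rw [← congrArg (fun t => FSch.Hom.app t n) he]
    show _ = inv _ ≫ (e.hom : FSch.Hom _ _).app n ≫ pullback.snd _ _
    rw [IsIso.inv_hom_id_assoc]

/-- The transition maps. -/
def LocalBlow.k {U V : Subtype (GoodFor J)} (i : U.1 ≤ V.1) : L.B U ⟶ L.B V := (L.exists_k i).choose

lemma LocalBlow.k_w {U V : Subtype (GoodFor J)} (i : U.1 ≤ V.1) : L.k i ≫ L.c V = L.c U ≫ resHom 𝔛 h i :=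
  (L.exists_k i).choose_spec.1

lemma LocalBlow.eq_k {U V : Subtype (GoodFor J)} (i : U.1 ≤ V.1) {k' : L.B U ⟶ L.B V}
    (hk : k' ≫ L.c V = L.c U ≫ resHom 𝔛 h i) : k' = L.k i := by
  have hg : FSch.IsAdicHom (L.c U ≫ resHom 𝔛 h i) := fun n => ((L.hc U).1 n).paste_vert (isAdicHom_resHom 𝔛 h i n)
  have hinv : (FBlow.idealMap (L.c U ≫ resHom 𝔛 h i) (L.hB U) (restrict_isFormal h V.1)
      (FBlow.idealMap (𝔛.restrictOpenι h V.1) (restrict_isFormal h V.1) h J)).IsInvertible := by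
    rw [← idealMap_comp (L.hB U) (restrict_isFormal h V.1) h, Category.assoc, resHom_ι,
      idealMap_comp (L.hB U) (restrict_isFormal h U.1) h]
    exact (L.hc U).2.1
  exact ((L.hc V).2.2 _ (L.hB U) _ hg hinv).unique hk (L.k_w i)

/-- The gluing input. -/
def LocalBlow.input (hJ : FBlow.IsCohOpen 𝔛 h J) : GlueInput h (GoodFor J) where
  basis := goodFor_basis hJ
  B := L.B
  c := L.c
  adic U := (L.hc U).1
  k i := L.k i
  k_id U := (L.eq_k _ (by
    rw [Category.id_comp, show resHom 𝔛 h (le_refl U.1) = 𝟙 _ from FSch.Hom.ext (funext fun n => by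
      rw [← cancel_mono (𝔛.lvU h n U.1).ι]
      exact (Scheme.homOfLE_ι _ (FCompl.lvU_mono 𝔛 h (le_refl U.1) n)).trans (Category.id_comp _).symm), Category.comp_id])).symm
  k_comp {U V W} i j := (L.eq_k _ (by
    rw [Category.assoc, L.k_w j, ← Category.assoc, L.k_w i, Category.assoc]
    refine congrArg (L.c U ≫ ·) (sys_mono (m := 𝔛.restrictOpenι h W.1)
      (fun n => inferInstanceAs (Mono (𝔛.lvU h n W.1).ι)) ?_)
    rw [Category.assoc, resHom_ι, resHom_ι, resHom_ι])).symm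
  sq i n := (L.exists_k i).choose_spec.2 n

variable (hJ : FBlow.IsCohOpen 𝔛 h J)

lemma restrictOpenι_mono (U : (𝔛.X 0).Opens) (n : ℕ) : Mono ((𝔛.restrictOpenι h U : FSch.Hom _ _).app n) :=
  inferInstanceAs (Mono (𝔛.lvU h n U).ι)

theorem LocalBlow.isInvertible_glued (hX' : (L.input hJ).glued.IsFormal) :
    (FBlow.idealMap (L.input hJ).toSys hX' h J).IsInvertible := by
  let G := L.input hJ
  refine isInvertible_of_cover hX' _ fun x => ?_
  obtain ⟨U, hU⟩ := G.exists_piece_mem 0 x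
  refine ⟨L.B U, L.hB U, G.u' U, fun n => inferInstanceAs (IsOpenImmersion (G.piece n U)), hU, ?_⟩
  rw [← idealMap_comp (L.hB U) hX' h, G.u'_toSys, show G.c U = L.c U from rfl,
    idealMap_comp (L.hB U) (restrict_isFormal h U.1) h]
  exact (L.hc U).2.1

theorem LocalBlow.exists_lift {𝔜 : FSch.Sys.{u}} (hY : 𝔜.IsFormal) {g : 𝔜 ⟶ 𝔛} (k : 𝔜 ⟶ (L.input hJ).glued)
    (hk : k ≫ (L.input hJ).toSys = g) (U : Subtype (GoodFor J)) :
    ∃ a : 𝔜.restrictOpen hY ((g : FSch.Hom _ _).app 0 ⁻¹ᵁ U.1) ⟶ L.B U,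
      a ≫ (L.input hJ).u' U = 𝔜.restrictOpenι hY ((g : FSch.Hom _ _).app 0 ⁻¹ᵁ U.1) ≫ k ∧
      a ≫ L.c U = FSch.Hom.restrictOpen g hY h U.1 := by
  let G := L.input hJ
  let O := (g : FSch.Hom _ _).app 0 ⁻¹ᵁ U.1
  have hw : ∀ n, ((𝔜.restrictOpenι hY O : FSch.Hom _ _).app n ≫ (k : FSch.Hom _ _).app n) ≫
      (G.toSys : FSch.Hom _ _).app n =
      (FSch.Hom.restrictOpen g hY h U.1 : FSch.Hom _ _).app n ≫ (𝔛.restrictOpenι h U.1 : FSch.Hom _ _).app n := fun n => by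
    rw [Category.assoc, show (k : FSch.Hom _ _).app n ≫ (G.toSys : FSch.Hom _ _).app n = (g : FSch.Hom _ _).app n from
      congrArg (fun t => FSch.Hom.app t n) hk]
    exact (Scheme.Hom.resLE_comp_ι _ _).symm
  let a := fun n => (G.sq_toSys U n).lift _ _ (hw n)
  have ha₁ : ∀ n, a n ≫ G.piece n U = (𝔜.restrictOpenι hY O : FSch.Hom _ _).app n ≫ (k : FSch.Hom _ _).app n :=
    fun n => (G.sq_toSys U n).lift_fst _ _ _
  refine ⟨⟨a, fun n => ?_⟩, FSch.Hom.ext (funext ha₁), FSch.Hom.ext (funext fun n => (G.sq_toSys U n).lift_snd _ _ _)⟩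
  rw [← cancel_mono (G.piece (n + 1) U), Category.assoc, Category.assoc, ha₁]
  rw [show (L.B U).ι n ≫ G.piece (n + 1) U = G.piece n U ≫ G.glued.ι n from (G.piece_ι n U).symm, ← Category.assoc, ha₁]
  exact ((𝔜.restrictOpenι hY O ≫ k : 𝔜.restrictOpen hY O ⟶ G.glued) : FSch.Hom _ _).comm n

theorem LocalBlow.hom_ext {𝔜 : FSch.Sys.{u}} (hY : 𝔜.IsFormal) {g : 𝔜 ⟶ 𝔛} (hg : FSch.IsAdicHom g)
    (hinv : (FBlow.idealMap g hY h J).IsInvertible) {k k' : 𝔜 ⟶ (L.input hJ).glued}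
    (hk : k ≫ (L.input hJ).toSys = g) (hk' : k' ≫ (L.input hJ).toSys = g) : k = k' := by
  refine sys_hom_ext hY (fun U : Subtype (GoodFor J) => (g : FSch.Hom _ _).app 0 ⁻¹ᵁ U.1) (fun x => ?_) fun U => ?_
  · obtain ⟨U, hU, -⟩ := goodFor_basis hJ ((g : FSch.Hom _ _).app 0 x) ⊤ trivial
    exact ⟨U, hU⟩
  obtain ⟨a, ha, hac⟩ := L.exists_lift hJ hY k hk U
  obtain ⟨a', ha', hac'⟩ := L.exists_lift hJ hY k' hk' U
  rw [← ha, ← ha']
  refine congrArg (· ≫ _) ?_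
  let O := (g : FSch.Hom _ _).app 0 ⁻¹ᵁ U.1
  have hgU : FSch.IsAdicHom (FSch.Hom.restrictOpen g hY h U.1) := by
    refine isAdicHom_cancel ?_ (isAdicHom_restrictOpenι h U.1)
    rw [FSch.Hom.restrictOpen_ι]
    exact fun n => (isAdicHom_restrictOpenι hY O n).paste_vert (hg n)
  have hi : (FBlow.idealMap (FSch.Hom.restrictOpen g hY h U.1) (restrict_isFormal hY O) (restrict_isFormal h U.1)
      (FBlow.idealMap (𝔛.restrictOpenι h U.1) (restrict_isFormal h U.1) h J)).IsInvertible := by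
    rw [← idealMap_comp (restrict_isFormal hY O) (restrict_isFormal h U.1) h, FSch.Hom.restrictOpen_ι,
      idealMap_comp (restrict_isFormal hY O) hY h]
    exact isInvertible_idealMap_of_open _ _ _ hinv
  exact ((L.hc U).2.2 _ (restrict_isFormal hY O) _ hgU hi).unique hac hac'

theorem LocalBlow.exists_hom {𝔜 : FSch.Sys.{u}} (hY : 𝔜.IsFormal) {g : 𝔜 ⟶ 𝔛} (hg : FSch.IsAdicHom g)
    (hinv : (FBlow.idealMap g hY h J).IsInvertible) : ∃ k : 𝔜 ⟶ (L.input hJ).glued, k ≫ (L.input hJ).toSys = g := by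
  let G := L.input hJ
  let O := fun U : Subtype (GoodFor J) => (g : FSch.Hom _ _).app 0 ⁻¹ᵁ U.1
  have hO : ∀ x, ∃ U, x ∈ O U := fun x => by
    obtain ⟨U, hU, -⟩ := goodFor_basis hJ ((g : FSch.Hom _ _).app 0 x) ⊤ trivial
    exact ⟨U, hU⟩
  have hgU : ∀ U : Subtype (GoodFor J), FSch.IsAdicHom (FSch.Hom.restrictOpen g hY h U.1) := fun U => by
    refine isAdicHom_cancel ?_ (isAdicHom_restrictOpenι h U.1)
    rw [FSch.Hom.restrictOpen_ι]
    exact fun n => (isAdicHom_restrictOpenι hY (O U) n).paste_vert (hg n)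
  have hi : ∀ U : Subtype (GoodFor J), (FBlow.idealMap (FSch.Hom.restrictOpen g hY h U.1)
      (restrict_isFormal hY (O U)) (restrict_isFormal h U.1)
      (FBlow.idealMap (𝔛.restrictOpenι h U.1) (restrict_isFormal h U.1) h J)).IsInvertible := fun U => by
    rw [← idealMap_comp (restrict_isFormal hY (O U)) (restrict_isFormal h U.1) h, FSch.Hom.restrictOpen_ι,
      idealMap_comp (restrict_isFormal hY (O U)) hY h]
    exact isInvertible_idealMap_of_open _ _ _ hinv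
  choose a ha using fun U => ((L.hc U).2.2 _ (restrict_isFormal hY (O U)) _ (hgU U) (hi U)).exists
  have hfac : ∀ U, (a U ≫ G.u' U) ≫ G.toSys = 𝔜.restrictOpenι hY (O U) ≫ g := fun U => by
    rw [Category.assoc, G.u'_toSys, ← Category.assoc, show a U ≫ G.c U = FSch.Hom.restrictOpen g hY h U.1 from ha U]
    exact FSch.Hom.restrictOpen_ι g hY h U.1
  obtain ⟨k, hk⟩ := sys_exists_glue hY O hO (fun U => a U ≫ G.u' U) fun U V => by
    let W := O U ⊓ O V
    have hW : ∀ (Z : Subtype (GoodFor J)) (i : W ≤ O Z),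
        (resHom 𝔜 hY i ≫ a Z ≫ G.u' Z) ≫ G.toSys = 𝔜.restrictOpenι hY W ≫ g := fun Z i => by
      rw [Category.assoc, hfac, ← Category.assoc, resHom_ι]
    refine L.hom_ext hJ (restrict_isFormal hY W) (g := 𝔜.restrictOpenι hY W ≫ g)
      (fun n => (isAdicHom_restrictOpenι hY W n).paste_vert (hg n)) ?_ (hW U inf_le_left) (hW V inf_le_right)
    rw [idealMap_comp (restrict_isFormal hY W) hY h]
    exact isInvertible_idealMap_of_open _ _ _ hinv
  refine ⟨k, sys_hom_ext hY O hO fun U => ?_⟩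
  rw [← Category.assoc, hk, hfac]

include hR hp hfp htf hJ in
theorem exists_isAdmBlowUp :
    ∃ (𝔛' : FSch.Sys.{u}) (h' : 𝔛'.IsFormal) (b : 𝔛' ⟶ 𝔛), FBlow.IsAdmBlowUp b h' h J := by
  choose B hB c hc using fun U : Subtype (GoodFor J) => exists_blowUp_good p hR hp hfp htf U.2
  let L : LocalBlow J := ⟨B, hB, c, hc⟩
  have had := (L.input hJ).isAdicHom_toSys
  have hX' := isFormal_of_adic h had
  refine ⟨_, hX', _, had, L.isInvertible_glued hJ hX', fun 𝔜 hY g hg hinv => ?_⟩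
  obtain ⟨k, hk⟩ := L.exists_hom hJ hY hg hinv
  exact ⟨k, hk, fun k' hk' => L.hom_ext hJ hY hg hinv hk' hk⟩

end Groth.Agent.FBlowLib
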