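import Groth.Agent.FTIdealLib.Basic
import Groth.Prelude.Def_FBlow
import Mathlib

/-!
# Extension of ideals of finite type from a quasi-compact open
-/

set_option autoImplicit false
set_option linter.style.haveILetI false
set_option backward.isDefEq.respectTransparency false
set_option backward.isDefEq.respectTransparency.types false
set_option maxHeartbeats 1000000
universe u

open CategoryTheory CategoryTheory.Limits AlgebraicGeometry TopologicalSpace Opposite

noncomputable section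

namespace Groth.Agent.FBlowLib

variable {X Y : Scheme.{u}}

/-- Finite type of ideal data is local. -/
theorem idealFT_of_local (I : X.IdealSheafData)
    (h : ∀ x : X, ∃ V : X.affineOpens, x ∈ V.1 ∧ ∀ (f : Γ(X, V.1)), (I.ideal (X.affineBasicOpen f)).FG) :
    FSch.IdealFT I := by
  intro U
  have key : ∀ x : U.1, ∃ r : Γ(X, U.1), x.1 ∈ X.basicOpen r ∧ (I.ideal (X.affineBasicOpen (U := U) r)).FG := by
    intro x
    obtain ⟨V, hxV, hV⟩ := h x.1
    obtain ⟨r, s, e, hxr⟩ := exists_basicOpen_le_affine_inter U.2 V.2 x.1 ⟨x.2, hxV⟩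
    refine ⟨r, hxr, ?_⟩
    have : X.affineBasicOpen (U := U) r = X.affineBasicOpen (U := V) s := Subtype.ext e
    rw [this]
    exact hV s
  choose r hxr hr using key
  refine Ideal.fg_of_localizationSpan (Set.range r) ?_ ?_
  · rw [← U.2.self_le_iSup_basicOpen_iff]
    exact fun x hxU => TopologicalSpace.Opens.mem_iSup.2 ⟨⟨_, ⟨x, hxU⟩, rfl⟩, hxr ⟨x, hxU⟩⟩
  · rintro ⟨_, x, rfl⟩
    letI : Algebra Γ(X, U.1) Γ(X, X.basicOpen (r x)) :=
      (X.presheaf.map (homOfLE (X.basicOpen_le (r x))).op).hom.toAlgebra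
    haveI : IsLocalization.Away (r x) Γ(X, X.basicOpen (r x)) := U.2.isLocalization_basicOpen (r x)
    let e := IsLocalization.algEquiv (Submonoid.powers (r x)) Γ(X, X.basicOpen (r x)) (Localization.Away (r x))
    rw [show algebraMap Γ(X, U.1) (Localization.Away (r x)) =
      e.toAlgHom.toRingHom.comp (algebraMap Γ(X, U.1) Γ(X, X.basicOpen (r x))) from (AlgHom.comp_algebraMap e.toAlgHom).symm,
      ← Ideal.map_map, show algebraMap Γ(X, U.1) Γ(X, X.basicOpen (r x)) =
        (X.presheaf.map (homOfLE (X.basicOpen_le (r x))).op).hom from rfl, I.map_ideal_basicOpen U (r x)]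
    exact (hr x).map _

/-- Membership in ideal data is local on an affine open. -/
theorem mem_ideal_of_memData (I : X.IdealSheafData) (U : X.affineOpens) {s : Γ(X, U.1)}
    (hs : FBlow.MemData I U.1 s) : s ∈ I.ideal U := by
  rw [← I.ker_subschemeι_app U, RingHom.mem_ker]
  choose V i hxV hV using hs
  refine TopCat.Sheaf.eq_of_locally_eq' I.subscheme.sheaf (fun x : U.1 => I.subschemeι ⁻¹ᵁ (V x.1 x.2).1)
    (I.subschemeι ⁻¹ᵁ U.1) (fun x => homOfLE (I.subschemeι.preimage_mono (i x.1 x.2)))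
    (fun z hz => Opens.mem_iSup.2 ⟨⟨_, hz⟩, hxV _ hz⟩) _ 0 fun x => ?_
  rw [map_zero]
  have h1 := hV x.1 x.2
  rw [← I.ker_subschemeι_app (V x.1 x.2), RingHom.mem_ker] at h1
  exact (ConcreteCategory.congr_hom (I.subschemeι.naturality (homOfLE (i x.1 x.2)).op) s).symm.trans h1

theorem memData_iff (I : X.IdealSheafData) (U : X.affineOpens) (s : Γ(X, U.1)) :
    s ∈ (FBlow.IdealSh.ofData I).sect U.1 ↔ s ∈ I.ideal U :=
  ⟨mem_ideal_of_memData I U, fun hs x hx => ⟨U, le_rfl, hx,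
    by rw [show X.presheaf.map (homOfLE (le_refl U.1)).op s = s from
      FBlow.IdealSh.map_id_apply (O := X.sheaf) le_rfl s]; exact hs⟩⟩

theorem ideal_eq_top_of_disjoint (I : X.IdealSheafData) (U : X.affineOpens)
    (h : ∀ x ∈ U.1, x ∉ I.support) : I.ideal U = ⊤ := by
  by_contra hne
  obtain ⟨m, hm, hle⟩ := Ideal.exists_le_maximal _ hne
  let x := U.2.fromSpec ⟨m, hm.isPrime⟩
  have hx : x ∈ U.1 := U.2.range_fromSpec.le ⟨_, rfl⟩
  refine h x hx ?_
  rw [Scheme.IdealSheafData.mem_support_iff_of_mem hx, Scheme.mem_zeroLocus_iff]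
  intro f hf hxf
  have h1 : (⟨m, hm.isPrime⟩ : PrimeSpectrum Γ(X, U.1)) ∈ U.2.fromSpec ⁻¹ᵁ X.basicOpen f := hxf
  rw [U.2.fromSpec_preimage_basicOpen] at h1
  exact h1 (hle hf)

theorem comap_map_of_isOpenImmersion (A : X.IdealSheafData) (j : X ⟶ Y) [IsOpenImmersion j] [QuasiCompact j] :
    (A.map j).comap j = A := by
  refine le_antisymm (Scheme.IdealSheafData.comap_map_le A j) fun W s hs => ?_
  rw [Scheme.IdealSheafData.ideal_comap_of_isOpenImmersion, Ideal.mem_comap]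
  have e : j ⁻¹ᵁ (j ''ᵁ W.1) = W.1 := Scheme.Hom.preimage_image_eq j W.1
  have H : IsAffineOpen (j ⁻¹ᵁ (j ''ᵁ W.1)) := e.symm ▸ W.2
  rw [Scheme.IdealSheafData.ideal_map A j ⟨j ''ᵁ W.1, W.2.image_of_isOpenImmersion j⟩ H, Ideal.mem_comap]
  have h1 := A.ideal_le_comap_ideal (U := ⟨_, H⟩) (V := W) (show j ⁻¹ᵁ (j ''ᵁ W.1) ≤ W.1 from e.le) hs
  rw [Ideal.mem_comap] at h1
  refine Eq.mp (congrArg (· ∈ _) ?_) h1
  exact (ConcreteCategory.congr_hom (Scheme.Hom.appIso_inv_app j W.1) s).symm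

theorem fg_ideal_comap_openImmersion (I : Y.IdealSheafData) (j : X ⟶ Y) [IsOpenImmersion j] (W : X.affineOpens)
    (h : ((I.comap j).ideal W).FG) : (I.ideal ⟨j ''ᵁ W.1, W.2.image_of_isOpenImmersion j⟩).FG := by
  rw [Scheme.IdealSheafData.ideal_comap_of_isOpenImmersion] at h
  have hsurj : Function.Surjective (j.appIso W.1).inv.hom :=
    (ConcreteCategory.bijective_of_isIso (j.appIso W.1).inv).2
  rw [← Ideal.map_comap_of_surjective _ hsurj (I.ideal ⟨j ''ᵁ W.1, W.2.image_of_isOpenImmersion j⟩)]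
  exact h.map _

/-- An ideal of finite type on a quasi-compact open extends. -/
theorem exists_ft_extension [CompactSpace Y] [QuasiSeparatedSpace Y] (j : X ⟶ Y) [IsOpenImmersion j] [QuasiCompact j]
    (A : X.IdealSheafData) (hA : FSch.IdealFT A) :
    ∃ J : Y.IdealSheafData, FSch.IdealFT J ∧ J.comap j = A := by
  classical
  haveI : CompactSpace X := QuasiCompact.compactSpace_of_compactSpace j
  let K := A.map j
  have hK : K.comap j = A := comap_map_of_isOpenImmersion A j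
  obtain ⟨T, hT⟩ := isCompact_univ.elim_finite_subcover (fun W : X.affineOpens => (W.1 : Set X)) (fun W => W.1.2)
    (fun x _ => Set.mem_iUnion.2 (by
      obtain ⟨_, ⟨W, hW, rfl⟩, hxW, -⟩ :=
        X.isBasis_affineOpens.exists_subset_of_mem_open (Set.mem_univ x) isOpen_univ
      exact ⟨⟨W, hW⟩, hxW⟩))
  let W' : X.affineOpens → Y.affineOpens := fun W => ⟨j ''ᵁ W.1, W.2.image_of_isOpenImmersion j⟩
  have hfg : ∀ W, ∃ G : Finset Γ(Y, (W' W).1), Ideal.span (G : Set Γ(Y, (W' W).1)) = K.ideal (W' W) := fun W =>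
    fg_ideal_comap_openImmersion K j W (by rw [hK]; exact hA W)
  choose G hG using hfg
  choose! L hLK hLft hLmem using fun (W : X.affineOpens) (a : Γ(Y, (W' W).1)) (ha : a ∈ K.ideal (W' W)) =>
    FTIdealLib.exists_ft_le_mem K (W' W) ha
  let J : Y.IdealSheafData := T.sup fun W => (G W).sup fun a => L W a
  have hmemG : ∀ W, ∀ a ∈ G W, a ∈ K.ideal (W' W) := fun W a ha => (hG W).le (Ideal.subset_span ha)
  have hJK : J ≤ K := Finset.sup_le fun W _ => Finset.sup_le fun a ha => hLK W a (hmemG W a ha)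
  refine ⟨J, ?_, le_antisymm ((Scheme.IdealSheafData.comap_mono j hJK).trans hK.le) ?_⟩
  · refine Finset.sup_induction (p := fun I : Y.IdealSheafData => FSch.IdealFT I) (fun V => ?_)
      (fun I₁ h₁ I₂ h₂ V => ?_) fun W _ => Finset.sup_induction (p := fun I : Y.IdealSheafData => FSch.IdealFT I)
        (fun V => ?_) (fun I₁ h₁ I₂ h₂ V => ?_) fun a ha => hLft W a (hmemG W a ha)
    · rw [Scheme.IdealSheafData.ideal_bot]; exact Submodule.fg_bot
    · rw [Scheme.IdealSheafData.ideal_sup, Pi.sup_apply]; exact Submodule.FG.sup (h₁ V) (h₂ V)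
    · rw [Scheme.IdealSheafData.ideal_bot]; exact Submodule.fg_bot
    · rw [Scheme.IdealSheafData.ideal_sup, Pi.sup_apply]; exact Submodule.FG.sup (h₁ V) (h₂ V)
  · have hcov : ⨆ W : {W : X.affineOpens // W ∈ T}, W.1.1 = (⊤ : X.Opens) := by
      refine top_le_iff.1 fun x _ => ?_
      obtain ⟨W, hW, hxW⟩ := Set.mem_iUnion₂.1 (hT (Set.mem_univ x))
      exact Opens.mem_iSup.2 ⟨⟨W, hW⟩, hxW⟩
    refine le_of_eq (Scheme.IdealSheafData.ext_of_iSup_eq_top _ hcov fun W => ?_)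
    refine le_antisymm ?_ ((Scheme.IdealSheafData.comap_mono j hJK).trans hK.le W.1)
    rw [← hK, Scheme.IdealSheafData.ideal_comap_of_isOpenImmersion,
      Scheme.IdealSheafData.ideal_comap_of_isOpenImmersion]
    refine Ideal.comap_mono ?_
    rw [← hG W.1, Ideal.span_le]
    intro a ha
    have h1 : L W.1 a ≤ J :=
      (Finset.le_sup (f := fun a => L W.1 a) ha).trans (Finset.le_sup (f := fun W => (G W).sup fun a => L W a) W.2)
    exact h1 _ (hLmem W.1 a (hmemG W.1 a ha))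

/-- Extension by the unit ideal outside the closure of a quasi-compact open, in a locally Noetherian space. -/
theorem exists_ft_extension_top [QuasiSeparatedSpace X] (U Y : X.Opens) (hU : IsCompact (U : Set X))
    (hY : IsCompact (Y : Set X)) (hcl : closure (U : Set X) ⊆ Y)
    (hnoeth : ∀ O : X.Opens, O ≤ Y → IsCompact (O : Set X))
    (A : (U : Scheme.{u}).IdealSheafData) (hA : FSch.IdealFT A) :
    ∃ 𝒜 : X.IdealSheafData, FSch.IdealFT 𝒜 ∧ 𝒜.comap U.ι = A ∧ ∀ x : X, x ∉ closure (U : Set X) → x ∉ 𝒜.support := by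
  have qc : ∀ {O : X.Opens}, IsCompact (O : Set X) → QuasiCompact O.ι := fun {O} hO => ⟨fun S hSo hS => by
    rw [(O.ι.isOpenEmbedding.isInducing.isCompact_iff)]
    show IsCompact (O.ι '' (O.ι ⁻¹' S))
    rw [Set.image_preimage_eq_inter_range, Scheme.Opens.range_ι]
    exact QuasiSeparatedSpace.inter_isCompact S O hSo hS O.2 hO⟩
  let Oc : X.Opens := ⟨(closure (U : Set X))ᶜ, isClosed_closure.isOpen_compl⟩
  let W : X.Opens := U ⊔ (Oc ⊓ Y)
  have hUY : U ≤ Y := fun x hx => hcl (subset_closure hx)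
  have hWY : W ≤ Y := sup_le hUY inf_le_right
  haveI := qc hY
  haveI := qc hU
  haveI := qc (hnoeth W hWY)
  haveI : CompactSpace (Y : Scheme.{u}) := isCompact_iff_compactSpace.1 hY
  haveI : QuasiSeparatedSpace (Y : Scheme.{u}) := QuasiSeparatedSpace.of_isOpenEmbedding Y.ι.isOpenEmbedding
  let uW : (U : Scheme.{u}) ⟶ W := X.homOfLE le_sup_left
  let wY : (W : Scheme.{u}) ⟶ Y := X.homOfLE hWY
  haveI : QuasiCompact (uW ≫ W.ι) := by rw [Scheme.homOfLE_ι]; infer_instance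
  haveI : QuasiCompact uW := QuasiCompact.of_comp uW W.ι
  haveI : QuasiCompact (wY ≫ Y.ι) := by rw [Scheme.homOfLE_ι]; infer_instance
  haveI : QuasiCompact wY := QuasiCompact.of_comp wY Y.ι
  let A' := A.map uW
  have hA'U : A'.comap uW = A := comap_map_of_isOpenImmersion A uW
  have hsupp : ∀ w : W, w ∈ A'.support → w.1 ∈ (U : Set X) := fun w hw => by
    rcases w.2 with h | h
    · exact h
    · exfalso
      rw [Scheme.IdealSheafData.support_map] at hw
      have h2 : (W.ι w) ∈ closure (U : Set X) := by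
        have h3 := image_closure_subset_closure_image W.ι.continuous ⟨w, hw, rfl⟩
        refine closure_mono ?_ h3
        rintro _ ⟨_, ⟨v, -, rfl⟩, rfl⟩
        show W.ι (uW v) ∈ (U : Set X)
        rw [← Scheme.Hom.comp_apply, Scheme.homOfLE_ι]
        exact v.2
      exact h.1 h2
  have hA' : FSch.IdealFT A' := by
    refine idealFT_of_local A' fun w => ?_
    rcases w.2 with h | h
    · obtain ⟨V, hV, hwV, -⟩ := Opens.isBasis_iff_nbhd.mp (U : Scheme.{u}).isBasis_affineOpens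
        (U := ⊤) (x := (⟨w.1, h⟩ : U)) trivial
      refine ⟨⟨uW ''ᵁ V, hV.image_of_isOpenImmersion uW⟩, ⟨_, hwV, Subtype.ext ?_⟩, fun f => ?_⟩
      · show W.ι (uW ⟨w.1, h⟩) = w.1
        rw [← Scheme.Hom.comp_apply, Scheme.homOfLE_ι]
        rfl
      · have hD : (W : Scheme.{u}).basicOpen f ≤ uW ''ᵁ V := (W : Scheme.{u}).basicOpen_le f
        let V₁ : (U : Scheme.{u}).affineOpens := ⟨uW ⁻¹ᵁ (W : Scheme.{u}).basicOpen f, by
          refine uW.isAffineOpen_iff_of_isOpenImmersion.1 ?_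
          rw [Scheme.Hom.image_preimage_eq_opensRange_inf, inf_eq_right.2 (hD.trans (by rintro _ ⟨a, -, rfl⟩; exact ⟨a, rfl⟩))]
          exact (hV.image_of_isOpenImmersion uW).basicOpen f⟩
        have h1 := fg_ideal_comap_openImmersion A' uW V₁ (by rw [hA'U]; exact hA V₁)
        have e : (⟨uW ''ᵁ V₁.1, V₁.2.image_of_isOpenImmersion uW⟩ : (W : Scheme.{u}).affineOpens) =
            (W : Scheme.{u}).affineBasicOpen (U := ⟨uW ''ᵁ V, hV.image_of_isOpenImmersion uW⟩) f := Subtype.ext (by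
          show uW ''ᵁ (uW ⁻¹ᵁ _) = _
          rw [Scheme.Hom.image_preimage_eq_opensRange_inf, inf_eq_right.2 (hD.trans (by rintro _ ⟨a, -, rfl⟩; exact ⟨a, rfl⟩))]
          rfl)
        rw [← e]
        exact h1
    · obtain ⟨V, hV, hwV, hVle⟩ := Opens.isBasis_iff_nbhd.mp (W : Scheme.{u}).isBasis_affineOpens
        (U := W.ι ⁻¹ᵁ Oc) (x := w) h.1
      refine ⟨⟨V, hV⟩, hwV, fun f => ?_⟩
      rw [ideal_eq_top_of_disjoint A' _ fun v hv hs =>
        hVle ((W : Scheme.{u}).basicOpen_le f hv) (subset_closure (hsupp v hs))]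
      exact ⟨{1}, by rw [Finset.coe_singleton]; exact Ideal.span_singleton_one⟩
  obtain ⟨JY, hJY, hJYW⟩ := exists_ft_extension wY A' hA'
  have hsuppY : ∀ y : Y, y ∈ JY.support → y.1 ∈ closure (U : Set X) := fun y hy => by
    by_contra hn
    let w : W := ⟨y.1, Or.inr ⟨hn, y.2⟩⟩
    have hwy : wY w = y := Subtype.ext (by
      show Y.ι (wY w) = y.1
      rw [← Scheme.Hom.comp_apply, Scheme.homOfLE_ι]
      rfl)
    have h1 : w ∈ A'.support := by
      rw [← hJYW, Scheme.IdealSheafData.support_comap]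
      show wY w ∈ JY.support
      rw [hwy]
      exact hy
    exact hn (subset_closure (hsupp w h1))
  let 𝒜 := JY.map Y.ι
  have hY' : 𝒜.comap Y.ι = JY := comap_map_of_isOpenImmersion JY Y.ι
  have hsuppX : ∀ x : X, x ∉ closure (U : Set X) → x ∉ 𝒜.support := fun x hx hs => hx (by
    rw [Scheme.IdealSheafData.support_map] at hs
    refine closure_minimal ?_ isClosed_closure hs
    rintro _ ⟨y, hy, rfl⟩
    exact hsuppY y hy)
  refine ⟨𝒜, idealFT_of_local 𝒜 fun x => ?_, ?_, hsuppX⟩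
  · by_cases hx : x ∈ closure (U : Set X)
    · obtain ⟨V, hV, hxV, -⟩ := Opens.isBasis_iff_nbhd.mp (Y : Scheme.{u}).isBasis_affineOpens
        (U := ⊤) (x := (⟨x, hcl hx⟩ : Y)) trivial
      refine ⟨⟨Y.ι ''ᵁ V, hV.image_of_isOpenImmersion Y.ι⟩, ⟨_, hxV, rfl⟩, fun f => ?_⟩
      have hD : X.basicOpen f ≤ Y.ι ''ᵁ V := X.basicOpen_le f
      let V₁ : (Y : Scheme.{u}).affineOpens := ⟨Y.ι ⁻¹ᵁ X.basicOpen f, by
        refine Y.ι.isAffineOpen_iff_of_isOpenImmersion.1 ?_
        rw [Scheme.Hom.image_preimage_eq_opensRange_inf, inf_eq_right.2 (hD.trans (by rintro _ ⟨a, -, rfl⟩; exact ⟨a, rfl⟩))]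
        exact (hV.image_of_isOpenImmersion Y.ι).basicOpen f⟩
      have h1 := fg_ideal_comap_openImmersion 𝒜 Y.ι V₁ (by rw [hY']; exact hJY V₁)
      have e : (⟨Y.ι ''ᵁ V₁.1, V₁.2.image_of_isOpenImmersion Y.ι⟩ : X.affineOpens) =
          X.affineBasicOpen (U := ⟨Y.ι ''ᵁ V, hV.image_of_isOpenImmersion Y.ι⟩) f := Subtype.ext (by
        show Y.ι ''ᵁ (Y.ι ⁻¹ᵁ _) = _
        rw [Scheme.Hom.image_preimage_eq_opensRange_inf, inf_eq_right.2 (hD.trans (by rintro _ ⟨a, -, rfl⟩; exact ⟨a, rfl⟩))]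
        rfl)
      rw [← e]
      exact h1
    · obtain ⟨V, hV, hxV, hVle⟩ := Opens.isBasis_iff_nbhd.mp X.isBasis_affineOpens (U := Oc) (x := x) hx
      refine ⟨⟨V, hV⟩, hxV, fun f => ?_⟩
      rw [ideal_eq_top_of_disjoint 𝒜 _ fun v hv => hsuppX v (hVle (X.basicOpen_le f hv))]
      exact ⟨{1}, by rw [Finset.coe_singleton]; exact Ideal.span_singleton_one⟩
  · rw [← show uW ≫ wY ≫ Y.ι = U.ι by rw [Scheme.homOfLE_ι, Scheme.homOfLE_ι], Scheme.IdealSheafData.comap_comp,
      Scheme.IdealSheafData.comap_comp, hY', hJYW, hA'U]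

end Groth.Agent.FBlowLib
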