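import Groth.Agent.FBlowLib.GenLocus
import Groth.Agent.S13342

/-!
# Functoriality of ideals on formal systems and restriction of admissible blow-ups to opens
-/

set_option autoImplicit false
set_option linter.style.haveILetI false
set_option backward.isDefEq.respectTransparency false
set_option backward.isDefEq.respectTransparency.types false
set_option maxHeartbeats 1000000
universe u

open CategoryTheory CategoryTheory.Limits AlgebraicGeometry TopologicalSpace Opposite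

noncomputable section

namespace Groth.Agent.FBlowLib

open Groth.Agent.FCompl

variable {𝔜 𝔛 ℨ : FSch.Sys.{u}} (hY : 𝔜.IsFormal) (hX : 𝔛.IsFormal) (hZ : ℨ.IsFormal)

lemma sharp_sharp (f : 𝔜 ⟶ 𝔛) (g : 𝔛 ⟶ ℨ) (W : (ℨ.X 0).Opens) (a : OR ℨ hZ W) :
    (FSch.Hom.sharp (f ≫ g) hY hZ).hom.app (op W) a =
      (FSch.Hom.sharp f hY hX).hom.app (op ((g : FSch.Hom 𝔛 ℨ).app 0 ⁻¹ᵁ W))
        ((FSch.Hom.sharp g hX hZ).hom.app (op W) a) := by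
  apply osh_ext (h := hY) (U := (f ≫ g : FSch.Hom 𝔜 ℨ).app 0 ⁻¹ᵁ W)
  intro n
  refine (pr_sharp hY hZ (f ≫ g) W a n).trans ?_
  refine Eq.trans ?_ ((pr_sharp hY hX f ((g : FSch.Hom 𝔛 ℨ).app 0 ⁻¹ᵁ W) _ n).trans
    (congrArg _ (pr_sharp hX hZ g W a n))).symm
  exact (ConcreteCategory.congr_hom (Scheme.Hom.appLE_comp_appLE ((f : FSch.Hom 𝔜 𝔛).app n)
    ((g : FSch.Hom 𝔛 ℨ).app n) (ℨ.lvU hZ n W) (𝔛.lvU hX n ((g : FSch.Hom 𝔛 ℨ).app 0 ⁻¹ᵁ W))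
    (𝔜.lvU hY n ((f ≫ g : FSch.Hom 𝔜 ℨ).app 0 ⁻¹ᵁ W)) (FSch.Hom.lvU_preimage g hX hZ n W).ge
    (FSch.Hom.lvU_preimage f hY hX n ((g : FSch.Hom 𝔛 ℨ).app 0 ⁻¹ᵁ W)).ge) _).symm

theorem idealMap_comp (f : 𝔜 ⟶ 𝔛) (g : 𝔛 ⟶ ℨ) (J : FBlow.IdealSh (ℨ.Osh hZ)) :
    FBlow.idealMap (f ≫ g) hY hZ J = FBlow.idealMap f hY hX (FBlow.idealMap g hX hZ J) := by
  refine le_antisymm' (map_le_of_le_comapSh fun W a ha => ?_) (map_le_of_le_comapSh (map_le_of_le_comapSh fun W a ha => ?_))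
  · show (FSch.Hom.sharp (f ≫ g) hY hZ).hom.app (op W) a ∈
      (FBlow.idealMap f hY hX (FBlow.idealMap g hX hZ J)).sect ((f ≫ g : FSch.Hom 𝔜 ℨ).app 0 ⁻¹ᵁ W)
    rw [sharp_sharp hY hX hZ f g W a]
    show _ ∈ (FBlow.idealMap f hY hX (FBlow.idealMap g hX hZ J)).sect ((f : FSch.Hom 𝔜 𝔛).app 0 ⁻¹ᵁ ((g : FSch.Hom 𝔛 ℨ).app 0 ⁻¹ᵁ W))
    have h1 := FBlow.IdealSh.image_mem_map ((g : FSch.Hom 𝔛 ℨ).app 0).base (FSch.Hom.sharp g hX hZ) J ha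
      (le_refl ((g : FSch.Hom 𝔛 ℨ).app 0 ⁻¹ᵁ W))
    rw [FBlow.IdealSh.map_id_apply] at h1
    have h2 := FBlow.IdealSh.image_mem_map ((f : FSch.Hom 𝔜 𝔛).app 0).base (FSch.Hom.sharp f hY hX) _ h1
      (le_refl ((f : FSch.Hom 𝔜 𝔛).app 0 ⁻¹ᵁ ((g : FSch.Hom 𝔛 ℨ).app 0 ⁻¹ᵁ W)))
    rw [FBlow.IdealSh.map_id_apply] at h2
    exact h2
  · show (FSch.Hom.sharp f hY hX).hom.app (op ((g : FSch.Hom 𝔛 ℨ).app 0 ⁻¹ᵁ W))
      ((FSch.Hom.sharp g hX hZ).hom.app (op W) a) ∈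
      (FBlow.idealMap (f ≫ g) hY hZ J).sect ((f : FSch.Hom 𝔜 𝔛).app 0 ⁻¹ᵁ ((g : FSch.Hom 𝔛 ℨ).app 0 ⁻¹ᵁ W))
    rw [← sharp_sharp hY hX hZ f g W a]
    have h1 := FBlow.IdealSh.image_mem_map ((f ≫ g : FSch.Hom 𝔜 ℨ).app 0).base (FSch.Hom.sharp (f ≫ g) hY hZ) J ha
      (le_refl ((f ≫ g : FSch.Hom 𝔜 ℨ).app 0 ⁻¹ᵁ W))
    rw [FBlow.IdealSh.map_id_apply] at h1
    exact h1

section OpenImm

variable (m : 𝔜 ⟶ 𝔛) [∀ n, IsOpenImmersion ((m : FSch.Hom 𝔜 𝔛).app n)]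

/-- Along a levelwise open immersion the map of structure sheaves is bijective inside the image. -/
theorem sharp_bijective_of_open (W : (𝔛.X 0).Opens)
    (hW : ∀ x ∈ W, x ∈ Set.range ((m : FSch.Hom 𝔜 𝔛).app 0)) :
    Function.Bijective ((FSch.Hom.sharp m hY hX).hom.app (op W)) := by
  let g : ∀ n, 𝔜.X n ⟶ 𝔛.X n := fun n => (m : FSch.Hom 𝔜 𝔛).app n
  let U := g 0 ⁻¹ᵁ W
  let φ : ∀ n, LR 𝔛 hX W n → LR 𝔜 hY U n := fun n =>
    (g n).appLE (𝔛.lvU hX n W) (𝔜.lvU hY n U) (FSch.Hom.lvU_preimage m hY hX n W).ge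
  have hφ : ∀ n, Function.Bijective (φ n) := fun n => by
    have hrange : 𝔛.lvU hX n W ≤ (g n).opensRange := by
      intro z hz
      obtain ⟨z0, rfl⟩ := FSch.Sys.toX_surjective 𝔛 hX n z
      have hz0 : z0 ∈ W := by
        have e : 𝔛.gInv hX n (𝔛.toX n z0) = z0 := congr($(𝔛.toX_base_gInv hX n) z0)
        rw [← e]; exact hz
      obtain ⟨w, hw⟩ := hW z0 hz0
      refine ⟨𝔜.toX n w, ?_⟩
      rw [← hw]
      exact (((Scheme.Hom.comp_apply _ _ _).symm.trans (congr($(FSch.Hom.toX_comm m n) w)).symm).trans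
        (Scheme.Hom.comp_apply _ _ _)).symm
    haveI : IsIso ((g n).app (𝔛.lvU hX n W)) := Scheme.Hom.isIso_app _ _ hrange
    have e := FSch.Hom.lvU_preimage m hY hX n W
    show Function.Bijective ((g n).appLE (𝔛.lvU hX n W) (𝔜.lvU hY n U) e.ge)
    have : ∀ (V : (𝔜.X n).Opens) (e' : g n ⁻¹ᵁ 𝔛.lvU hX n W = V),
        Function.Bijective ((g n).appLE (𝔛.lvU hX n W) V e'.ge) := by
      rintro V rfl
      rw [← Scheme.Hom.app_eq_appLE]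
      exact ConcreteCategory.bijective_of_isIso _
    exact this _ e
  have hpr : ∀ n (x : OR 𝔛 hX W), pr 𝔜 hY U n ((FSch.Hom.sharp m hY hX).hom.app (op W) x) =
      φ n (pr 𝔛 hX W n x) := fun n x => pr_sharp hY hX m W x n
  refine ⟨fun x y hxy => osh_ext fun n => (hφ n).1 ?_, fun z => ?_⟩
  · rw [← hpr, ← hpr, hxy]
  · choose b hb using fun n => (hφ n).2 (pr 𝔜 hY U n z)
    have hnat : ∀ n (a : LR 𝔛 hX W (n + 1)), tr 𝔜 hY U n (φ (n + 1) a) = φ n (tr 𝔛 hX W n a) := fun n a => by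
      refine (ConcreteCategory.congr_hom (Scheme.Hom.appLE_comp_appLE (𝔜.ι n) (g (n + 1)) (𝔛.lvU hX (n + 1) W)
        (𝔜.lvU hY (n + 1) U) (𝔜.lvU hY n U) _ _) a).trans ?_
      refine Eq.trans ?_ (ConcreteCategory.congr_hom (Scheme.Hom.appLE_comp_appLE (g n) (𝔛.ι n)
        (𝔛.lvU hX (n + 1) W) (𝔛.lvU hX n W) (𝔜.lvU hY n U) _ _) a).symm
      congr 3
      exact ((m : FSch.Hom 𝔜 𝔛).comm n).symm
    obtain ⟨x, hx⟩ := osh_lift b fun n => (hφ n).1 (by rw [← hnat, hb, hb]; exact tr_pr 𝔜 hY U n z)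
    refine ⟨x, ?_⟩
    apply osh_ext (h := hY) (U := U)
    intro n
    rw [hpr, hx, hb]

/-- An invertible ideal stays invertible on an open subsystem. -/
theorem isInvertible_idealMap_of_open {L : FBlow.IdealSh (𝔛.Osh hX)} (hL : L.IsInvertible) :
    (FBlow.idealMap m hY hX L).IsInvertible := by
  let g₀ := (m : FSch.Hom 𝔜 𝔛).app 0
  refine isInvertible_of_local _ fun x => ?_
  obtain ⟨U₀, hxU₀, g, hg, hU₀⟩ := hL (g₀ x)
  let U := U₀ ⊓ g₀.opensRange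
  have i₁ : U ≤ U₀ := inf_le_left
  let S : ∀ W : (𝔛.X 0).Opens, OR 𝔛 hX W →+* OR 𝔜 hY (g₀ ⁻¹ᵁ W) := fun W =>
    ((FSch.Hom.sharp m hY hX).hom.app (op W)).hom
  have nat : ∀ {W W' : (𝔛.X 0).Opens} (k : W' ≤ W) (s : OR 𝔛 hX W),
      rsO 𝔜 hY (g₀.preimage_mono k) (S W s) = S W' (rsO 𝔛 hX k s) := fun k s =>
    (ConcreteCategory.congr_hom ((FSch.Hom.sharp m hY hX).hom.naturality (homOfLE k).op) s).symm
  refine ⟨g₀ ⁻¹ᵁ U, ⟨hxU₀, x, rfl⟩, S U (rsO 𝔛 hX i₁ g), ?_, fun V i y hy => ⟨V, le_rfl, hy, ?_⟩,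
    fun V i s hs y hy => ?_⟩
  · have h1 := FBlow.IdealSh.image_mem_map g₀.base (FSch.Hom.sharp m hY hX) L (L.map_mem i₁ hg)
      (le_refl (g₀ ⁻¹ᵁ U))
    rw [FBlow.IdealSh.map_id_apply] at h1
    exact h1
  · obtain ⟨V', hV'le, rfl⟩ : ∃ V' : (𝔛.X 0).Opens, V' ≤ U ∧ g₀ ⁻¹ᵁ V' = V :=
      ⟨g₀ ''ᵁ V, by rintro _ ⟨z, hz, rfl⟩; exact i hz, Scheme.Hom.preimage_image_eq _ _⟩
    intro t ht
    have hb := sharp_bijective_of_open hY hX m V' fun z hz => (hV'le hz).2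
    obtain ⟨s, rfl⟩ := hb.2 t
    replace ht : S V' s * S V' (rsO 𝔛 hX hV'le (rsO 𝔛 hX i₁ g)) = 0 :=
      (congrArg (S V' s * ·) (nat hV'le _).symm).trans ht
    have h0 : s * rsO 𝔛 hX hV'le (rsO 𝔛 hX i₁ g) = 0 := by
      apply hb.1
      rw [map_zero, map_mul]
      exact ht
    rw [show rsO 𝔛 hX hV'le (rsO 𝔛 hX i₁ g) = rsO 𝔛 hX (hV'le.trans i₁) g from
      FBlow.IdealSh.map_comp_apply i₁ hV'le g] at h0
    rw [(hU₀ V' (hV'le.trans i₁)).1 s h0, map_zero]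
  · obtain ⟨W, k, hyW, hW⟩ := hs y hy
    refine ⟨W, k, hyW, ?_⟩
    suffices hmem : rsO 𝔜 hY k s ∈ Ideal.span {rsO 𝔜 hY (k.trans i) (S U (rsO 𝔛 hX i₁ g))} by
      obtain ⟨t, ht⟩ := Ideal.mem_span_singleton'.1 hmem
      exact ⟨t, ht.symm⟩
    refine (Ideal.span_le.2 ?_) hW
    rintro _ ⟨W', j', _, ⟨W₀, j₀, a, ha, rfl⟩, rfl⟩
    show rsO 𝔜 hY j' (rsO 𝔜 hY j₀ (S W₀ a)) ∈ _
    rw [show rsO 𝔜 hY j' (rsO 𝔜 hY j₀ (S W₀ a)) = rsO 𝔜 hY (j'.trans j₀) (S W₀ a) from FBlow.IdealSh.map_comp_apply _ _ _]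
    have hsub : rsO 𝔜 hY (j'.trans j₀) (S W₀ a) ∈ Ideal.span {rsO 𝔜 hY (k.trans i) (S U (rsO 𝔛 hX i₁ g))} := by
      have j : W ≤ g₀ ⁻¹ᵁ W₀ := j'.trans j₀
      let W₁ := U ⊓ W₀
      have hj : W ≤ g₀ ⁻¹ᵁ W₁ := fun z hz => ⟨(k.trans i) hz, j hz⟩
      obtain ⟨t, ht⟩ := (hU₀ W₁ (inf_le_left.trans i₁)).2 _ (L.map_mem (inf_le_right : W₁ ≤ W₀) ha)
      refine Ideal.mem_span_singleton'.2 ⟨rsO 𝔜 hY hj (S W₁ t), ?_⟩
      have e1 : rsO 𝔜 hY j (S W₀ a) = rsO 𝔜 hY hj (S W₁ (rsO 𝔛 hX (inf_le_right : W₁ ≤ W₀) a)) := by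
        rw [← nat (inf_le_right : W₁ ≤ W₀) a]
        exact (FBlow.IdealSh.map_comp_apply _ _ _).symm
      have e2 : rsO 𝔜 hY (k.trans i) (S U (rsO 𝔛 hX i₁ g)) =
          rsO 𝔜 hY hj (S W₁ (rsO 𝔛 hX ((inf_le_left : W₁ ≤ U).trans i₁) g)) := by
        rw [show rsO 𝔛 hX ((inf_le_left : W₁ ≤ U).trans i₁) g =
            rsO 𝔛 hX (inf_le_left : W₁ ≤ U) (rsO 𝔛 hX i₁ g) from (FBlow.IdealSh.map_comp_apply i₁ _ g).symm,
          ← nat (inf_le_left : W₁ ≤ U) _]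
        exact (FBlow.IdealSh.map_comp_apply _ _ _).symm
      rw [e1, show rsO 𝔛 hX (inf_le_right : W₁ ≤ W₀) a = t * rsO 𝔛 hX ((inf_le_left : W₁ ≤ U).trans i₁) g from ht,
        map_mul, map_mul, e2]
    exact hsub

end OpenImm

variable {hY hX hZ}

/-- An admissible blow-up composed with an isomorphism of the target. -/
theorem isAdmBlowUp_comp_iso {b : 𝔜 ⟶ 𝔛} {J : FBlow.IdealSh (𝔛.Osh hX)} (hb : FBlow.IsAdmBlowUp b hY hX J)
    (e : 𝔛 ≅ ℨ) {J' : FBlow.IdealSh (ℨ.Osh hZ)} (hJ : FBlow.idealMap e.hom hX hZ J' = J) :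
    FBlow.IsAdmBlowUp (b ≫ e.hom) hY hZ J' := by
  have adic : ∀ {𝔄 𝔅 ℭ : FSch.Sys.{u}} (g : 𝔄 ⟶ 𝔅) (e : 𝔅 ≅ ℭ), FSch.IsAdicHom g → FSch.IsAdicHom (g ≫ e.hom) :=
    fun g e hg n => by
      haveI : ∀ m, IsIso ((e.hom : FSch.Hom _ _).app m) := fun m => ⟨(e.inv : FSch.Hom _ _).app m,
        congrArg (fun t => FSch.Hom.app t m) e.hom_inv_id, congrArg (fun t => FSch.Hom.app t m) e.inv_hom_id⟩
      exact (hg n).paste_vert (IsPullback.of_vert_isIso ⟨((e.hom : FSch.Hom _ _).comm n).symm⟩)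
  refine ⟨adic b e hb.1, by rw [idealMap_comp hY hX hZ, hJ]; exact hb.2.1, fun 𝔗 hT g hg hinv => ?_⟩
  have hinv' : (FBlow.idealMap (g ≫ e.inv) hT hX J).IsInvertible := by
    rw [← hJ, ← idealMap_comp hT hX hZ, Category.assoc, e.inv_hom_id, Category.comp_id]
    exact hinv
  obtain ⟨k, hk, huniq⟩ := hb.2.2 𝔗 hT (g ≫ e.inv) (adic g e.symm hg) hinv'
  refine ⟨k, ?_, fun k' hk' => huniq k' ?_⟩
  · show k ≫ b ≫ e.hom = g
    rw [← Category.assoc, hk, Category.assoc, e.inv_hom_id, Category.comp_id]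
  · show k' ≫ b = g ≫ e.inv
    rw [← hk', Category.assoc, Category.assoc, e.hom_inv_id, Category.comp_id]

variable (hX) in
lemma restrict_isFormal (U : (𝔛.X 0).Opens) : (𝔛.restrictOpen hX U).IsFormal := (S13342.result 𝔛 hX U).1

variable (hX) in
instance restrictOpenι_open (U : (𝔛.X 0).Opens) (n : ℕ) :
    IsOpenImmersion ((𝔛.restrictOpenι hX U : FSch.Hom _ _).app n) :=
  inferInstanceAs (IsOpenImmersion (𝔛.lvU hX n U).ι)

variable (hX) in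
theorem isAdicHom_restrictOpenι (U : (𝔛.X 0).Opens) : FSch.IsAdicHom (𝔛.restrictOpenι hX U) := fun n => by
  have h1 := isPullback_morphismRestrict (𝔛.ι n) (𝔛.lvU hX (n + 1) U)
  refine (h1.of_iso (((𝔛.X n).isoOfEq (𝔛.lvU_succ hX n U))) (Iso.refl _) (Iso.refl _) (Iso.refl _) ?_ ?_
    (by simp) (by simp))
  · rw [Iso.refl_hom, Category.comp_id]
    show _ = _ ≫ (𝔛.ι n).resLE _ _ _
    rw [← cancel_mono (𝔛.lvU hX (n + 1) U).ι, Category.assoc, Scheme.Hom.resLE_comp_ι, morphismRestrict_ι,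
      ← Category.assoc, Scheme.isoOfEq_hom_ι]
  · rw [Iso.refl_hom, Category.comp_id]
    exact (Scheme.isoOfEq_hom_ι _ _).symm

/-- An admissible blow-up restricts to an admissible blow-up of an open subsystem. -/
theorem isAdmBlowUp_restrict {b : 𝔜 ⟶ 𝔛} {J : FBlow.IdealSh (𝔛.Osh hX)} (hb : FBlow.IsAdmBlowUp b hY hX J)
    (U : (𝔛.X 0).Opens) (hU : (𝔛.restrictOpen hX U).IsFormal)
    (hV : (𝔜.restrictOpen hY ((b : FSch.Hom 𝔜 𝔛).app 0 ⁻¹ᵁ U)).IsFormal) :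
    FBlow.IsAdmBlowUp (FSch.Hom.restrictOpen b hY hX U) hV hU (FBlow.idealMap (𝔛.restrictOpenι hX U) hU hX J) := by
  let bU := FSch.Hom.restrictOpen b hY hX U
  let ι := 𝔛.restrictOpenι hX U
  let ι' := 𝔜.restrictOpenι hY ((b : FSch.Hom 𝔜 𝔛).app 0 ⁻¹ᵁ U)
  have hsq : bU ≫ ι = ι' ≫ b := FSch.Hom.ext (funext fun n => Scheme.Hom.resLE_comp_ι _ _)
  have hιad := isAdicHom_restrictOpenι hX U
  refine ⟨fun n => ?_, ?_, fun 𝔗 hT g hg hinv => ?_⟩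
  · refine IsPullback.of_bot ?_ ((FSch.Hom.restrictOpen b hY hX U : FSch.Hom _ _).comm n).symm (hιad n)
    have h2 := (isAdicHom_restrictOpenι hY ((b : FSch.Hom 𝔜 𝔛).app 0 ⁻¹ᵁ U) n).paste_vert (hb.1 n)
    have e : ∀ m, (bU : FSch.Hom _ _).app m ≫ (ι : FSch.Hom _ _).app m = (ι' : FSch.Hom _ _).app m ≫ (b : FSch.Hom _ _).app m :=
      fun m => congrArg (fun t => FSch.Hom.app t m) hsq
    rw [e, e]
    exact h2
  · rw [← idealMap_comp hV hU hX, hsq, idealMap_comp hV hY hX]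
    exact isInvertible_idealMap_of_open hV hY ι' hb.2.1
  · have hgι : FSch.IsAdicHom (g ≫ ι) := fun n => (hg n).paste_vert (hιad n)
    obtain ⟨k, hk, huniq⟩ := hb.2.2 𝔗 hT (g ≫ ι) hgι (by rw [idealMap_comp hT hU hX]; exact hinv)
    have hkn : ∀ n, (k : FSch.Hom _ _).app n ≫ (b : FSch.Hom _ _).app n = (g : FSch.Hom _ _).app n ≫ (ι : FSch.Hom _ _).app n :=
      fun n => congrArg (fun t => FSch.Hom.app t n) hk
    have hrange : ∀ n, Set.range ((k : FSch.Hom _ _).app n) ⊆ Set.range ((ι' : FSch.Hom _ _).app n) := fun n => by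
      rintro _ ⟨z, rfl⟩
      show _ ∈ Set.range (𝔜.lvU hY n ((b : FSch.Hom 𝔜 𝔛).app 0 ⁻¹ᵁ U)).ι
      rw [Scheme.Opens.range_ι, ← FSch.Hom.lvU_preimage b hY hX n U]
      show (b : FSch.Hom _ _).app n ((k : FSch.Hom _ _).app n z) ∈ 𝔛.lvU hX n U
      rw [show (b : FSch.Hom _ _).app n ((k : FSch.Hom _ _).app n z) = (ι : FSch.Hom _ _).app n ((g : FSch.Hom _ _).app n z)
        from congr($(hkn n) z)]
      exact ((g : FSch.Hom _ _).app n z).2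
    let k' : ∀ n, 𝔗.X n ⟶ (𝔜.restrictOpen hY ((b : FSch.Hom 𝔜 𝔛).app 0 ⁻¹ᵁ U)).X n := fun n =>
      IsOpenImmersion.lift ((ι' : FSch.Hom _ _).app n) ((k : FSch.Hom _ _).app n) (hrange n)
    have hk' : ∀ n, k' n ≫ (ι' : FSch.Hom _ _).app n = (k : FSch.Hom _ _).app n := fun n =>
      IsOpenImmersion.lift_fac _ _ _
    refine ⟨⟨k', fun n => ?_⟩, FSch.Hom.ext (funext fun n => ?_), fun m hm => ?_⟩
    · rw [← cancel_mono ((ι' : FSch.Hom _ _).app (n + 1)), Category.assoc, Category.assoc, hk']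
      rw [← (ι' : FSch.Hom _ _).comm n, ← Category.assoc, hk']
      exact (k : FSch.Hom _ _).comm n
    · rw [← cancel_mono ((ι : FSch.Hom _ _).app n)]
      show (k' n ≫ (bU : FSch.Hom _ _).app n) ≫ _ = _
      rw [Category.assoc, show (bU : FSch.Hom _ _).app n ≫ (ι : FSch.Hom _ _).app n =
        (ι' : FSch.Hom _ _).app n ≫ (b : FSch.Hom _ _).app n from congrArg (fun t => FSch.Hom.app t n) hsq,
        ← Category.assoc, hk']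
      exact hkn n
    · have h1 := huniq (m ≫ ι') (by
        show (m ≫ ι') ≫ b = g ≫ ι
        rw [Category.assoc, ← hsq, ← Category.assoc, hm])
      refine FSch.Hom.ext (funext fun n => ?_)
      rw [← cancel_mono ((ι' : FSch.Hom _ _).app n)]
      show _ = k' n ≫ _
      rw [hk', ← h1]
      rfl

end Groth.Agent.FBlowLib
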