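import Groth.Agent.FBlowLib.Level
import Groth.Agent.FBlowLib.Functor

/-!
# Extension of a coherent open ideal from a quasi-compact open
-/

set_option autoImplicit false
set_option backward.isDefEq.respectTransparency false
set_option backward.isDefEq.respectTransparency.types false
set_option maxHeartbeats 1000000
universe u

open CategoryTheory CategoryTheory.Limits AlgebraicGeometry TopologicalSpace Opposite

noncomputable section

namespace Groth.Agent.FBlowLib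

open Groth.Agent.FCompl

variable {R : Type u} [CommRing R] {I : Ideal R} {𝔛 : FSch.Sys.{u}} {h : 𝔛.IsFormal}
  (p : 𝔛 ⟶ FSch.spf R I) (hR : AdicRing.IsBase R I) (hp : FSch.IsAdicHom p)

theorem exists_qc_nhd_closure
    (hqp : ∃ (ι : Type u) (V : ι → (𝔛.X 0).Opens), (⨆ i, V i) = ⊤ ∧ (∀ i, IsCompact (V i : Set (𝔛.X 0))) ∧
      ∀ i, Set.Finite {j : ι | V i ⊓ V j ≠ ⊥})
    (U : (𝔛.X 0).Opens) (hUc : IsCompact (U : Set (𝔛.X 0))) :
    ∃ Y : (𝔛.X 0).Opens, IsCompact (Y : Set (𝔛.X 0)) ∧ closure (U : Set (𝔛.X 0)) ⊆ Y := by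
  classical
  obtain ⟨ι, V, hV, hVc, hVf⟩ := hqp
  have hmem : ∀ x : 𝔛.X 0, ∃ i, x ∈ V i := fun x => Opens.mem_iSup.1 (hV.ge (Opens.mem_top x))
  obtain ⟨T, hT⟩ := hUc.elim_finite_subcover (fun i => (V i : Set (𝔛.X 0))) (fun i => (V i).2)
    (fun x _ => Set.mem_iUnion.2 (hmem x))
  have hS : (⋃ i ∈ T, {j : ι | V i ⊓ V j ≠ ⊥}).Finite := T.finite_toSet.biUnion fun i _ => hVf i
  refine ⟨⟨⋃ j ∈ hS.toFinset, (V j : Set (𝔛.X 0)), isOpen_biUnion fun j _ => (V j).2⟩,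
    hS.toFinset.isCompact_biUnion fun j _ => hVc j, fun x hx => ?_⟩
  obtain ⟨k, hk⟩ := hmem x
  obtain ⟨y, hyk, hyU⟩ := mem_closure_iff.1 hx (V k) (V k).2 hk
  obtain ⟨i, hi, hyi⟩ := Set.mem_iUnion₂.1 (hT hyU)
  refine Set.mem_iUnion₂.2 ⟨k, hS.mem_toFinset.2 (Set.mem_iUnion₂.2 ⟨i, hi, fun he => ?_⟩), hk⟩
  have h1 : y ∈ V i ⊓ V k := ⟨hyi, hyk⟩
  rw [he] at h1
  exact h1

include hR hp in
/-- A coherent open ideal on a quasi-compact open extends, by the unit ideal on opens disjoint from it. -/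
theorem exists_coh_extension [QuasiSeparatedSpace (𝔛.X 0)]
    [LocallyOfFiniteType ((p : FSch.Hom 𝔛 (FSch.spf R I)).app 0)]
    (hqp : ∃ (ι : Type u) (V : ι → (𝔛.X 0).Opens), (⨆ i, V i) = ⊤ ∧ (∀ i, IsCompact (V i : Set (𝔛.X 0))) ∧
      ∀ i, Set.Finite {j : ι | V i ⊓ V j ≠ ⊥})
    (U : (𝔛.X 0).Opens) (hUc : IsCompact (U : Set (𝔛.X 0))) (hU : (𝔛.restrictOpen h U).IsFormal)
    (JU : FBlow.IdealSh ((𝔛.restrictOpen h U).Osh hU)) (hJU : FBlow.IsCohOpen (𝔛.restrictOpen h U) hU JU) :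
    ∃ J : FBlow.IdealSh (𝔛.Osh h), FBlow.IsCohOpen 𝔛 h J ∧
      FBlow.idealMap (𝔛.restrictOpenι h U) hU h J = JU ∧
      ∀ V : (𝔛.X 0).Opens, V ⊓ U = ⊥ → J.sect V = ⊤ := by
  classical
  have hι := isAdicHom_restrictOpenι (hX := h) U
  let ι₀ : (𝔛.restrictOpen h U).X 0 ⟶ 𝔛.X 0 := (𝔛.restrictOpenι h U : FSch.Hom _ _).app 0
  haveI : IsOpenImmersion ι₀ := inferInstanceAs (IsOpenImmersion (𝔛.lvU h 0 U).ι)
  have hcpt0 : IsCompact (𝔛.lvU h 0 U : Set (𝔛.X 0)) := by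
    rw [show (𝔛.lvU h 0 U : Set (𝔛.X 0)) = (U : Set (𝔛.X 0)) from Set.ext fun z => mem_lvU_zero h U z]
    exact hUc
  haveI : CompactSpace ((𝔛.restrictOpen h U).X 0) := isCompact_iff_compactSpace.1 hcpt0
  haveI : QuasiSeparatedSpace ((𝔛.restrictOpen h U).X 0) :=
    QuasiSeparatedSpace.of_isOpenEmbedding (f := ι₀) ι₀.isOpenEmbedding
  obtain ⟨N, A, hAft, hA⟩ := exists_global_level (h := hU) (𝔛.restrictOpenι h U ≫ p) hR (isAdicHom_comp hι hp) hJU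
  obtain ⟨Y, hYc, hUY⟩ := exists_qc_nhd_closure hqp U hUc
  let e : 𝔛.X N ≃ₜ 𝔛.X 0 := TopCat.homeoOfIso (asIso (𝔛.gInv h N))
  have he : ∀ O : (𝔛.X 0).Opens, (𝔛.lvU h N O : Set (𝔛.X N)) = e ⁻¹' (O : Set (𝔛.X 0)) := fun O => rfl
  haveI : QuasiSeparatedSpace (𝔛.X N) := QuasiSeparatedSpace.of_isOpenEmbedding (f := e) e.isOpenEmbedding
  obtain ⟨𝒜, hFT, hcomap, hsupp⟩ := exists_ft_extension_top (𝔛.lvU h N U) (𝔛.lvU h N Y)
    (by rw [he]; exact e.isCompact_preimage.2 hUc) (by rw [he]; exact e.isCompact_preimage.2 hYc)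
    (by rw [he, he, ← e.preimage_closure]; exact Set.preimage_mono hUY)
    (fun O hO => by
      let O₀ : (𝔛.X 0).Opens := ⟨e.symm ⁻¹' (O : Set (𝔛.X N)), O.2.preimage e.symm.continuous⟩
      have h1 : IsCompact (O₀ : Set (𝔛.X 0)) := isCompact_of_le p hR hYc O₀ fun x hx => by
        have h2 : e (e.symm x) ∈ (Y : Set (𝔛.X 0)) := hO hx
        rwa [e.apply_symm_apply] at h2
      exact e.symm.isCompact_preimage.1 h1)
    A hAft
  refine ⟨FBlow.ofLevel 𝔛 h N 𝒜, fun x => ⟨⊤, trivial, N, 𝒜, hFT, fun V _ => rfl⟩, ?_, fun V hV => ?_⟩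
  · have key : ∀ V, (FBlow.idealMap (𝔛.restrictOpenι h U) hU h (FBlow.ofLevel 𝔛 h N 𝒜)).sect V = JU.sect V := by
      intro V
      refine sect_ext_affine (U := ⊤) (fun W _ hW => ?_) V le_top
      rw [hA W, idealMap_sect_eq p hR hp (𝔛.restrictOpenι h U) hι (U := ι₀ ''ᵁ W)
        (hW.image_of_isOpenImmersion ι₀) (fun V _ => rfl) (V := W) (fun w hw => ⟨w, hw, rfl⟩)]
      exact congrArg (fun 𝒜' => (FBlow.ofLevel (𝔛.restrictOpen h U) hU N 𝒜').sect W) hcomap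
    exact le_antisymm' (fun V => (key V).le) (fun V => (key V).ge)
  · refine eq_top_iff.2 fun s _ => (FBlow.ofLevel 𝔛 h N 𝒜).mem_of_local fun x hx => ?_
    obtain ⟨W, hW, hxW, hWV⟩ := FCompl.exists_affine_le (𝔛 := 𝔛) (U := V) hx
    refine ⟨W, hWV, hxW, ?_⟩
    rw [sect_ofLevel_affine N 𝒜 hW, ideal_eq_top_of_disjoint 𝒜 _ fun z hz => hsupp z fun hzc => ?_]
    · exact trivial
    rw [he, ← e.preimage_closure] at hzc
    obtain ⟨y, hyW, hyU⟩ := mem_closure_iff.1 hzc W W.2 hz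
    have h1 : y ∈ V ⊓ U := ⟨hWV hyW, hyU⟩
    rw [hV] at h1
    exact h1

end Groth.Agent.FBlowLib
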