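import Groth.Agent.FBlowLib.GenLocus

/-!
# Products of ideal sheaves
-/

set_option autoImplicit false
set_option linter.style.haveILetI false
set_option backward.isDefEq.respectTransparency false
set_option backward.isDefEq.respectTransparency.types false
set_option maxHeartbeats 400000
universe u

open CategoryTheory CategoryTheory.Limits AlgebraicGeometry TopologicalSpace Opposite

noncomputable section

namespace Groth.Agent.FBlowLib

open Groth.Agent.FCompl Groth.Agent.BlowChartLib FBlow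

section Sheaf

variable {T T' : TopCat.{u}} {O : Sheaf (Opens.grothendieckTopology T) CommRingCat.{u}}
  {O' : Sheaf (Opens.grothendieckTopology T') CommRingCat.{u}}

/-- Restriction as a map of rings. -/
abbrev rs (O : Sheaf (Opens.grothendieckTopology T) CommRingCat.{u}) {U V : Opens T} (i : V ≤ U) :
    O.obj.obj (op U) →+* O.obj.obj (op V) := (O.obj.map (homOfLE i).op).hom

lemma rs_comp (O : Sheaf (Opens.grothendieckTopology T) CommRingCat.{u}) {U V W : Opens T} (i : V ≤ U) (j : W ≤ V)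
    (s : O.obj.obj (op U)) : rs O j (rs O i s) = rs O (j.trans i) s := IdealSh.map_comp_apply i j s

lemma mul_mem_mul {J K : IdealSh O} {W : Opens T} {a b : O.obj.obj (op W)} (ha : a ∈ J.sect W) (hb : b ∈ K.sect W) :
    a * b ∈ (IdealSh.mul J K).sect W := IdealSh.subset_gen _ W ⟨a, ha, b, hb, rfl⟩

theorem mul_le {J K L : IdealSh O}
    (hL : ∀ (W : Opens T), ∀ a ∈ J.sect W, ∀ b ∈ K.sect W, a * b ∈ L.sect W) : IdealSh.mul J K ≤ L :=
  IdealSh.gen_le fun W => by rintro _ ⟨a, ha, b, hb, rfl⟩; exact hL W a ha b hb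

theorem mul_comm' (J K : IdealSh O) : IdealSh.mul J K = IdealSh.mul K J :=
  le_antisymm' (mul_le fun W a ha b hb => mul_comm b a ▸ mul_mem_mul hb ha)
    (mul_le fun W a ha b hb => mul_comm b a ▸ mul_mem_mul hb ha)

theorem map_mul' (g : T' ⟶ T) (φ : O ⟶ (TopCat.Sheaf.pushforward CommRingCat.{u} g).obj O') (J K : IdealSh O) :
    IdealSh.map g φ (IdealSh.mul J K) = IdealSh.mul (IdealSh.map g φ J) (IdealSh.map g φ K) := by
  refine le_antisymm' (map_le_of_le_comapSh (mul_le fun W a ha b hb => ?_)) (mul_le fun W s hs t ht => ?_)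
  · show (φ.hom.app (op W)).hom (a * b) ∈
      (IdealSh.mul (IdealSh.map g φ J) (IdealSh.map g φ K)).sect ((Opens.map g).obj W)
    rw [map_mul]
    have h1 := IdealSh.image_mem_map g φ J ha (le_refl ((Opens.map g).obj W))
    have h2 := IdealSh.image_mem_map g φ K hb (le_refl ((Opens.map g).obj W))
    rw [IdealSh.map_id_apply] at h1 h2
    exact mul_mem_mul h1 h2
  · refine (IdealSh.map g φ (IdealSh.mul J K)).mem_of_local fun x hx => ?_
    obtain ⟨V₁, i₁, hx₁, h₁⟩ := hs x hx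
    obtain ⟨V₂, i₂, hx₂, h₂⟩ := ht x hx
    let V := V₁ ⊓ V₂
    refine ⟨V, inf_le_left.trans i₁, ⟨hx₁, hx₂⟩, ?_⟩
    have h₁' := IdealSh.map_span_seed (inf_le_left : V ≤ V₁) h₁
    have h₂' := IdealSh.map_span_seed (inf_le_right : V ≤ V₂) h₂
    rw [IdealSh.map_comp_apply] at h₁' h₂'
    have h3 := Ideal.mul_mem_mul h₁' h₂'
    rw [Ideal.span_mul_span'] at h3
    have key : rs O' (inf_le_left.trans i₁) (s * t) ∈ (IdealSh.map g φ (IdealSh.mul J K)).sect V := by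
      rw [map_mul]
      refine (Ideal.span_le.2 ?_) h3
      rintro _ ⟨_, ⟨W₁, j₁, _, ⟨U₁, k₁, a, ha, rfl⟩, rfl⟩, _, ⟨W₂, j₂, _, ⟨U₂, k₂, b, hb, rfl⟩, rfl⟩, rfl⟩
      have hab := mul_mem_mul (J.map_mem (inf_le_left : U₁ ⊓ U₂ ≤ U₁) ha) (K.map_mem (inf_le_right : U₁ ⊓ U₂ ≤ U₂) hb)
      have j : V ≤ (Opens.map g).obj (U₁ ⊓ U₂) := fun z hz => ⟨(j₁.trans k₁) hz, (j₂.trans k₂) hz⟩
      have h4 := IdealSh.image_mem_map g φ _ hab j
      refine Eq.mp (congrArg (· ∈ _) ?_) h4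
      show rs O' j ((φ.hom.app (op (U₁ ⊓ U₂))).hom (rs O inf_le_left a * rs O inf_le_right b)) =
        rs O' j₁ (rs O' k₁ ((φ.hom.app (op U₁)).hom a)) * rs O' j₂ (rs O' k₂ ((φ.hom.app (op U₂)).hom b))
      rw [map_mul, map_mul, rs_comp, rs_comp,
        show (φ.hom.app (op (U₁ ⊓ U₂))).hom (rs O inf_le_left a) =
          rs O' (show (Opens.map g).obj (U₁ ⊓ U₂) ≤ (Opens.map g).obj U₁ from fun z hz => hz.1)
            ((φ.hom.app (op U₁)).hom a) from ConcreteCategory.congr_hom (φ.hom.naturality (homOfLE _).op) a,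
        show (φ.hom.app (op (U₁ ⊓ U₂))).hom (rs O inf_le_right b) =
          rs O' (show (Opens.map g).obj (U₁ ⊓ U₂) ≤ (Opens.map g).obj U₂ from fun z hz => hz.2)
            ((φ.hom.app (op U₂)).hom b) from ConcreteCategory.congr_hom (φ.hom.naturality (homOfLE _).op) b,
        rs_comp, rs_comp]
    exact key

theorem exists_span_seed_of_mem_mul {J K : IdealSh O} {U : Opens T} {s : O.obj.obj (op U)}
    (hs : s ∈ (IdealSh.mul J K).sect U) {x : T} (hx : x ∈ U) :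
    ∃ (W : Opens T) (i : W ≤ U), x ∈ W ∧
      rs O i s ∈ Ideal.span {c | ∃ a ∈ J.sect W, ∃ b ∈ K.sect W, c = a * b} := by
  obtain ⟨W, i, hxW, hW⟩ := hs x hx
  refine ⟨W, i, hxW, Ideal.span_mono ?_ hW⟩
  rintro _ ⟨W', j, _, ⟨a, ha, b, hb, rfl⟩, rfl⟩
  exact ⟨_, J.map_mem j ha, _, K.map_mem j hb, map_mul _ _ _⟩

theorem isInvertible_mul {J K : IdealSh O} (hJ : J.IsInvertible) (hK : K.IsInvertible) :
    (IdealSh.mul J K).IsInvertible := by
  refine isInvertible_of_local _ fun x => ?_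
  obtain ⟨U₁, hx₁, a, ha, h₁⟩ := hJ x
  obtain ⟨U₂, hx₂, b, hb, h₂⟩ := hK x
  let U := U₁ ⊓ U₂
  refine ⟨U, ⟨hx₁, hx₂⟩, rs O inf_le_left a * rs O inf_le_right b,
    mul_mem_mul (J.map_mem inf_le_left ha) (K.map_mem inf_le_right hb),
    fun V i y hy => ⟨V, le_rfl, hy, fun t ht => ?_⟩, fun V i s hs y hy => ?_⟩
  · refine (h₁ V (i.trans inf_le_left)).1 t ((h₂ V (i.trans inf_le_right)).1 _ (Eq.trans ?_ ht))
    show t * rs O (i.trans inf_le_left) a * rs O (i.trans inf_le_right) b = t * rs O (le_rfl.trans i) _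
    rw [map_mul, rs_comp, rs_comp, mul_assoc]
  · obtain ⟨W, k, hyW, hW⟩ := exists_span_seed_of_mem_mul hs hy
    refine ⟨W, k, hyW, ?_⟩
    suffices hmem : rs O k s ∈ Ideal.span {rs O (k.trans i) (rs O inf_le_left a * rs O inf_le_right b)} by
      obtain ⟨t, ht⟩ := Ideal.mem_span_singleton'.1 hmem
      exact ⟨t, ht.symm⟩
    refine (Ideal.span_le.2 ?_) hW
    rintro _ ⟨c, hc, d, hd, rfl⟩
    obtain ⟨t₁, rfl⟩ := (h₁ W ((k.trans i).trans inf_le_left)).2 c hc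
    obtain ⟨t₂, rfl⟩ := (h₂ W ((k.trans i).trans inf_le_right)).2 d hd
    refine Ideal.mem_span_singleton'.2 ⟨t₁ * t₂, ?_⟩
    rw [map_mul, rs_comp, rs_comp]
    exact (mul_mul_mul_comm t₁ _ t₂ _).symm

end Sheaf

variable {𝔜 : FSch.Sys.{u}} {hY : 𝔜.IsFormal}

theorem isInvertible_of_mul {J K : IdealSh (𝔜.Osh hY)} (hJK : (IdealSh.mul J K).IsInvertible) : J.IsInvertible := by
  classical
  refine isInvertible_of_local _ fun x => ?_
  obtain ⟨U, hxU, g, hg, hU⟩ := hJK x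
  obtain ⟨W, i, hxW, hW⟩ := exists_span_seed_of_mem_mul hg hxU
  obtain ⟨a, b, ha, hb, c, hc, W', k, hxW', hu⟩ : ∃ (a b : OR 𝔜 hY W) (_ : a ∈ J.sect W) (_ : b ∈ K.sect W)
      (c : OR 𝔜 hY W) (_ : a * b = c * rsO 𝔜 hY i g) (W' : (𝔜.X 0).Opens) (k : W' ≤ W),
      x ∈ W' ∧ IsUnit (rsO 𝔜 hY k c) := by
    obtain ⟨f, hf, hsum⟩ := Submodule.mem_span_iff_exists_finset_subset.1 hW
    obtain ⟨S, hS, -, hsum⟩ : ∃ (S : Finset (OR 𝔜 hY W)) (_ : ∀ m ∈ S, ∃ a ∈ J.sect W, ∃ b ∈ K.sect W, m = a * b)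
        (_ : True), rsO 𝔜 hY i g = ∑ m ∈ S, f m * m :=
      ⟨hf, fun m hm => hsum.1 hm, trivial, hsum.2.2.symm⟩
    choose! a ha b hb hab using hS
    have hc : ∀ m ∈ S, ∃ c, f m * a m * b m = c * rsO 𝔜 hY i g := fun m hm =>
      (hU W i).2 _ (mul_mem_mul (Ideal.mul_mem_left _ _ (ha m hm)) (hb m hm))
    choose! c hc using hc
    have hone : ∑ m ∈ S, c m = 1 := by
      refine sub_eq_zero.1 ((hU W i).1 _ ?_)
      show (∑ m ∈ S, c m - 1) * rsO 𝔜 hY i g = 0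
      rw [sub_mul, Finset.sum_mul, one_mul, sub_eq_zero]
      refine Eq.trans (Finset.sum_congr rfl fun m hm => ?_) hsum.symm
      rw [← hc m hm, mul_assoc, ← hab m hm]
    obtain ⟨m, hm, hxm⟩ : ∃ m ∈ S, x ∈ (𝔜.X 0).basicOpen (pr 𝔜 hY W 0 (c m)) := by
      by_contra hn
      push Not at hn
      have hx0 : x ∈ 𝔜.lvU hY 0 W := (mem_lvU_zero hY W x).2 hxW
      have h1 : ∀ m ∈ S, (𝔜.X 0).presheaf.germ _ x hx0 (pr 𝔜 hY W 0 (c m)) ∈
          IsLocalRing.maximalIdeal ((𝔜.X 0).presheaf.stalk x) := fun m hm => by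
        rw [IsLocalRing.mem_maximalIdeal, mem_nonunits_iff]
        exact fun hu => hn m hm (((𝔜.X 0).mem_basicOpen _ _ hx0).2 hu)
      refine (IsLocalRing.maximalIdeal.isMaximal ((𝔜.X 0).presheaf.stalk x)).ne_top
        ((Ideal.eq_top_iff_one _).2 ?_)
      rw [← map_one ((𝔜.X 0).presheaf.germ _ x hx0).hom, ← map_one (pr 𝔜 hY W 0), ← hone, map_sum, map_sum]
      exact Ideal.sum_mem _ h1
    obtain ⟨W', k, hxW', hu⟩ := exists_isUnit_rsO hY hxm
    exact ⟨f m * a m, b m, Ideal.mul_mem_left _ _ (ha m hm), hb m hm, c m, hc m hm, W', k, hxW', hu⟩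
  refine ⟨W', hxW', rsO 𝔜 hY k a, J.map_mem k ha, fun V j y hy => ⟨V, le_rfl, hy, fun t ht => ?_⟩,
    fun V j s hs y hy => ⟨V, le_rfl, hy, ?_⟩⟩
  all_goals
    obtain ⟨d, hd⟩ := (hu.map (rsO 𝔜 hY j)).exists_left_inv
    have hcg : rsO 𝔜 hY j (rsO 𝔜 hY k a) * rsO 𝔜 hY j (rsO 𝔜 hY k b) =
        rsO 𝔜 hY j (rsO 𝔜 hY k c) * rsO 𝔜 hY ((j.trans k).trans i) g := by
      rw [← map_mul, ← map_mul, hc, map_mul, map_mul]
      refine congrArg (_ * ·) ?_
      exact (FBlow.IdealSh.map_comp_apply _ _ _).trans (FBlow.IdealSh.map_comp_apply _ _ _)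
  · have h1 : t * rsO 𝔜 hY ((j.trans k).trans i) g = 0 := by
      have ht' : t * rsO 𝔜 hY j (rsO 𝔜 hY k a) = 0 := ht
      calc t * rsO 𝔜 hY ((j.trans k).trans i) g
          = d * (t * (rsO 𝔜 hY j (rsO 𝔜 hY k c) * rsO 𝔜 hY ((j.trans k).trans i) g)) := by
            linear_combination (-(t * rsO 𝔜 hY ((j.trans k).trans i) g)) * hd
        _ = 0 := by rw [← hcg, ← mul_assoc t, ht', zero_mul, mul_zero]
    exact (hU V ((j.trans k).trans i)).1 t h1
  · have hb' : rsO 𝔜 hY j (rsO 𝔜 hY k b) ∈ K.sect V := K.map_mem j (K.map_mem k hb)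
    obtain ⟨e, he⟩ := (hU V ((j.trans k).trans i)).2 _ (mul_mem_mul hs hb')
    refine ⟨e * d, ?_⟩
    show (𝔜.Osh hY).obj.map (homOfLE (le_refl V)).op s = e * d * rsO 𝔜 hY (le_rfl.trans j) (rsO 𝔜 hY k a)
    rw [FBlow.IdealSh.map_id_apply]
    have he' : s * rsO 𝔜 hY j (rsO 𝔜 hY k b) = e * rsO 𝔜 hY ((j.trans k).trans i) g := he
    refine sub_eq_zero.1 ((hU V ((j.trans k).trans i)).1 _ ?_)
    show (s - e * d * rsO 𝔜 hY j (rsO 𝔜 hY k a)) * rsO 𝔜 hY ((j.trans k).trans i) g = 0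
    calc (s - e * d * rsO 𝔜 hY j (rsO 𝔜 hY k a)) * rsO 𝔜 hY ((j.trans k).trans i) g
        = d * (rsO 𝔜 hY j (rsO 𝔜 hY k a) * (s * rsO 𝔜 hY j (rsO 𝔜 hY k b))) -
          e * d * rsO 𝔜 hY j (rsO 𝔜 hY k a) * rsO 𝔜 hY ((j.trans k).trans i) g := by
          linear_combination (-(d * s)) * hcg + (-(s * rsO 𝔜 hY ((j.trans k).trans i) g)) * hd
      _ = 0 := by rw [he']; ring

end Groth.Agent.FBlowLib
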