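import Groth.Agent.FBlowLib.Functor
import Groth.Agent.FBlowLib.ShMul
import Groth.Agent.S3859

/-!
# Base change of admissible blow-ups along open immersions; locality of invertibility
-/

set_option autoImplicit false
set_option linter.style.haveILetI false
set_option backward.isDefEq.respectTransparency false
set_option backward.isDefEq.respectTransparency.types false
set_option maxHeartbeats 1000000
universe u

open CategoryTheory CategoryTheory.Limits AlgebraicGeometry TopologicalSpace Opposite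

noncomputable section

namespace Groth.Agent.FBlowLib

open Groth.Agent.FCompl Groth.Agent.BlowChartLib

theorem idealMap_id {𝔛 : FSch.Sys.{u}} (h : 𝔛.IsFormal) (J : FBlow.IdealSh (𝔛.Osh h)) :
    FBlow.idealMap (𝟙 𝔛) h h J = J := by
  have e : ∀ (W : (𝔛.X 0).Opens) (a : OR 𝔛 h W),
      rsO 𝔛 h (show W ≤ (𝟙 𝔛 : FSch.Hom 𝔛 𝔛).app 0 ⁻¹ᵁ W from le_rfl)
        ((FSch.Hom.sharp (𝟙 𝔛) h h).hom.app (op W) a) = a := fun W a => osh_ext fun n => by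
    rw [pr_rsO]
    refine (congrArg _ (pr_sharp h h (𝟙 𝔛) W a n)).trans ?_
    refine (ConcreteCategory.congr_hom (Scheme.Hom.appLE_map _ _ _) (pr 𝔛 h W n a)).trans ?_
    have h1 : ((𝟙 𝔛 : FSch.Hom 𝔛 𝔛).app n) = 𝟙 (𝔛.X n) := rfl
    simp only [h1, Scheme.Hom.appLE, Scheme.Hom.id_app, Category.id_comp]
    exact FBlow.IdealSh.map_id_apply (O := (𝔛.X n).sheaf) le_rfl _
  refine le_antisymm' (map_le_of_le_comapSh fun W a ha => ?_) fun W a ha => ?_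
  · show (FSch.Hom.sharp (𝟙 𝔛) h h).hom.app (op W) a ∈ J.sect W
    have e' := e W a
    rw [show ∀ t, rsO 𝔛 h (show W ≤ (𝟙 𝔛 : FSch.Hom 𝔛 𝔛).app 0 ⁻¹ᵁ W from le_rfl) t = t from
      fun t => FBlow.IdealSh.map_id_apply _ t] at e'
    rw [e']
    exact ha
  · have h1 := FBlow.IdealSh.image_mem_map ((𝟙 𝔛 : FSch.Hom 𝔛 𝔛).app 0).base (FSch.Hom.sharp (𝟙 𝔛) h h) J ha
      (show W ≤ (𝟙 𝔛 : FSch.Hom 𝔛 𝔛).app 0 ⁻¹ᵁ W from le_rfl)
    exact (e W a) ▸ h1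

theorem isFormal_of_adic {𝔄 𝔅 : FSch.Sys.{u}} (hB : 𝔅.IsFormal) {f : 𝔄 ⟶ 𝔅} (hf : FSch.IsAdicHom f) :
    𝔄.IsFormal := fun n => by
  haveI := (hB n).1
  haveI : Surjective (𝔅.ι n) := ⟨(hB n).2⟩
  have h1 : IsClosedImmersion (𝔄.ι n) := MorphismProperty.of_isPullback (hf n).flip inferInstance
  have h2 : Surjective (𝔄.ι n) := MorphismProperty.of_isPullback (hf n).flip inferInstance
  exact ⟨h1, h2.surj⟩

section BaseChange

variable {𝔅 𝔘 𝔙 : FSch.Sys.{u}} (c : 𝔅 ⟶ 𝔘) (j : 𝔙 ⟶ 𝔘)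

theorem isAdicHom_pullbackSnd (hc : FSch.IsAdicHom c) : FSch.IsAdicHom (FSch.pullbackSnd c j) := fun n => by
  have h1 := IsPullback.of_hasPullback ((c : FSch.Hom _ _).app n) ((j : FSch.Hom _ _).app n)
  have h2 := IsPullback.of_hasPullback ((c : FSch.Hom _ _).app (n + 1)) ((j : FSch.Hom _ _).app (n + 1))
  have big := h1.flip.paste_vert (hc n).flip
  rw [(j : FSch.Hom _ _).comm n] at big
  refine (IsPullback.of_bot ?_ ?_ h2.flip).flip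
  · convert big using 1
    all_goals first | rfl | exact ((FSch.pullbackFst c j : FSch.Hom _ _).comm n).symm
  · exact (pullback.lift_snd _ _ _).symm

theorem isAdmBlowUp_baseChange [∀ n, IsOpenImmersion ((j : FSch.Hom 𝔙 𝔘).app n)] (hj : FSch.IsAdicHom j)
    {hB : 𝔅.IsFormal} {hU : 𝔘.IsFormal} (hV : 𝔙.IsFormal) {J : FBlow.IdealSh (𝔘.Osh hU)}
    (hc : FBlow.IsAdmBlowUp c hB hU J) (hT : (FSch.pullbackSys c j).IsFormal) :
    FBlow.IsAdmBlowUp (FSch.pullbackSnd c j) hT hV (FBlow.idealMap j hV hU J) := by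
  have w : FSch.pullbackFst c j ≫ c = FSch.pullbackSnd c j ≫ j := (S3859.result c j).w
  have hsnd := isAdicHom_pullbackSnd c j hc.1
  haveI : ∀ n, IsOpenImmersion ((FSch.pullbackFst c j : FSch.Hom _ _).app n) := fun n =>
    inferInstanceAs (IsOpenImmersion (pullback.fst ((c : FSch.Hom 𝔅 𝔘).app n) ((j : FSch.Hom 𝔙 𝔘).app n)))
  refine ⟨hsnd, ?_, fun 𝔜 hY g hg hinv => ?_⟩
  · rw [← idealMap_comp hT hV hU, ← w, idealMap_comp hT hB hU]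
    exact isInvertible_idealMap_of_open hT hB (FSch.pullbackFst c j) hc.2.1
  · obtain ⟨k, hk, hu⟩ := hc.2.2 𝔜 hY (g ≫ j) (fun n => (hg n).paste_vert (hj n))
      (by rw [idealMap_comp hY hV hU]; exact hinv)
    refine ⟨(S3859.result c j).lift k g hk, (S3859.result c j).lift_snd _ _ _, fun m hm => ?_⟩
    refine (S3859.result c j).hom_ext ?_ ?_
    · rw [(S3859.result c j).lift_fst]
      refine hu _ ?_
      show (m ≫ FSch.pullbackFst c j) ≫ c = g ≫ j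
      rw [Category.assoc, w, ← Category.assoc, hm]
    · rw [(S3859.result c j).lift_snd]
      exact hm

end BaseChange

section Descent

variable {𝔅 𝔛 : FSch.Sys.{u}} (hB : 𝔅.IsFormal) (hX : 𝔛.IsFormal) (m : 𝔅 ⟶ 𝔛)
  [∀ n, IsOpenImmersion ((m : FSch.Hom 𝔅 𝔛).app n)]

theorem mem_of_sharp_mem (L : FBlow.IdealSh (𝔛.Osh hX)) {W : (𝔛.X 0).Opens}
    (hW : ∀ x ∈ W, x ∈ Set.range ((m : FSch.Hom 𝔅 𝔛).app 0)) {s : OR 𝔛 hX W}
    (hs : (FSch.Hom.sharp m hB hX).hom.app (op W) s ∈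
      (FBlow.idealMap m hB hX L).sect ((m : FSch.Hom 𝔅 𝔛).app 0 ⁻¹ᵁ W)) : s ∈ L.sect W := by
  let m₀ := (m : FSch.Hom 𝔅 𝔛).app 0
  refine L.mem_of_local fun x hx => ?_
  obtain ⟨y, rfl⟩ := hW x hx
  obtain ⟨V, i, hyV, hV⟩ := hs y hx
  let V' := m₀ ''ᵁ V
  have i' : V' ≤ W := by
    rintro _ ⟨z, hz, rfl⟩
    exact i hz
  refine ⟨V', i', ⟨y, hyV, rfl⟩, ?_⟩
  have e : m₀ ⁻¹ᵁ V' = V := Scheme.Hom.preimage_image_eq m₀ V
  let T : OR 𝔛 hX V' →+* OR 𝔅 hB V := (rsO 𝔅 hB e.ge).comp ((FSch.Hom.sharp m hB hX).hom.app (op V')).hom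
  have hbij : Function.Bijective T := by
    have : ∀ (V₁ : (𝔅.X 0).Opens) (e' : m₀ ⁻¹ᵁ V' = V₁), Function.Bijective (rsO 𝔅 hB e'.ge) := by
      rintro _ rfl
      have e1 : ⇑(rsO 𝔅 hB (le_refl (m₀ ⁻¹ᵁ V'))) = id := funext fun t => FBlow.IdealSh.map_id_apply _ t
      rw [e1]
      exact Function.bijective_id
    exact (this V e).comp (sharp_bijective_of_open hB hX m V' (by rintro _ ⟨z, -, rfl⟩; exact ⟨z, rfl⟩))
  have hT : ∀ {W₀ : (𝔛.X 0).Opens} (k : V' ≤ W₀) (j : V ≤ m₀ ⁻¹ᵁ W₀) (a : OR 𝔛 hX W₀),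
      T (rsO 𝔛 hX k a) = rsO 𝔅 hB j ((FSch.Hom.sharp m hB hX).hom.app (op W₀) a) := fun k j a =>
    (congrArg (rsO 𝔅 hB e.ge) (ConcreteCategory.congr_hom
      ((FSch.Hom.sharp m hB hX).hom.naturality (homOfLE k).op) a)).trans (FBlow.IdealSh.map_comp_apply _ _ _)
  have h1 : rsO 𝔅 hB i ((FSch.Hom.sharp m hB hX).hom.app (op W) s) ∈ (L.sect V').map T := by
    refine (Ideal.span_le.2 ?_) hV
    rintro _ ⟨W', j', _, ⟨W₀, j₀, a, ha, rfl⟩, rfl⟩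
    have k : V' ≤ W₀ := by
      rintro _ ⟨z, hz, rfl⟩
      exact (j'.trans j₀) hz
    refine Eq.mp (congrArg (· ∈ _) ?_) (Ideal.mem_map_of_mem T (L.map_mem k ha))
    exact (hT k (j'.trans j₀) a).trans (FBlow.IdealSh.map_comp_apply j₀ j' _).symm
  rw [← hT i' i s, Ideal.mem_map_iff_of_surjective _ hbij.2] at h1
  obtain ⟨t, ht, hts⟩ := h1
  exact hbij.1 hts ▸ ht

end Descent

theorem isInvertible_of_cover {𝔛 : FSch.Sys.{u}} (hX : 𝔛.IsFormal) (L : FBlow.IdealSh (𝔛.Osh hX))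
    (hL : ∀ x : 𝔛.X 0, ∃ (𝔅 : FSch.Sys.{u}) (hB : 𝔅.IsFormal) (m : 𝔅 ⟶ 𝔛)
      (_ : ∀ n, IsOpenImmersion ((m : FSch.Hom 𝔅 𝔛).app n)),
      x ∈ Set.range ((m : FSch.Hom 𝔅 𝔛).app 0) ∧ (FBlow.idealMap m hB hX L).IsInvertible) :
    L.IsInvertible := by
  refine isInvertible_of_local _ fun x => ?_
  obtain ⟨𝔅, hB, m, hm, ⟨y, hyx⟩, hinv⟩ := hL x
  haveI := hm
  let m₀ := (m : FSch.Hom 𝔅 𝔛).app 0
  obtain ⟨U₀, hyU₀, g, hg, hU₀⟩ := hinv y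
  let W := m₀ ''ᵁ U₀
  have hW : ∀ z ∈ W, z ∈ Set.range m₀ := by rintro _ ⟨w, -, rfl⟩; exact ⟨w, rfl⟩
  have e : m₀ ⁻¹ᵁ W ≤ U₀ := (Scheme.Hom.preimage_image_eq m₀ U₀).le
  let S : ∀ V : (𝔛.X 0).Opens, OR 𝔛 hX V →+* OR 𝔅 hB (m₀ ⁻¹ᵁ V) := fun V =>
    ((FSch.Hom.sharp m hB hX).hom.app (op V)).hom
  obtain ⟨g', hg'⟩ := (sharp_bijective_of_open hB hX m W hW).2 (rsO 𝔅 hB e g)
  have hrs : ∀ {V : (𝔛.X 0).Opens} (i : V ≤ W),
      S V (rsO 𝔛 hX i g') = rsO 𝔅 hB ((m₀.preimage_mono i).trans e) g := fun i => by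
    refine (ConcreteCategory.congr_hom ((FSch.Hom.sharp m hB hX).hom.naturality (homOfLE i).op) g').trans ?_
    exact (congrArg (rsO 𝔅 hB (m₀.preimage_mono i)) hg').trans (FBlow.IdealSh.map_comp_apply _ _ _)
  refine ⟨W, ⟨y, hyU₀, hyx⟩, g', mem_of_sharp_mem hB hX m L hW ?_,
    fun V i z hz => ⟨V, le_rfl, hz, fun t ht => ?_⟩, fun V i s hs z hz => ⟨V, le_rfl, hz, ?_⟩⟩
  · rw [hg']
    exact FBlow.IdealSh.map_mem _ e hg
  · refine (sharp_bijective_of_open hB hX m V fun w hw => hW w (i hw)).1 (Eq.trans ?_ (map_zero (S V)).symm)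
    refine (hU₀ _ ((m₀.preimage_mono i).trans e)).1 _ ?_
    have h1 := congrArg (S V) (show t * rsO 𝔛 hX i g' = 0 from ht)
    rw [map_mul, map_zero, hrs] at h1
    exact h1
  · have h1 := FBlow.IdealSh.image_mem_map m₀.base (FSch.Hom.sharp m hB hX) L hs (le_refl (m₀ ⁻¹ᵁ V))
    rw [FBlow.IdealSh.map_id_apply] at h1
    obtain ⟨t, ht⟩ := (hU₀ _ ((m₀.preimage_mono i).trans e)).2 _ h1
    have hb := sharp_bijective_of_open hB hX m V fun w hw => hW w (i hw)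
    obtain ⟨t', rfl⟩ := hb.2 t
    refine ⟨t', ?_⟩
    rw [FBlow.IdealSh.map_id_apply]
    refine hb.1 ?_
    show S V s = S V (t' * rsO 𝔛 hX (le_rfl.trans i) g')
    rw [map_mul, hrs]
    exact ht

end Groth.Agent.FBlowLib
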