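import Groth.Agent.FBlowLib.LocalModel
import Groth.Agent.FBlowLib.CohPull
import Groth.Agent.FBlowLib.OpenBase
import Groth.Agent.BlowCompLib.Flat

/-!
# Flat base change of admissible blow-ups
-/

set_option autoImplicit false
set_option linter.style.haveILetI false
set_option backward.isDefEq.respectTransparency false
set_option backward.isDefEq.respectTransparency.types false
set_option maxHeartbeats 1000000
universe u

open CategoryTheory CategoryTheory.Limits AlgebraicGeometry TopologicalSpace Opposite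

noncomputable section

namespace Groth.Agent.FBlowLib

open Groth.Agent.FCompl Groth.Agent.BlowChartLib

theorem aSh_SpecMap {A A' : Type u} [CommRing A] [CommRing A'] (g : A →+* A') {𝔜 : FSch.Sys.{u}} (hY : 𝔜.IsFormal)
    (y : ∀ n, 𝔜.X n ⟶ Spec (CommRingCat.of A')) (hy : ∀ n, 𝔜.ι n ≫ y (n + 1) = y n)
    (hy' : ∀ n, 𝔜.ι n ≫ (y (n + 1) ≫ Spec.map (CommRingCat.ofHom g)) = y n ≫ Spec.map (CommRingCat.ofHom g))
    (𝔞 : Ideal A) :
    aSh hY (fun n => y n ≫ Spec.map (CommRingCat.ofHom g)) hy' 𝔞 = aSh hY y hy (𝔞.map g) := by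
  have e : ∀ V, img hY (fun n => y n ≫ Spec.map (CommRingCat.ofHom g)) hy' V = (img hY y hy V).comp g := fun V =>
    RingHom.ext fun a => osh_ext fun n => by
      rw [pr_img, RingHom.comp_apply, pr_img, secHom_comp_SpecMap]
      rfl
  refine le_antisymm' (FBlow.IdealSh.gen_le ?_) (FBlow.IdealSh.gen_le ?_)
  · rintro V _ ⟨a, ha, rfl⟩
    rw [e]
    exact map_img_le_aSh hY y hy _ V (Ideal.mem_map_of_mem _ (Ideal.mem_map_of_mem g ha))
  · rintro V _ ⟨a, ha, rfl⟩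
    have h1 := map_img_le_aSh hY (fun n => y n ≫ Spec.map (CommRingCat.ofHom g)) hy' 𝔞 V
    rw [e, ← Ideal.map_map] at h1
    exact h1 (Ideal.mem_map_of_mem _ ha)

/-- The level of a completed blow-up as a fibre product over a level of the affine base. -/
theorem exists_level_iso {A : Type u} [CommRing A] {K : Ideal A} {𝔘 : FSch.Sys.{u}} (e : 𝔘 ≅ FSch.spf A K)
    {v : ∀ m, 𝔘.X m ⟶ Spec (CommRingCat.of A)}
    (he : ∀ m, (e.hom : FSch.Hom _ _).app m ≫ FSch.spfToSpec A K m = v m) {P : Scheme.{u}}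
    (q : P ⟶ Spec (CommRingCat.of A)) (m : ℕ) :
    ∃ c : (FSch.completionAlong P ((FSch.idealSpec A K).comap q)).X m ⟶ 𝔘.X m,
      IsPullback (FSch.completionToX P ((FSch.idealSpec A K).comap q) m) c q (v m) := by
  obtain ⟨η, hη⟩ := exists_spfIso K
  let t := e ≪≫ η
  haveI : IsIso ((t.hom : FSch.Hom _ _).app m) := ⟨(t.inv : FSch.Hom _ _).app m,
    congrArg (fun x => FSch.Hom.app x m) t.hom_inv_id, congrArg (fun x => FSch.Hom.app x m) t.inv_hom_id⟩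
  have ht : (t.hom : FSch.Hom _ _).app m ≫ FSch.completionToX (Spec (CommRingCat.of A)) (FSch.idealSpec A K) m = v m := by
    show ((e.hom : FSch.Hom _ _).app m ≫ (η.hom : FSch.Hom _ _).app m) ≫ _ = _
    rw [Category.assoc, hη, he]
  have hpc : FSch.PowCompat q ((FSch.idealSpec A K).comap q) (FSch.idealSpec A K) :=
    fun k => (S3857.comap_pow (FSch.idealSpec A K) q (k + 1)).le
  refine ⟨(FSch.completionMap q _ _ hpc : FSch.Hom _ _).app m ≫ inv ((t.hom : FSch.Hom _ _).app m), ?_⟩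
  refine (S3875.h9_completion_square q (FSch.idealSpec A K) hpc m).of_iso (Iso.refl _) (Iso.refl _)
    (asIso ((t.hom : FSch.Hom _ _).app m)).symm (Iso.refl _) (by simp) (by simp) (by simp) ?_
  simp only [Iso.symm_hom, asIso_inv, Iso.refl_hom, Category.comp_id, ← ht, IsIso.inv_hom_id_assoc]

section Res

variable {𝔜 𝔛 : FSch.Sys.{u}} {hY : 𝔜.IsFormal} {h : 𝔛.IsFormal} (φ : 𝔜 ⟶ 𝔛) {U : (𝔛.X 0).Opens}
  {U' : (𝔜.X 0).Opens} (i : U' ≤ (φ : FSch.Hom 𝔜 𝔛).app 0 ⁻¹ᵁ U)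

include i in
lemma lvU_le_res (m : ℕ) : 𝔜.lvU hY m U' ≤ (φ : FSch.Hom 𝔜 𝔛).app m ⁻¹ᵁ 𝔛.lvU h m U :=
  (FCompl.lvU_mono 𝔜 hY i m).trans (FSch.Hom.lvU_preimage φ hY h m U).ge

variable (hY h) in
/-- The map of sections. -/
def secMap : OR 𝔛 h U →+* OR 𝔜 hY U' := (rsO 𝔜 hY i).comp ((FSch.Hom.sharp φ hY h).hom.app (op U)).hom

lemma pr_secMap (m : ℕ) (a : OR 𝔛 h U) :
    pr 𝔜 hY U' m (secMap hY h φ i a) =
      ((φ : FSch.Hom 𝔜 𝔛).app m).appLE _ _ (lvU_le_res φ i m) (pr 𝔛 h U m a) := by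
  refine (pr_rsO 𝔜 hY i m _).trans ((congrArg _ (pr_sharp hY h φ U a m)).trans ?_)
  exact ConcreteCategory.congr_hom (Scheme.Hom.appLE_map _ _ _) _

lemma lvSpec_secMap (hU : IsAffineOpen U) (hU' : IsAffineOpen U') (m : ℕ) :
    lvSpec hY hU' m ≫ Spec.map (CommRingCat.ofHom (secMap hY h φ i)) =
      ((φ : FSch.Hom 𝔜 𝔛).app m).resLE _ _ (lvU_le_res φ i m) ≫ lvSpec h hU m := by
  have h2 : CommRingCat.ofHom (secMap hY h φ i) ≫ CommRingCat.ofHom (pr 𝔜 hY U' m) =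
      CommRingCat.ofHom (pr 𝔛 h U m) ≫ ((φ : FSch.Hom 𝔜 𝔛).app m).appLE _ _ (lvU_le_res φ i m) := by
    refine CommRingCat.hom_ext (RingHom.ext fun a => ?_)
    simp only [CommRingCat.hom_comp, CommRingCat.hom_ofHom, RingHom.comp_apply]
    exact pr_secMap (hY := hY) (h := h) φ i m a
  have h1 := resLE_isoSpec ((φ : FSch.Hom 𝔜 𝔛).app m) (affine_lvU (h := hY) hU' m) (affine_lvU (h := h) hU m)
    (lvU_le_res φ i m)
  have h3 : lvSpec hY hU' m = (affine_lvU (h := hY) hU' m).isoSpec.hom ≫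
      Spec.map (CommRingCat.ofHom (pr 𝔜 hY U' m)) := rfl
  have h4 : lvSpec h hU m = (affine_lvU (h := h) hU m).isoSpec.hom ≫
      Spec.map (CommRingCat.ofHom (pr 𝔛 h U m)) := rfl
  rw [h3, h4, Category.assoc, ← Category.assoc (Scheme.Hom.resLE _ _ _ _), h1, Category.assoc, ← Spec.map_comp, h2,
    Spec.map_comp]

lemma secMap_ρB {R : Type u} [CommRing R] {I : Ideal R} (p : 𝔛 ⟶ FSch.spf R I) :
    (secMap hY h φ i).comp (ρB h p U) = ρB hY (φ ≫ p) U' := RingHom.ext fun r => by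
  refine (congrArg (rsO 𝔜 hY i) (sharp_img hY (yB (φ ≫ p)) (yB_comm (φ ≫ p)) h (yB p) (yB_comm p) φ
    (fun m => ?_) U r)).trans (rsO_img hY _ _ i r)
  show (φ : FSch.Hom 𝔜 𝔛).app m ≫ _ = ((φ : FSch.Hom 𝔜 𝔛).app m ≫ _) ≫ _
  rw [Category.assoc]

end Res

variable {R : Type u} [CommRing R] {I : Ideal R} {𝔛 : FSch.Sys.{u}} {h : 𝔛.IsFormal}
  (p : 𝔛 ⟶ FSch.spf R I) (hR : AdicRing.IsBase R I) (hp : FSch.IsAdicHom p)
  (hfp : ∀ n, LocallyOfFinitePresentation ((p : FSch.Hom 𝔛 (FSch.spf R I)).app n))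
  (htf : ∀ (V : (𝔛.X 0).Opens) (s : (𝔛.Osh h).obj.obj (Opposite.op V)),
    (∀ a ∈ (FBlow.IdealSh.ker (𝔛.OshProj h 0)).sect V, a * s = 0) → s = 0)
  {𝔜 : FSch.Sys.{u}} {hY : 𝔜.IsFormal} (φ : 𝔜 ⟶ 𝔛) (hφ : FSch.IsAdicHom φ)
  (hYfp : ∀ n, LocallyOfFinitePresentation ((φ ≫ p : FSch.Hom 𝔜 (FSch.spf R I)).app n))
  (hYtf : ∀ (V : (𝔜.X 0).Opens) (s : (𝔜.Osh hY).obj.obj (Opposite.op V)),
    (∀ a ∈ (FBlow.IdealSh.ker (𝔜.OshProj hY 0)).sect V, a * s = 0) → s = 0)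
  (hflat : ∀ (U : (𝔛.X 0).affineOpens) (U' : (𝔜.X 0).affineOpens)
    (e : U'.1 ≤ ((φ : FSch.Hom 𝔜 𝔛).app 0) ⁻¹ᵁ U.1),
    RingHom.Flat (((𝔜.Osh hY).obj.map (homOfLE e).op).hom.comp
      ((FSch.Hom.sharp φ hY h).hom.app (Opposite.op U.1)).hom))
  {J : FBlow.IdealSh (𝔛.Osh h)} (hJ : FBlow.IsCohOpen 𝔛 h J)
  {𝔛' : FSch.Sys.{u}} {h' : 𝔛'.IsFormal} {b : 𝔛' ⟶ 𝔛} (hb : FBlow.IsAdmBlowUp b h' h J)

include hR hp hfp htf hφ hYfp hYtf hflat hJ hb in
theorem isAdmBlowUp_flatBaseChange (hP : (FSch.pullbackSys b φ).IsFormal) :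
    FBlow.IsAdmBlowUp (FSch.pullbackSnd b φ) hP hY (FBlow.idealMap φ hY h J) := by
  have w : FSch.pullbackFst b φ ≫ b = FSch.pullbackSnd b φ ≫ φ := (S3859.result b φ).w
  have hsnd := isAdicHom_pullbackSnd b φ hb.1
  refine ⟨hsnd, ?_, fun 𝔗 hT g hg hinv => ?_⟩
  swap
  · obtain ⟨k, hk, hu⟩ := hb.2.2 𝔗 hT (g ≫ φ) (fun n => (hg n).paste_vert (hφ n))
      (by rw [idealMap_comp hT hY h]; exact hinv)
    refine ⟨(S3859.result b φ).lift k g hk, (S3859.result b φ).lift_snd _ _ _, fun m hm => ?_⟩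
    refine (S3859.result b φ).hom_ext ?_ ?_
    · rw [(S3859.result b φ).lift_fst]
      refine hu _ ?_
      show (m ≫ FSch.pullbackFst b φ) ≫ b = g ≫ φ
      rw [Category.assoc, w, ← Category.assoc, hm]
    · rw [(S3859.result b φ).lift_snd]
      exact hm
  rw [← idealMap_comp hP hY h, ← w]
  refine isInvertible_of_cover hP _ fun z => ?_
  let φ₀ := (φ : FSch.Hom 𝔜 𝔛).app 0
  let y₀ := (FSch.pullbackSnd b φ : FSch.Hom _ _).app 0 z
  obtain ⟨U, hU, n, 𝒜, hxU, hFT, hJU⟩ := exists_affine_level hJ (φ₀ y₀)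
  obtain ⟨U', hU', hyU', i⟩ := FCompl.exists_affine_le (𝔛 := 𝔜) (U := φ₀ ⁻¹ᵁ U) (x := y₀) hxU
  obtain ⟨-, h𝔞, -, P, q, hq, ε, hε⟩ := exists_local_model (p := p) hR hp hfp htf hb hFT hU hJU
  obtain ⟨e, he⟩ := exists_iso_spf p hR hp hU
  obtain ⟨e', he'⟩ := exists_iso_spf (h := hY) (φ ≫ p) hR (isAdicHom_comp hφ hp) hU'
  letI := (ρB hY (φ ≫ p) U').toAlgebra
  obtain ⟨⟨r, ψA, hψA, -⟩, -⟩ := admissible (φ ≫ p) hR (isAdicHom_comp hφ hp) hU' hYfp hYtf
  let gA := secMap hY h φ i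
  have hgflat : RingHom.Flat gA := hflat ⟨U, hU⟩ ⟨U', hU'⟩ i
  haveI : Flat (Spec.map (CommRingCat.ofHom gA)) := by
    rw [HasRingHomProperty.Spec_iff (P := @Flat)]
    exact hgflat
  let P' := pullback q (Spec.map (CommRingCat.ofHom gA))
  let f' : P' ⟶ P := pullback.fst _ _
  let q' : P' ⟶ Spec (CommRingCat.of (OR 𝔜 hY U')) := pullback.snd _ _
  have sqP : IsPullback f' q' q (Spec.map (CommRingCat.ofHom gA)) := IsPullback.of_hasPullback _ _
  haveI : LocallyOfFiniteType q := BlowExistsLib.locallyOfFiniteType_of_FG hq fun W => by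
    rw [ideal_idealSpec_le]; exact h𝔞.map _
  haveI : LocallyOfFiniteType q' := MorphismProperty.of_isPullback sqP ‹_›
  haveI : Flat f' := MorphismProperty.of_isPullback sqP.flip ‹_›
  let 𝔞' := (lvIdeal (h := h) hU n 𝒜).map gA
  have hEC : BlowUp.IsEffCartierIdeal ((FSch.idealSpec (OR 𝔜 hY U') 𝔞').comap q') := by
    rw [← S3873.result (OR 𝔜 hY U') (OR 𝔛 h U) gA, ← Scheme.IdealSheafData.comap_comp,
      show q' ≫ Spec.map (CommRingCat.ofHom gA) = f' ≫ q from sqP.w.symm, Scheme.IdealSheafData.comap_comp]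
    exact BlowCompLib.isEffCartier_comap_flat hq.1 f'
  let K' := I.map (ρB hY (φ ≫ p) U')
  let C' := FSch.completionAlong P' ((FSch.idealSpec (OR 𝔜 hY U') K').comap q')
  have hC' : C'.IsFormal := isFormal_completion _ _
  choose c' hc' using exists_level_iso e' he' q'
  choose cA hcA using exists_level_iso e he q
  let V := (b : FSch.Hom 𝔛' 𝔛).app 0 ⁻¹ᵁ U
  let p' := fun m => FSch.completionToX P' ((FSch.idealSpec (OR 𝔜 hY U') K').comap q') m
  let pA := fun m => FSch.completionToX P ((FSch.idealSpec (OR 𝔛 h U) (I.map (ρB h p U))).comap q) m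
  let bU := fun m => (FSch.Hom.restrictOpen b h' h U : FSch.Hom _ _).app m
  have sqU : ∀ m, IsPullback ((ε.hom : FSch.Hom _ _).app m ≫ pA m) (bU m) q (lvSpec h hU m) := fun m => by
    haveI : IsIso ((ε.hom : FSch.Hom _ _).app m) := ⟨(ε.inv : FSch.Hom _ _).app m,
      congrArg (fun t => FSch.Hom.app t m) ε.hom_inv_id, congrArg (fun t => FSch.Hom.app t m) ε.inv_hom_id⟩
    haveI : IsClosedImmersion (Spec.map (CommRingCat.ofHom (pr 𝔛 h U m))) :=
      IsClosedImmersion.spec_of_surjective _ ((affPres p hR hp hU).1 m)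
    haveI : IsClosedImmersion (lvSpec h hU m) := by rw [lvSpec]; infer_instance
    refine (hcA m).of_iso (asIso ((ε.hom : FSch.Hom _ _).app m)).symm (Iso.refl _) (Iso.refl _) (Iso.refl _)
      (by simp [pA]) ?_ (by simp) (by simp)
    rw [← cancel_mono (lvSpec h hU m)]
    simp only [Iso.symm_hom, asIso_inv, Iso.refl_hom, Category.comp_id, Category.assoc]
    rw [← hε m, IsIso.inv_hom_id_assoc]
    exact (hcA m).w.symm
  let res := fun m => ((φ : FSch.Hom 𝔜 𝔛).app m).resLE _ _ (lvU_le_res (hY := hY) (h := h) φ i m)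
  have sqOut : ∀ m, IsPullback (p' m ≫ f') (c' m) q (res m ≫ lvSpec h hU m) := fun m => by
    rw [← lvSpec_secMap φ i hU hU' m]
    exact (hc' m).paste_horiz sqP
  let ψ := fun m => (sqU m).lift (p' m ≫ f') (c' m ≫ res m) (by rw [Category.assoc]; exact (sqOut m).w)
  have hψ₁ : ∀ m, ψ m ≫ ((ε.hom : FSch.Hom _ _).app m ≫ pA m) = p' m ≫ f' := fun m => (sqU m).lift_fst _ _ _
  have hψ₂ : ∀ m, ψ m ≫ bU m = c' m ≫ res m := fun m => (sqU m).lift_snd _ _ _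
  have sqψ : ∀ m, IsPullback (ψ m) (c' m) (bU m) (res m) := fun m =>
    IsPullback.of_right (by rw [hψ₁]; exact sqOut m) (hψ₂ m) (sqU m)
  have sqι : ∀ m, IsPullback (𝔛'.lvU h' m V).ι (bU m) ((b : FSch.Hom _ _).app m) (𝔛.lvU h m U).ι := fun m => by
    refine (IsOpenImmersion.isPullback (bU m) (𝔛'.lvU h' m V).ι (𝔛.lvU h m U).ι ((b : FSch.Hom _ _).app m)
      ((Scheme.Hom.resLE_comp_ι _ _).symm) ?_).flip
    rw [Scheme.Opens.opensRange_ι, Scheme.Opens.opensRange_ι]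
    exact (FSch.Hom.lvU_preimage b h' h m U)
  have e1 : ∀ m, (res m ≫ (𝔛.lvU h m U).ι) = (𝔜.lvU hY m U').ι ≫ (φ : FSch.Hom _ _).app m := fun m =>
    Scheme.Hom.resLE_comp_ι _ _
  have sqX : ∀ m, IsPullback (ψ m ≫ (𝔛'.lvU h' m V).ι) (c' m) ((b : FSch.Hom _ _).app m)
      ((𝔜.lvU hY m U').ι ≫ (φ : FSch.Hom _ _).app m) := fun m => by
    rw [← e1]; exact (sqψ m).paste_horiz (sqι m)
  have c'comm : ∀ m, c' m ≫ (𝔜.restrictOpen hY U').ι m = C'.ι m ≫ c' (m + 1) := fun m => by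
    haveI : IsClosedImmersion (Spec.map (CommRingCat.ofHom (pr 𝔜 hY U' (m + 1)))) :=
      IsClosedImmersion.spec_of_surjective _ ((affPres (φ ≫ p) hR (isAdicHom_comp hφ hp) hU' (h := hY)).1 (m + 1))
    haveI : IsClosedImmersion (lvSpec hY hU' (m + 1)) := by rw [lvSpec]; infer_instance
    rw [← cancel_mono (lvSpec hY hU' (m + 1)), Category.assoc, Category.assoc, comm_lvSpec hU', ← (hc' m).w,
      ← (hc' (m + 1)).w, ← Category.assoc]
    exact congrArg (· ≫ q') (FSch.completionToX_comm P' ((FSch.idealSpec (OR 𝔜 hY U') K').comap q') m).symm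
  have rescomm : ∀ m, (𝔜.restrictOpen hY U').ι m ≫ res (m + 1) = res m ≫ (𝔛.restrictOpen h U).ι m := fun m => by
    rw [← cancel_mono (𝔛.lvU h (m + 1) U).ι, Category.assoc, Category.assoc, e1,
      show (𝔛.restrictOpen h U).ι m ≫ (𝔛.lvU h (m + 1) U).ι = (𝔛.lvU h m U).ι ≫ 𝔛.ι m from Scheme.Hom.resLE_comp_ι _ _,
      ← Category.assoc (res m), e1, Category.assoc, (φ : FSch.Hom _ _).comm m, ← Category.assoc, ← Category.assoc]
    exact congrArg (· ≫ _) (Scheme.Hom.resLE_comp_ι _ _)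
  have εcomm : ∀ m, (𝔛'.restrictOpen h' V).ι m ≫ ((ε.hom : FSch.Hom _ _).app (m + 1) ≫ pA (m + 1)) =
      (ε.hom : FSch.Hom _ _).app m ≫ pA m := fun m => by
    rw [← Category.assoc, ← (ε.hom : FSch.Hom _ _).comm m, Category.assoc]
    exact congrArg (_ ≫ ·) (FSch.completionToX_comm P _ m)
  let Ψ : C' ⟶ 𝔛'.restrictOpen h' V := ⟨ψ, fun m => by
    refine (sqU (m + 1)).hom_ext ?_ ?_
    · rw [Category.assoc, Category.assoc, εcomm, hψ₁, hψ₁, ← Category.assoc]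
      exact congrArg (· ≫ f') (FSch.completionToX_comm P' ((FSch.idealSpec (OR 𝔜 hY U') K').comap q') m).symm
    · rw [Category.assoc, Category.assoc, hψ₂, ← (FSch.Hom.restrictOpen b h' h U : FSch.Hom _ _).comm m,
        ← Category.assoc, ← Category.assoc, hψ₂, ← c'comm, Category.assoc, Category.assoc, rescomm]⟩
  let Cm : C' ⟶ 𝔜.restrictOpen hY U' := ⟨c', c'comm⟩
  have hw : (Ψ ≫ 𝔛'.restrictOpenι h' V) ≫ b = (Cm ≫ 𝔜.restrictOpenι hY U') ≫ φ :=
    FSch.Hom.ext (funext fun m => (sqX m).w.trans (Category.assoc _ _ _).symm)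
  let M : C' ⟶ FSch.pullbackSys b φ := (S3859.result b φ).lift _ _ hw
  have hM₁ : M ≫ FSch.pullbackFst b φ = Ψ ≫ 𝔛'.restrictOpenι h' V := (S3859.result b φ).lift_fst _ _ _
  have hM₂ : M ≫ FSch.pullbackSnd b φ = Cm ≫ 𝔜.restrictOpenι hY U' := (S3859.result b φ).lift_snd _ _ _
  have sqM : ∀ m, IsPullback ((M : FSch.Hom _ _).app m) (c' m) ((FSch.pullbackSnd b φ : FSch.Hom _ _).app m)
      (𝔜.lvU hY m U').ι := fun m => by
    refine IsPullback.of_right ?_ (congrArg (fun t => FSch.Hom.app t m) hM₂)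
      (IsPullback.of_hasPullback ((b : FSch.Hom _ _).app m) ((φ : FSch.Hom _ _).app m))
    rw [show (M : FSch.Hom _ _).app m ≫ pullback.fst ((b : FSch.Hom _ _).app m) ((φ : FSch.Hom _ _).app m) =
      ψ m ≫ (𝔛'.lvU h' m V).ι from congrArg (fun t => FSch.Hom.app t m) hM₁]
    exact sqX m
  haveI hMopen : ∀ m, IsOpenImmersion ((M : FSch.Hom _ _).app m) := fun m =>
    MorphismProperty.of_isPullback (sqM m).flip inferInstance
  refine ⟨C', hC', M, hMopen, ?_, ?_⟩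
  · obtain ⟨s, hs, -⟩ := Scheme.exists_preimage_of_isPullback (sqM 0) z ⟨y₀, (mem_lvU_zero hY U' y₀).2 hyU'⟩ rfl
    exact ⟨s, hs⟩
  have hG : M ≫ FSch.pullbackFst b φ ≫ b = (Ψ ≫ FSch.Hom.restrictOpen b h' h U) ≫ 𝔛.restrictOpenι h U := by
    rw [← Category.assoc, hM₁, Category.assoc, Category.assoc, FSch.Hom.restrictOpen_ι]
  rw [← idealMap_comp hC' hP h, hG, idealMap_comp hC' (restrict_isFormal h U) h,
    idealMap_restrictOpenι p hR hp hU hJU (restrict_isFormal h U),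
    show aSh (restrict_isFormal h U) (fun m => lvSpec h hU m) (comm_lvSpec hU) (lvIdeal hU n 𝒜) =
      FBlow.idealMap e.hom (restrict_isFormal h U) (isFormal_of_iso (restrict_isFormal h U) e)
        (FBlow.schIdealMap _ (isFormal_of_iso (restrict_isFormal h U) e)
          (FSch.spfToSpec (OR 𝔛 h U) (I.map (ρB h p U))) (FSch.spfToSpec_comm (OR 𝔛 h U) (I.map (ρB h p U)))
          (FBlow.IdealSh.ofData (FSch.idealSpec (OR 𝔛 h U) (lvIdeal hU n 𝒜)))) from by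
      rw [idealMap_schIdealMap_eq]; exact aSh_congr _ (funext fun m => (he m).symm) _ _ _,
    ← idealMap_comp hC' (restrict_isFormal h U) (isFormal_of_iso (restrict_isFormal h U) e), idealMap_schIdealMap_eq]
  have hy : ∀ m, ((Ψ ≫ FSch.Hom.restrictOpen b h' h U) ≫ e.hom : FSch.Hom _ _).app m ≫
      FSch.spfToSpec (OR 𝔛 h U) (I.map (ρB h p U)) m = (p' m ≫ q') ≫ Spec.map (CommRingCat.ofHom gA) := fun m => by
    show ((ψ m ≫ bU m) ≫ (e.hom : FSch.Hom _ _).app m) ≫ _ = _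
    rw [Category.assoc, he, hψ₂, Category.assoc, ← lvSpec_secMap φ i hU hU' m, ← Category.assoc, (hc' m).w]
  rw [aSh_congr hC' (funext hy) _ (fun m => by rw [← Category.assoc, comm_toX q' K' m]),
    aSh_SpecMap gA hC' (fun m => p' m ≫ q') (comm_toX q' K') _ (lvIdeal hU n 𝒜)]
  exact isInvertible_completion q' K' hC' hR ⟨r, ψA, hψA⟩ rfl hEC

end Groth.Agent.FBlowLib
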