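import Mathlib
import Groth.Prelude.Def_W4bk4boschfrg79
import Groth.Agent.AdicRingLib.Saturated
import Groth.Agent.BlowChartLib.Algebra

/-!
# The algebra generated by integral fractions as an affine blow-up algebra
-/

set_option autoImplicit false
set_option linter.style.haveILetI false
set_option maxHeartbeats 1000000
universe u

open TensorProduct

namespace Groth.Agent.FBlowLib

open Groth.Agent.BlowChartLib

/-- An element whose image is a root of a monic scaled polynomial is nilpotent modulo the scale. -/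
theorem pow_mem_span_of_scaleRoots {A S : Type u} [CommRing A] [CommRing S] (ψ : A →+* S) {p : Polynomial A}
    (hp : p.Monic) {a x : A} (hx : (p.scaleRoots a).eval x = 0) {t s u : S} (ht : t ∈ nonZeroDivisors S)
    (ha : ψ a = s * t) (hu : ψ x = u * t) : u ^ p.natDegree ∈ Ideal.span {s} := by
  nontriviality S
  let q := p.map ψ
  have hq : q.Monic := hp.map ψ
  have hd : q.natDegree = p.natDegree := hp.natDegree_map ψ
  have h1 : (q.scaleRoots (ψ a)).eval (ψ x) = 0 := by
    rw [show q.scaleRoots (ψ a) = (p.scaleRoots a).map ψ from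
      (Polynomial.map_scaleRoots p a ψ (by rw [hp.leadingCoeff, map_one]; exact one_ne_zero)).symm,
      Polynomial.eval_map, Polynomial.eval₂_at_apply, hx, map_zero]
  rw [ha, hu, mul_comm u t, mul_comm s t, Polynomial.scaleRoots_mul] at h1
  have h2 : (q.scaleRoots s).eval u = 0 := by
    have h3 : ((q.scaleRoots s).scaleRoots t).eval (t * u) = t ^ q.natDegree * (q.scaleRoots s).eval u := by
      rw [← Polynomial.natDegree_scaleRoots q s]
      exact Polynomial.scaleRoots_eval₂_mul (p := q.scaleRoots s) (RingHom.id S) u t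
    rw [show ((q.scaleRoots t).scaleRoots s) = (q.scaleRoots s).scaleRoots t by
      rw [← Polynomial.scaleRoots_mul, ← Polynomial.scaleRoots_mul, mul_comm]] at h1
    rw [h1] at h3
    exact (mul_left_mem_nonZeroDivisors_eq_zero_iff (pow_mem ht q.natDegree)).1 h3.symm
  rw [Polynomial.eval_eq_sum_range, Polynomial.natDegree_scaleRoots, Finset.sum_range_succ,
    Polynomial.coeff_scaleRoots, Nat.sub_self, pow_zero, mul_one, hq.coeff_natDegree, one_mul] at h2
  rw [← hd, eq_neg_of_add_eq_zero_right h2]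
  refine neg_mem (Ideal.sum_mem _ fun i hi => Ideal.mul_mem_right _ _ ?_)
  rw [Polynomial.coeff_scaleRoots]
  refine Ideal.mul_mem_left _ _ (Ideal.pow_mem_of_mem _ (Ideal.mem_span_singleton_self s) _ ?_)
  exact Nat.sub_pos_of_lt (Finset.mem_range.1 hi)

variable {R : Type u} [CommRing R] [IsDomain R] [ValuationRing R] [Ring.KrullDimLE 1 R] {t : R}
  {A : Type u} [CommRing A] [Algebra R A]

omit [ValuationRing R] [Ring.KrullDimLE 1 R] in
theorem not_isUnit_of_complete (_ht : t ≠ 0) [IsAdicComplete (Ideal.span {t}) R] : ¬ IsUnit t := fun h => by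
  have h1 : (1 : R) = 0 := IsHausdorff.haus (inferInstance : IsHausdorff (Ideal.span {t}) R) 1 fun n =>
    SModEq.zero.2 (by rw [Ideal.span_singleton_eq_top.2 h, smul_eq_mul, Ideal.mul_top, Ideal.top_pow]; trivial)
  exact one_ne_zero h1

theorem eq_zero_of_smul_eq_zero (ht : t ≠ 0) (htu : ¬ IsUnit t) (htf : AdicRing.NoPowTorsion (Ideal.span {t}) A)
    {r : R} (hr : r ≠ 0) {x : A} (hx : r • x = 0) : x = 0 := by
  obtain ⟨L, s, hs⟩ := AdicRingLib.Sat.exists_pow_dvd hr htu ht
  refine htf x L fun a ha => ?_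
  rw [Ideal.span_singleton_pow, Ideal.mem_span_singleton] at ha
  obtain ⟨b, rfl⟩ := ha
  rw [hs, mul_assoc, mul_comm, mul_smul, hx, smul_zero]

theorem injective_tensor (ht : t ≠ 0) (htu : ¬ IsUnit t) (htf : AdicRing.NoPowTorsion (Ideal.span {t}) A) :
    Function.Injective (algebraMap A (A ⊗[R] FractionRing R)) := by
  refine IsLocalization.injective (A ⊗[R] FractionRing R) (M := Algebra.algebraMapSubmonoid A (nonZeroDivisors R))
    fun z hz => ?_
  obtain ⟨r, hr, rfl⟩ := hz
  refine mem_nonZeroDivisors_iff_right.2 fun x hx => eq_zero_of_smul_eq_zero ht htu htf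
    (nonZeroDivisors.ne_zero hr) ?_
  rw [Algebra.smul_def, mul_comm]
  exact hx

variable (c : R) {n : ℕ} (g : Fin n → A)

/-- The ideal generated by the denominator and the numerators. -/
abbrev cIdeal : Ideal A := Ideal.span (insert (algebraMap R A c) (Set.range g))

variable {c g} {f : Fin n → A ⊗[R] FractionRing R}

omit [ValuationRing R] [Ring.KrullDimLE 1 R] in
theorem smul_eq_mul' (x : A ⊗[R] FractionRing R) :
    c • x = algebraMap A (A ⊗[R] FractionRing R) (algebraMap R A c) * x := by
  induction x using TensorProduct.induction_on with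
  | zero => simp
  | tmul b k =>
    rw [TensorProduct.smul_tmul', Algebra.smul_def, Algebra.TensorProduct.algebraMap_apply,
      Algebra.TensorProduct.tmul_mul_tmul, one_mul]
    rfl
  | add x y hx hy => rw [smul_add, hx, hy, mul_add]

omit [IsDomain R] [ValuationRing R] [Ring.KrullDimLE 1 R] in
theorem nonempty_equiv_of_range {B T : Type u} [CommRing B] [CommRing T] [Algebra A B] [Algebra A T] (e : B →ₐ[A] T)
    (he : Function.Injective e) {S : Subalgebra A T} (h : e.range = S) : Nonempty (B ≃ₐ[A] S) := by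
  subst h
  exact ⟨AlgEquiv.ofInjective e he⟩

theorem exists_algEquiv (hinj : Function.Injective (algebraMap A (A ⊗[R] FractionRing R))) (hc : c ≠ 0)
    (hg : ∀ i, algebraMap A (A ⊗[R] FractionRing R) (g i) = c • f i) :
    Nonempty (↥(BlowUp.affineAlgebra A (cIdeal c g) (algebraMap R A c)) ≃ₐ[A] ↥(Algebra.adjoin A (Set.range f))) := by
  let T := A ⊗[R] FractionRing R
  let a := algebraMap R A c
  have hu : IsUnit (algebraMap A T a) :=
    IsLocalization.map_units T (⟨a, Algebra.mem_algebraMapSubmonoid_of_mem ⟨c, mem_nonZeroDivisors_of_ne_zero hc⟩⟩ :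
      Algebra.algebraMapSubmonoid A (nonZeroDivisors R))
  let Φ : Localization.Away a →ₐ[A] T :=
    { IsLocalization.Away.lift (S := Localization.Away a) a hu with
      commutes' := fun r => IsLocalization.Away.lift_eq a hu r }
  have hg' : ∀ i, algebraMap A T (g i) = algebraMap A T a * f i := fun i => by
    rw [hg, smul_eq_mul']
  let e : ↥(BlowUp.affineAlgebra A (cIdeal c g) a) →ₐ[A] T := Φ.comp (Subalgebra.val _)
  have hfrac : ∀ x (hx : x ∈ cIdeal c g), e (frac x hx) * algebraMap A T a = algebraMap A T x := fun x hx => by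
    rw [← e.commutes a, ← map_mul, frac_mul, e.commutes]
  have hrange : e.range = Algebra.adjoin A (Set.range f) := by
    refine le_antisymm ?_ (Algebra.adjoin_le ?_)
    · rintro _ ⟨z, rfl⟩
      refine induction_frac (P := fun z => e z ∈ Algebra.adjoin A (Set.range f))
        (fun r => by rw [e.commutes]; exact Subalgebra.algebraMap_mem _ r) (fun x hx => ?_)
        (fun x y hx hy => by rw [map_add]; exact add_mem hx hy) (fun x y hx hy => by rw [map_mul]; exact mul_mem hx hy) z
      obtain ⟨b, w, hw, rfl⟩ := Ideal.mem_span_insert.1 hx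
      obtain ⟨d, hd⟩ := Ideal.mem_span_range_iff_exists_fun.1 hw
      have : e (frac _ hx) = algebraMap A T b + ∑ j, algebraMap A T (d j) * f j := by
        apply hu.mul_left_injective
        show e (frac _ hx) * algebraMap A T a = _ * algebraMap A T a
        rw [hfrac, map_add, map_mul, ← hd, map_sum, add_mul, Finset.sum_mul]
        refine congrArg₂ (· + ·) rfl (Finset.sum_congr rfl fun j _ => ?_)
        rw [map_mul, hg']
        ring
      rw [this]
      exact add_mem (Subalgebra.algebraMap_mem _ b)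
        (sum_mem fun j _ => mul_mem (Subalgebra.algebraMap_mem _ _) (Algebra.subset_adjoin ⟨j, rfl⟩))
    · rintro _ ⟨j, rfl⟩
      refine ⟨frac (g j) (Ideal.subset_span (Set.mem_insert_of_mem _ ⟨j, rfl⟩)), hu.mul_left_injective ?_⟩
      show e (frac _ _) * algebraMap A T a = f j * algebraMap A T a
      rw [hfrac, hg', mul_comm]
  have hei : Function.Injective e := by
    refine (injective_iff_map_eq_zero e).2 fun z hz => ?_
    obtain ⟨N, b, hb⟩ : ∃ (N : ℕ) (b : A), algebraMap A ↥(BlowUp.affineAlgebra A (cIdeal c g) a) a ^ N * z =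
        algebraMap A _ b := by
      refine induction_frac (P := fun z => ∃ (N : ℕ) (b : A),
        algebraMap A ↥(BlowUp.affineAlgebra A (cIdeal c g) a) a ^ N * z = algebraMap A _ b)
        (fun r => ⟨0, r, by rw [pow_zero, one_mul]⟩) (fun x hx => ⟨1, x, by rw [pow_one, mul_comm, frac_mul]⟩)
        ?_ ?_ z
      · rintro x y ⟨N, b, hb⟩ ⟨M, b', hb'⟩
        refine ⟨N + M, a ^ M * b + a ^ N * b', ?_⟩
        rw [map_add, map_mul, map_mul, map_pow, map_pow, ← hb, ← hb']
        ring
      · rintro x y ⟨N, b, hb⟩ ⟨M, b', hb'⟩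
        refine ⟨N + M, b * b', ?_⟩
        rw [map_mul, ← hb, ← hb']
        ring
    have h1 := congrArg e hb
    rw [map_mul, hz, mul_zero, e.commutes] at h1
    have h2 : b = 0 := hinj (h1.symm.trans (map_zero _).symm)
    rw [h2, map_zero] at hb
    have hn : algebraMap A ↥(BlowUp.affineAlgebra A (cIdeal c g) a) a ^ N ∈
        nonZeroDivisors ↥(BlowUp.affineAlgebra A (cIdeal c g) a) :=
      pow_mem (BlowChartLib.mem_nonZeroDivisors (I := cIdeal c g) (a := a)) N
    exact (mul_left_mem_nonZeroDivisors_eq_zero_iff hn).1 hb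
  exact nonempty_equiv_of_range e hei hrange

omit [ValuationRing R] [Ring.KrullDimLE 1 R] in
theorem map_eq_span_of_isIntegral (hinj : Function.Injective (algebraMap A (A ⊗[R] FractionRing R)))
    (hg : ∀ i, algebraMap A (A ⊗[R] FractionRing R) (g i) = c • f i) (hf : ∀ i, IsIntegral A (f i))
    {S : Type u} [CommRing S] (ψ : A →+* S) {s : S} (hs : s ∈ nonZeroDivisors S)
    (hgen : (cIdeal c g).map ψ = Ideal.span {s}) :
    ψ (algebraMap R A c) ∈ nonZeroDivisors S ∧
      (cIdeal c g).map ψ = Ideal.span {ψ (algebraMap R A c)} := by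
  let a := algebraMap R A c
  have hdiv : ∀ x ∈ cIdeal c g, ∃ w, w * s = ψ x := fun x hx =>
    Ideal.mem_span_singleton'.1 (hgen ▸ Ideal.mem_map_of_mem ψ hx)
  obtain ⟨σ, hσ⟩ := hdiv a (Ideal.subset_span (Set.mem_insert _ _))
  suffices hu : IsUnit σ by
    show ψ a ∈ _ ∧ _ = Ideal.span {ψ a}
    rw [← hσ]
    exact ⟨mul_mem hu.mem_nonZeroDivisors hs, by rw [Ideal.span_singleton_mul_left_unit hu, hgen]⟩
  by_contra hn
  obtain ⟨M, hM, hle⟩ := Ideal.exists_le_maximal (Ideal.span {σ}) (fun h => hn (Ideal.span_singleton_eq_top.1 h))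
  have h1 : (cIdeal c g).map ψ ≤ M * Ideal.span {s} := by
    rw [Ideal.map_span, Ideal.span_le]
    rintro _ ⟨x, hx, rfl⟩
    obtain ⟨w, hw⟩ := hdiv x (Ideal.subset_span hx)
    refine Ideal.mem_mul_span_singleton.2 ⟨w, ?_, hw⟩
    rcases hx with rfl | ⟨j, rfl⟩
    · exact ((mul_cancel_right_mem_nonZeroDivisors hs).1 (hσ.trans hw.symm)) ▸ hle (Ideal.mem_span_singleton_self σ)
    · obtain ⟨p, hp, hpf⟩ := hf j
      refine hM.isPrime.mem_of_pow_mem p.natDegree (hle (pow_mem_span_of_scaleRoots ψ hp (a := a) (x := g j) ?_ hs hσ.symm hw.symm))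
      apply hinj
      rw [map_zero, ← Polynomial.aeval_algebraMap_apply_eq_algebraMap_eval, hg, smul_eq_mul']
      exact Polynomial.scaleRoots_aeval_eq_zero hpf
  obtain ⟨z, hz, hzs⟩ := Ideal.mem_mul_span_singleton.1 (h1 (hgen ▸ Ideal.mem_span_singleton_self s))
  have : z = 1 := (mul_cancel_right_mem_nonZeroDivisors hs).1 (by rw [one_mul, hzs])
  exact hM.ne_top ((Ideal.eq_top_iff_one _).2 (this ▸ hz))

end Groth.Agent.FBlowLib
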