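import Groth.Agent.FBlowLib.GenLocus
import Groth.Prelude.Def_FSch6

/-!
# Admissible formal blow-ups and isomorphisms of the source
-/

set_option autoImplicit false
set_option linter.style.haveILetI false
set_option backward.isDefEq.respectTransparency false
set_option backward.isDefEq.respectTransparency.types false
set_option maxHeartbeats 1000000
universe u

open CategoryTheory CategoryTheory.Limits AlgebraicGeometry TopologicalSpace Opposite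

noncomputable section

namespace Groth.Agent.FBlowLib

open Groth.Agent.FCompl Groth.Agent.BlowChartLib

theorem bijective_appLE_iso {X Y : Scheme.{u}} (f : X ⟶ Y) [IsIso f] {U : Y.Opens} {V : X.Opens}
    (e : f ⁻¹ᵁ U = V) : Function.Bijective (f.appLE U V e.ge) := by
  subst e
  rw [← Scheme.Hom.app_eq_appLE]
  exact ConcreteCategory.bijective_of_isIso (f.app U)

variable {𝔜 𝔜' : FSch.Sys.{u}} (h : 𝔜.IsFormal) (h' : 𝔜'.IsFormal) (e : 𝔜 ≅ 𝔜')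

include e in
lemma isIso_app (n : ℕ) : IsIso ((e.hom : FSch.Hom 𝔜 𝔜').app n) :=
  ⟨(e.inv : FSch.Hom 𝔜' 𝔜).app n, congrArg (fun t => FSch.Hom.app t n) e.hom_inv_id,
    congrArg (fun t => FSch.Hom.app t n) e.inv_hom_id⟩

/-- The map of structure sheaves of an isomorphism is bijective. -/
theorem sharp_bijective (V : (𝔜'.X 0).Opens) :
    Function.Bijective ((FSch.Hom.sharp e.hom h h').hom.app (op V)) := by
  let g : ∀ n, 𝔜.X n ⟶ 𝔜'.X n := fun n => (e.hom : FSch.Hom 𝔜 𝔜').app n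
  haveI : ∀ n, IsIso (g n) := fun n => isIso_app e n
  let U := g 0 ⁻¹ᵁ V
  let φ : ∀ n, LR 𝔜' h' V n → LR 𝔜 h U n := fun n =>
    (g n).appLE (𝔜'.lvU h' n V) (𝔜.lvU h n U) (FSch.Hom.lvU_preimage e.hom h h' n V).ge
  have hφ : ∀ n, Function.Bijective (φ n) := fun n =>
    bijective_appLE_iso (g n) (FSch.Hom.lvU_preimage e.hom h h' n V)
  have hpr : ∀ n (x : OR 𝔜' h' V), pr 𝔜 h U n ((FSch.Hom.sharp e.hom h h').hom.app (op V) x) =
      φ n (pr 𝔜' h' V n x) := fun n x => pr_sharp h h' e.hom V x n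
  refine ⟨fun x y hxy => osh_ext fun n => (hφ n).1 ?_, fun z => ?_⟩
  · rw [← hpr, ← hpr, hxy]
  · choose b hb using fun n => (hφ n).2 (pr 𝔜 h U n z)
    have hnat : ∀ n (a : LR 𝔜' h' V (n + 1)), tr 𝔜 h U n (φ (n + 1) a) = φ n (tr 𝔜' h' V n a) := fun n a => by
      refine (ConcreteCategory.congr_hom (Scheme.Hom.appLE_comp_appLE (𝔜.ι n) (g (n + 1)) (𝔜'.lvU h' (n + 1) V)
        (𝔜.lvU h (n + 1) U) (𝔜.lvU h n U) _ _) a).trans ?_
      refine Eq.trans ?_ (ConcreteCategory.congr_hom (Scheme.Hom.appLE_comp_appLE (g n) (𝔜'.ι n)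
        (𝔜'.lvU h' (n + 1) V) (𝔜'.lvU h' n V) (𝔜.lvU h n U) _ _) a).symm
      congr 3
      exact ((e.hom : FSch.Hom 𝔜 𝔜').comm n).symm
    obtain ⟨x, hx⟩ := osh_lift b fun n => (hφ n).1 (by rw [← hnat, hb, hb]; exact tr_pr 𝔜 h U n z)
    refine ⟨x, ?_⟩
    apply osh_ext (h := h) (U := U)
    intro n
    rw [hpr, hx, hb]

variable {A : Type u} [CommRing A] (y' : ∀ n, 𝔜'.X n ⟶ Spec (CommRingCat.of A))
  (hy' : ∀ n, 𝔜'.ι n ≫ y' (n + 1) = y' n) (y : ∀ n, 𝔜.X n ⟶ Spec (CommRingCat.of A))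
  (hy : ∀ n, 𝔜.ι n ≫ y (n + 1) = y n) (he : ∀ n, (e.hom : FSch.Hom 𝔜 𝔜').app n ≫ y' n = y n)

include he in
theorem isInvertible_aSh_of_iso {𝔞 : Ideal A} (hinv : (aSh h' y' hy' 𝔞).IsInvertible) :
    (aSh h y hy 𝔞).IsInvertible := by
  refine isInvertible_aSh h y hy 𝔞 fun x => ?_
  obtain ⟨U, hxU, g, hg, hU⟩ := hinv ((e.hom : FSch.Hom 𝔜 𝔜').app 0 x)
  obtain ⟨W, i, hxW, hW⟩ := exists_of_mem_aSh h' y' hy' hg hxU
  let S : ∀ V : (𝔜'.X 0).Opens, OR 𝔜' h' V →+* OR 𝔜 h ((e.hom : FSch.Hom 𝔜 𝔜').app 0 ⁻¹ᵁ V) :=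
    fun V => ((FSch.Hom.sharp e.hom h h').hom.app (op V)).hom
  refine ⟨(e.hom : FSch.Hom 𝔜 𝔜').app 0 ⁻¹ᵁ W, hxW, S W (rsO 𝔜' h' i g), ?_, fun V j z hz => ⟨V, le_rfl, hz, ?_⟩⟩
  · have hgW : 𝔞.map (img h' y' hy' W) = Ideal.span {rsO 𝔜' h' i g} := by
      refine le_antisymm (fun s hs => ?_) ((Ideal.span_singleton_le_iff_mem _).2 hW)
      obtain ⟨t, ht⟩ := (hU W i).2 s (map_img_le_aSh h' y' hy' 𝔞 W hs)
      exact Ideal.mem_span_singleton'.2 ⟨t, ht.symm⟩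
    have e1 : img h y hy ((e.hom : FSch.Hom 𝔜 𝔜').app 0 ⁻¹ᵁ W) = (S W).comp (img h' y' hy' W) :=
      RingHom.ext fun a => (sharp_img h y hy h' y' hy' e.hom he W a).symm
    rw [e1, ← Ideal.map_map, hgW, Ideal.map_span, Set.image_singleton]
  · obtain ⟨V', hV'⟩ : ∃ V' : (𝔜'.X 0).Opens, (e.hom : FSch.Hom 𝔜 𝔜').app 0 ⁻¹ᵁ V' = V := by
      haveI := isIso_app e 0
      exact ⟨(e.hom : FSch.Hom 𝔜 𝔜').app 0 ''ᵁ V, Scheme.Hom.preimage_image_eq _ _⟩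
    subst hV'
    have hle : V' ≤ W := fun w hw => by
      obtain ⟨w', rfl⟩ : ∃ w', (e.hom : FSch.Hom 𝔜 𝔜').app 0 w' = w :=
        ⟨(e.inv : FSch.Hom 𝔜' 𝔜).app 0 w, congr($(congrArg (fun t => FSch.Hom.app t 0) e.inv_hom_id) w)⟩
      exact j hw
    intro t ht
    obtain ⟨s, rfl⟩ := (sharp_bijective h h' e V').2 t
    have e2 : rsO 𝔜 h (le_rfl.trans j) (S W (rsO 𝔜' h' i g)) = S V' (rsO 𝔜' h' hle (rsO 𝔜' h' i g)) :=
      (ConcreteCategory.congr_hom ((FSch.Hom.sharp e.hom h h').hom.naturality (homOfLE hle).op) _).symm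
    rw [e2] at ht
    have h0 : s * rsO 𝔜' h' hle (rsO 𝔜' h' i g) = 0 := by
      apply (sharp_bijective h h' e V').1
      rw [map_zero, map_mul]
      exact ht
    rw [show rsO 𝔜' h' hle (rsO 𝔜' h' i g) = rsO 𝔜' h' (hle.trans i) g from FBlow.IdealSh.map_comp_apply i hle g] at h0
    rw [(hU V' (hle.trans i)).1 s h0, map_zero]

omit hy he in
/-- An admissible blow-up composed with an isomorphism of the source is one. -/
theorem isAdmBlowUp_of_iso {𝔛 : FSch.Sys.{u}} {hX : 𝔛.IsFormal} (p : ∀ n, 𝔛.X n ⟶ Spec (CommRingCat.of A))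
    (hp : ∀ n, 𝔛.ι n ≫ p (n + 1) = p n) {𝔞 : Ideal A} {b : 𝔜' ⟶ 𝔛}
    (hb : FBlow.IsAdmBlowUp b h' hX (FBlow.schIdealMap 𝔛 hX p hp (FBlow.IdealSh.ofData (FSch.idealSpec A 𝔞)))) :
    FBlow.IsAdmBlowUp (e.hom ≫ b) h hX
      (FBlow.schIdealMap 𝔛 hX p hp (FBlow.IdealSh.ofData (FSch.idealSpec A 𝔞))) := by
  refine ⟨fun n => ?_, ?_, fun ℨ hZ g hg hinv => ?_⟩
  · haveI := fun m => isIso_app e m
    exact (IsPullback.of_vert_isIso ⟨((e.hom : FSch.Hom 𝔜 𝔜').comm n).symm⟩).paste_vert (hb.1 n)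
  · have h1 := hb.2.1
    rw [idealMap_schIdealMap_eq] at h1 ⊢
    exact isInvertible_aSh_of_iso h h' e (fun n => (b : FSch.Hom 𝔜' 𝔛).app n ≫ p n) (comp_comm b p hp) _ _
      (fun n => by rw [FSch.comp_app, Category.assoc]) h1
  · obtain ⟨k, hk, huniq⟩ := hb.2.2 ℨ hZ g hg hinv
    refine ⟨k ≫ e.inv, ?_, fun k' hk' => ?_⟩
    · show (k ≫ e.inv) ≫ e.hom ≫ b = g
      rw [Category.assoc, Iso.inv_hom_id_assoc, hk]
    · rw [← huniq (k' ≫ e.hom) (by show (k' ≫ e.hom) ≫ b = g; rw [Category.assoc, hk']), Category.assoc,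
        e.hom_inv_id, Category.comp_id]

end Groth.Agent.FBlowLib
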