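import Groth.Agent.FBlowLib.ChartMap
import Groth.Agent.FBlowLib.IsoTransfer
import Groth.Agent.FBlowLib.IntegralAlg

/-!
# Formal spectra of affine blow-ups
-/

set_option autoImplicit false
set_option linter.style.haveILetI false
set_option backward.isDefEq.respectTransparency false
set_option backward.isDefEq.respectTransparency.types false
set_option maxHeartbeats 1000000
universe u

open CategoryTheory CategoryTheory.Limits AlgebraicGeometry TopologicalSpace Opposite TensorProduct

noncomputable section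

namespace Groth.Agent.FBlowLib

open Groth.Agent.FCompl Groth.Agent.BlowChartLib

theorem exists_spfIso' {B : Type u} [CommRing B] (J : Ideal B) (𝓘 : (Spec (CommRingCat.of B)).IdealSheafData)
    (h : 𝓘 = FSch.idealSpec B J) :
    ∃ η : FSch.spf B J ≅ FSch.completionAlong (Spec (CommRingCat.of B)) 𝓘,
      ∀ n, (η.hom : FSch.Hom _ _).app n ≫ FSch.completionToX (Spec (CommRingCat.of B)) 𝓘 n =
        FSch.spfToSpec B J n := by
  subst h
  exact exists_spfIso J

variable {R : Type u} [CommRing R] {I : Ideal R} {A B : Type u} [CommRing A] [Algebra R A] [CommRing B] [Algebra R B]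
  [Algebra A B] [IsScalarTower R A B]

theorem isAdmBlowUp_spfMap_of_isBlowUp (hR : AdicRing.IsBase R I) (hA : AdicRing.TopFiniteType R I A)
    {𝔞 : Ideal A} (h𝔞 : 𝔞.FG)
    (hq : BlowUp.IsBlowUp (Spec.map (CommRingCat.ofHom (algebraMap A B))) (FSch.idealSpec A 𝔞))
    (hX : (FSch.spf A (I.map (algebraMap R A))).IsFormal) (h' : (FSch.spf B (I.map (algebraMap R B))).IsFormal)
    (hle : I.map (algebraMap R A) ≤ (I.map (algebraMap R B)).comap (algebraMap A B)) :
    FBlow.IsAdmBlowUp (FSch.spfMap (I.map (algebraMap R B)) (I.map (algebraMap R A)) (algebraMap A B) hle) h' hX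
      (FBlow.schIdealMap (FSch.spf A (I.map (algebraMap R A))) hX (FSch.spfToSpec A (I.map (algebraMap R A)))
        (FSch.spfToSpec_comm A (I.map (algebraMap R A))) (FBlow.IdealSh.ofData (FSch.idealSpec A 𝔞))) := by
  let K := I.map (algebraMap R A)
  let q := Spec.map (CommRingCat.ofHom (algebraMap A B))
  have hcomap : (FSch.idealSpec A K).comap q = FSch.idealSpec B (I.map (algebraMap R B)) := by
    rw [show q = Spec.map (CommRingCat.ofHom (algebraMap A B)) from rfl, S3873.result, Ideal.map_map,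
      ← IsScalarTower.algebraMap_eq]
  have hpc : FSch.PowCompat q ((FSch.idealSpec A K).comap q) (FSch.idealSpec A K) :=
    fun m => (S3857.comap_pow (FSch.idealSpec A K) q (m + 1)).le
  have hC := isFormal_completion (Spec (CommRingCat.of A)) (FSch.idealSpec A K)
  have hP := isFormal_completion (Spec (CommRingCat.of B)) ((FSch.idealSpec A K).comap q)
  obtain ⟨η, hη⟩ := exists_spfIso K
  obtain ⟨θ, hθ⟩ := exists_spfIso' (I.map (algebraMap R B)) _ hcomap
  have h1 := isAdmBlowUp_of_spfIso η hη hC hX hP _ (isAdmBlowUp_completion q K hpc hR hA h𝔞 hq rfl hC hP)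
  have h2 := isAdmBlowUp_of_iso h' hP θ (FSch.spfToSpec A K) (FSch.spfToSpec_comm A K) h1
  have e : θ.hom ≫ FSch.completionMap q ((FSch.idealSpec A K).comap q) (FSch.idealSpec A K) hpc ≫ η.inv =
      FSch.spfMap (I.map (algebraMap R B)) K (algebraMap A B) hle := by
    refine FSch.Hom.ext (funext fun n => ?_)
    haveI : IsClosedImmersion (FSch.spfToSpec A K n) :=
      IsClosedImmersion.spec_of_surjective (CommRingCat.ofHom (Ideal.Quotient.mk (K ^ (n + 1)))) Ideal.Quotient.mk_surjective
    rw [← cancel_mono (FSch.spfToSpec A K n), ← FSch.spfMap_sq]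
    have h3 : (η.inv : FSch.Hom _ _).app n ≫ FSch.spfToSpec A K n =
        FSch.completionToX (Spec (CommRingCat.of A)) (FSch.idealSpec A K) n := by
      rw [← hη n, ← Category.assoc, show (η.inv : FSch.Hom _ _).app n ≫ (η.hom : FSch.Hom _ _).app n = 𝟙 _ from
        congrArg (fun t => FSch.Hom.app t n) η.inv_hom_id]
      exact Category.id_comp _
    simp only [FSch.comp_app, Category.assoc, h3]
    rw [completion_y q K hpc n, ← Category.assoc, hθ]
  rwa [e] at h2

end Groth.Agent.FBlowLib

namespace Groth.Agent.FBlowLib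

open Groth.Agent.BlowChartLib

variable {R : Type u} [CommRing R] [IsDomain R] [ValuationRing R] [Ring.KrullDimLE 1 R] {A : Type u} [CommRing A]
  [Algebra R A] {c : R} {n : ℕ} {g : Fin n → A} {f : Fin n → A ⊗[R] FractionRing R}

omit [Algebra R A] in
theorem generator_of_algEquiv {B₀ B : Type u} [CommRing B₀] [CommRing B] [Algebra A B₀] [Algebra A B] (E : B₀ ≃ₐ[A] B)
    {a : A} {𝔞 : Ideal A} (h1 : algebraMap A B₀ a ∈ nonZeroDivisors B₀)
    (h2 : 𝔞.map (algebraMap A B₀) = Ideal.span {algebraMap A B₀ a}) :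
    algebraMap A B a ∈ nonZeroDivisors B ∧ 𝔞.map (algebraMap A B) = Ideal.span {algebraMap A B a} := by
  refine ⟨?_, ?_⟩
  · rw [← E.commutes]
    exact MulEquivClass.map_nonZeroDivisors E ▸ ⟨_, h1, rfl⟩
  · have h3 : (algebraMap A B) = E.toAlgHom.toRingHom.comp (algebraMap A B₀) := E.toAlgHom.comp_algebraMap.symm
    rw [h3, ← Ideal.map_map, h2, Ideal.map_span, Set.image_singleton]
    rfl

omit [Algebra R A] in
theorem existsUnique_of_algEquiv {B₀ B S : Type u} [CommRing B₀] [CommRing B] [CommRing S] [Algebra A B₀]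
    [Algebra A B] (E : B₀ ≃ₐ[A] B) {ψ : A →+* S} (h : ∃! φ : B₀ →+* S, φ.comp (algebraMap A B₀) = ψ) :
    ∃! χ : B →+* S, χ.comp (algebraMap A B) = ψ := by
  obtain ⟨φ, hφ, huniq⟩ := h
  refine ⟨φ.comp E.symm.toAlgHom.toRingHom, RingHom.ext fun r => ?_, fun χ hχ => ?_⟩
  · exact (congrArg φ (E.symm.commutes r)).trans (RingHom.congr_fun hφ r)
  · rw [← huniq (χ.comp E.toAlgHom.toRingHom) (RingHom.ext fun r =>
      (congrArg χ (E.commutes r)).trans (RingHom.congr_fun hχ r))]
    exact RingHom.ext fun z => congrArg χ (E.apply_symm_apply z).symm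

omit [Algebra R A] in
theorem existsUnique_hom_BA {S : Type u} [CommRing S] {I : Ideal A} {a : A} (ψ : A →+* S)
    (hn : ψ a ∈ nonZeroDivisors S) (hI : I.map ψ ≤ Ideal.span {ψ a}) :
    ∃! φ : ↥(BlowUp.affineAlgebra A I a) →+* S, φ.comp (algebraMap A _) = ψ := by
  obtain ⟨φ, hφ⟩ := exists_hom (I := I) (a := a) ψ hn hI
  refine ⟨φ, hφ, fun φ' hφ' => hom_ext (fun r => ?_) ?_⟩
  · exact (RingHom.congr_fun hφ' r).trans (RingHom.congr_fun hφ r).symm
  · rw [show φ' (algebraMap A _ a) = ψ a from RingHom.congr_fun hφ' a]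
    exact hn

theorem isBlowUp_adjoin (hinj : Function.Injective (algebraMap A (A ⊗[R] FractionRing R))) (hc : c ≠ 0)
    (hg : ∀ i, algebraMap A (A ⊗[R] FractionRing R) (g i) = c • f i) (hf : ∀ i, IsIntegral A (f i)) :
    BlowUp.IsBlowUp (Spec.map (CommRingCat.ofHom (S := ↥(Algebra.adjoin A (Set.range f))) (algebraMap A ↥(Algebra.adjoin A (Set.range f)))))
      (FSch.idealSpec A (cIdeal c g)) := by
  let a := algebraMap R A c
  let B := ↥(Algebra.adjoin A (Set.range f))
  obtain ⟨E⟩ := exists_algEquiv hinj hc hg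
  have ha : a ∈ cIdeal c g := Ideal.subset_span (Set.mem_insert _ _)
  have m1 := BlowChartLib.mem_nonZeroDivisors (A := A) (I := cIdeal c g) (a := algebraMap R A c)
  have m2 := map_eq_span (A := A) (I := cIdeal c g) (a := algebraMap R A c) ha
  have m3 := generator_of_algEquiv (A := A) (B₀ := ↥(BlowUp.affineAlgebra A (cIdeal c g) (algebraMap R A c)))
    (B := ↥(Algebra.adjoin A (Set.range f))) E (a := algebraMap R A c) (𝔞 := cIdeal c g) m1 m2
  obtain ⟨hEn, hgen⟩ := m3
  have hI : Curv2.idealSheaf A (cIdeal c g) = FSch.idealSpec A (cIdeal c g) := by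
    refine Scheme.IdealSheafData.ext_of_isAffine ?_
    rw [S3873.idealSpec_top]
    simp [Curv2.idealSheaf, Scheme.IdealSheafData.ofIdealTop_ideal]
  have key := isBlowUp_SpecMap (A := A) (B := ↥(Algebra.adjoin A (Set.range f)))
    (algebraMap A ↥(Algebra.adjoin A (Set.range f))) (cIdeal c g)
    (algebraMap A ↥(Algebra.adjoin A (Set.range f)) (algebraMap R A c)) hEn hgen (by
      intro S _ ψ s hs hψ
      obtain ⟨hn, hspan⟩ := map_eq_span_of_isIntegral hinj hg hf ψ hs hψ
      exact existsUnique_of_algEquiv (B₀ := ↥(BlowUp.affineAlgebra A (cIdeal c g) (algebraMap R A c))) E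
        (existsUnique_hom_BA (I := cIdeal c g) (a := algebraMap R A c) ψ hn hspan.le))
  rw [hI] at key
  exact key

end Groth.Agent.FBlowLib
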