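import Groth.Agent.FBlowLib.ExtIdeal
import Groth.Agent.FBlowLib.CohPull

/-!
# Coherent open ideals come from one level; extension from a quasi-compact open
-/

set_option autoImplicit false
set_option linter.style.haveILetI false
set_option backward.isDefEq.respectTransparency false
set_option backward.isDefEq.respectTransparency.types false
set_option maxHeartbeats 1000000
universe u

open CategoryTheory CategoryTheory.Limits AlgebraicGeometry TopologicalSpace Opposite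

noncomputable section

namespace Groth.Agent.FBlowLib

open Groth.Agent.FCompl Groth.Agent.BlowChartLib

variable {𝔛 : FSch.Sys.{u}} {h : 𝔛.IsFormal}

theorem sect_ext_affine {J K : FBlow.IdealSh (𝔛.Osh h)} {U : (𝔛.X 0).Opens}
    (e : ∀ V : (𝔛.X 0).Opens, V ≤ U → IsAffineOpen V → J.sect V = K.sect V) (V : (𝔛.X 0).Opens) (hV : V ≤ U) :
    J.sect V = K.sect V := by
  have key : ∀ {J K : FBlow.IdealSh (𝔛.Osh h)},
      (∀ W : (𝔛.X 0).Opens, W ≤ U → IsAffineOpen W → J.sect W = K.sect W) → J.sect V ≤ K.sect V := by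
    intro J K e s hs
    refine K.mem_of_local fun x hx => ?_
    obtain ⟨W, hW, hxW, hle⟩ := FCompl.exists_affine_le (𝔛 := 𝔛) (U := V) hx
    exact ⟨W, hle, hxW, (e W (hle.trans hV) hW).le (J.map_mem hle hs)⟩
  exact le_antisymm (key e) (key fun W i hW => (e W i hW).symm)

theorem sect_ofLevel_affine (n : ℕ) (𝒜 : (𝔛.X n).IdealSheafData) {V : (𝔛.X 0).Opens} (hV : IsAffineOpen V) :
    (FBlow.ofLevel 𝔛 h n 𝒜).sect V =
      (𝒜.ideal ⟨𝔛.lvU h n V, affine_lvU (h := h) hV n⟩).comap (pr 𝔛 h V n) := by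
  ext s
  rw [FBlow.mem_ofLevel_iff, Ideal.mem_comap]
  exact memData_iff 𝒜 ⟨_, affine_lvU (h := h) hV n⟩ _

variable (h) in
theorem mem_map_ι (n : ℕ) (𝒜 : (𝔛.X n).IdealSheafData) {V : (𝔛.X 0).Opens} (hV : IsAffineOpen V)
    (a : LR 𝔛 h V (n + 1)) :
    a ∈ (𝒜.map (𝔛.ι n)).ideal ⟨_, affine_lvU (h := h) hV (n + 1)⟩ ↔
      tr 𝔛 h V n a ∈ 𝒜.ideal ⟨_, affine_lvU (h := h) hV n⟩ := by
  haveI := (h n).1
  have H : IsAffineOpen (𝔛.ι n ⁻¹ᵁ 𝔛.lvU h (n + 1) V) := (affine_lvU (h := h) hV (n + 1)).preimage _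
  rw [Scheme.IdealSheafData.ideal_map 𝒜 (𝔛.ι n) ⟨_, affine_lvU (h := h) hV (n + 1)⟩ H, Ideal.mem_comap]
  have key : ∀ (W : (𝔛.X n).Opens) (e : 𝔛.ι n ⁻¹ᵁ 𝔛.lvU h (n + 1) V = W) (hW : IsAffineOpen W),
      (((𝔛.ι n).app (𝔛.lvU h (n + 1) V)).hom a ∈ 𝒜.ideal ⟨_, H⟩ ↔
        ((𝔛.ι n).appLE _ W e.ge).hom a ∈ 𝒜.ideal ⟨W, hW⟩) := by
    rintro W rfl hW
    rw [← Scheme.Hom.app_eq_appLE]
  exact key _ (𝔛.lvU_succ h n V) (affine_lvU (h := h) hV n)

theorem ofLevel_succ (n : ℕ) (𝒜 : (𝔛.X n).IdealSheafData) (V : (𝔛.X 0).Opens) :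
    (FBlow.ofLevel 𝔛 h n 𝒜).sect V = (FBlow.ofLevel 𝔛 h (n + 1) (𝒜.map (𝔛.ι n))).sect V := by
  refine sect_ext_affine (U := ⊤) (fun W _ hW => ?_) V le_top
  rw [sect_ofLevel_affine n 𝒜 hW, sect_ofLevel_affine (n + 1) _ hW]
  ext s
  rw [Ideal.mem_comap, Ideal.mem_comap, mem_map_ι h n 𝒜 hW, tr_pr]

theorem exists_affine_lvU (n : ℕ) (W : (𝔛.X n).affineOpens) :
    ∃ (V : (𝔛.X 0).Opens) (hV : IsAffineOpen V),
      (⟨𝔛.lvU h n V, affine_lvU (h := h) hV n⟩ : (𝔛.X n).affineOpens) = W := by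
  haveI := 𝔛.toX_isClosedImmersion h n
  refine ⟨𝔛.toX n ⁻¹ᵁ W.1, W.2.preimage _, Subtype.ext (Opens.ext (Set.ext fun z => ?_))⟩
  have e : 𝔛.toX n (𝔛.gInv h n z) = z := congr($(𝔛.gInv_toX_base h n) z)
  show 𝔛.toX n (𝔛.gInv h n z) ∈ W.1 ↔ z ∈ W.1
  rw [e]

variable {R : Type u} [CommRing R] {I : Ideal R} (p : 𝔛 ⟶ FSch.spf R I) (hR : AdicRing.IsBase R I)
  (hp : FSch.IsAdicHom p)

include h hR hp in
theorem idealFT_map_ι (n : ℕ) (𝒜 : (𝔛.X n).IdealSheafData) (hFT : FSch.IdealFT 𝒜) :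
    FSch.IdealFT (𝒜.map (𝔛.ι n)) := fun W => by
  obtain ⟨V, hV, rfl⟩ := exists_affine_lvU (h := h) (n + 1) W
  have e : (𝒜.map (𝔛.ι n)).ideal ⟨_, affine_lvU (h := h) hV (n + 1)⟩ =
      (𝒜.ideal ⟨_, affine_lvU (h := h) hV n⟩).comap (tr 𝔛 h V n) := by
    ext a
    rw [Ideal.mem_comap]
    exact mem_map_ι h n 𝒜 hV a
  rw [e]
  refine fg_comap_of_surjective _ (FCompl.tr_surjective hV n) ?_ (hFT _)
  rw [ker_tr p hp hV n]
  exact ((AdicRingLib.isBase_fg hR).pow).map _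

include hR hp in
theorem exists_level_ge {J : FBlow.IdealSh (𝔛.Osh h)} {U : (𝔛.X 0).Opens} {n m : ℕ} (hnm : n ≤ m)
    {𝒜 : (𝔛.X n).IdealSheafData} (hFT : FSch.IdealFT 𝒜)
    (hJ : ∀ V : (𝔛.X 0).Opens, V ≤ U → J.sect V = (FBlow.ofLevel 𝔛 h n 𝒜).sect V) :
    ∃ 𝒜' : (𝔛.X m).IdealSheafData, FSch.IdealFT 𝒜' ∧
      ∀ V : (𝔛.X 0).Opens, V ≤ U → J.sect V = (FBlow.ofLevel 𝔛 h m 𝒜').sect V := by
  induction hnm with
  | refl => exact ⟨𝒜, hFT, hJ⟩
  | step _ ih =>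
    obtain ⟨𝒜', hFT', h'⟩ := ih
    exact ⟨_, idealFT_map_ι (h := h) p hR hp _ 𝒜' hFT', fun V hV => (h' V hV).trans (ofLevel_succ _ 𝒜' V)⟩

theorem le_map_comap_of_agree {X : Scheme.{u}} (B A : X.IdealSheafData) (O : X.Opens) [QuasiCompact O.ι]
    (W : X.affineOpens) (hAB : ∀ W' : X.affineOpens, W'.1 ≤ W.1 → W'.1 ≤ O → A.ideal W' = B.ideal W') :
    A.ideal W ≤ ((B.comap O.ι).map O.ι).ideal W := by
  intro a ha
  let g := (B.comap O.ι).subschemeι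
  show a ∈ (g ≫ O.ι).ker.ideal W
  rw [Scheme.Hom.ker_apply, RingHom.mem_ker]
  have key : ∀ z ∈ (g ≫ O.ι) ⁻¹ᵁ W.1, ∃ (D : (B.comap O.ι).subscheme.Opens) (k : D ≤ (g ≫ O.ι) ⁻¹ᵁ W.1),
      z ∈ D ∧ (g ≫ O.ι).appLE W.1 D k a = 0 := by
    intro z hz
    obtain ⟨W', hW', hzW', hW'le⟩ := Opens.isBasis_iff_nbhd.mp X.isBasis_affineOpens (U := W.1 ⊓ O)
      (x := (g ≫ O.ι) z) ⟨hz, (g z).2⟩
    have hW'W : W' ≤ W.1 := hW'le.trans inf_le_left
    have hW'O : W' ≤ O.ι.opensRange := by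
      rw [Scheme.Opens.opensRange_ι]; exact hW'le.trans inf_le_right
    have hW'' : IsAffineOpen (O.ι ⁻¹ᵁ W') := O.ι.isAffineOpen_iff_of_isOpenImmersion.1 (by
      rw [Scheme.Hom.image_preimage_eq_opensRange_inf, inf_eq_right.2 hW'O]; exact hW')
    have k : g ⁻¹ᵁ (O.ι ⁻¹ᵁ W') ≤ (g ≫ O.ι) ⁻¹ᵁ W.1 := fun w hw => hW'W hw
    refine ⟨g ⁻¹ᵁ (O.ι ⁻¹ᵁ W'), k, hzW', ?_⟩
    have h1 : X.presheaf.map (homOfLE hW'W).op a ∈ B.ideal ⟨W', hW'⟩ := by
      rw [← hAB ⟨W', hW'⟩ hW'W (hW'le.trans inf_le_right)]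
      exact A.ideal_le_comap_ideal (U := ⟨W', hW'⟩) (V := W) hW'W ha
    have h2 : (O.ι.appLE W' (O.ι ⁻¹ᵁ W') le_rfl).hom (X.presheaf.map (homOfLE hW'W).op a) ∈
        (B.comap O.ι).ideal ⟨_, hW''⟩ := by
      rw [IdealStalkLib.comap_ideal B O.ι hW' hW'' le_rfl]
      exact Ideal.mem_map_of_mem _ h1
    rw [← (B.comap O.ι).ker_subschemeι_app ⟨_, hW''⟩, RingHom.mem_ker] at h2
    refine Eq.trans ?_ h2
    rw [Scheme.Hom.app_eq_appLE]
    refine Eq.trans ?_ (ConcreteCategory.congr_hom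
      (Scheme.Hom.appLE_comp_appLE g O.ι W' (O.ι ⁻¹ᵁ W') (g ⁻¹ᵁ (O.ι ⁻¹ᵁ W')) le_rfl le_rfl) _).symm
    exact (ConcreteCategory.congr_hom (Scheme.Hom.map_appLE (g ≫ O.ι) (le_refl _) (homOfLE hW'W).op) a).symm
  choose D k hzD hD using key
  refine TopCat.Sheaf.eq_of_locally_eq' (B.comap O.ι).subscheme.sheaf
    (fun z : ((g ≫ O.ι) ⁻¹ᵁ W.1 : (B.comap O.ι).subscheme.Opens) => D z.1 z.2) ((g ≫ O.ι) ⁻¹ᵁ W.1)
    (fun z => homOfLE (k z.1 z.2)) (fun z hz => Opens.mem_iSup.2 ⟨⟨z, hz⟩, hzD z hz⟩) _ 0 fun z => ?_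
  rw [map_zero]
  refine Eq.trans ?_ (hD z.1 z.2)
  rfl

include hR hp in
theorem exists_global_level [CompactSpace (𝔛.X 0)] [QuasiSeparatedSpace (𝔛.X 0)] {J : FBlow.IdealSh (𝔛.Osh h)}
    (hJ : FBlow.IsCohOpen 𝔛 h J) :
    ∃ (N : ℕ) (𝒜 : (𝔛.X N).IdealSheafData), FSch.IdealFT 𝒜 ∧
      ∀ V : (𝔛.X 0).Opens, J.sect V = (FBlow.ofLevel 𝔛 h N 𝒜).sect V := by
  classical
  choose U hU n 𝒜₀ hxU hFT₀ hJU using fun x : 𝔛.X 0 => exists_affine_level hJ x
  obtain ⟨T, hT⟩ := isCompact_univ.elim_finite_subcover (fun x : 𝔛.X 0 => (U x : Set (𝔛.X 0))) (fun x => (U x).2)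
    (fun x _ => Set.mem_iUnion.2 ⟨x, hxU x⟩)
  let N := T.sup n
  choose! A hAft hA using fun x (hx : x ∈ T) => exists_level_ge p hR hp (Finset.le_sup (f := n) hx) (hFT₀ x) (hJU x)
  let O : 𝔛.X 0 → (𝔛.X N).Opens := fun x => 𝔛.lvU h N (U x)
  haveI : QuasiSeparatedSpace (𝔛.X N) :=
    QuasiSeparatedSpace.of_isOpenEmbedding (f := 𝔛.gInv h N)
      (TopCat.homeoOfIso (asIso (𝔛.gInv h N))).isOpenEmbedding
  have hqc : ∀ x, QuasiCompact (O x).ι := fun x => ⟨fun S hSo hS => by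
    rw [((O x).ι.isOpenEmbedding.isInducing.isCompact_iff)]
    show IsCompact ((O x).ι '' ((O x).ι ⁻¹' S))
    rw [Set.image_preimage_eq_inter_range, Scheme.Opens.range_ι]
    exact QuasiSeparatedSpace.inter_isCompact S (O x) hSo hS (O x).2 (affine_lvU (h := h) (hU x) N).isCompact⟩
  let K : 𝔛.X 0 → (𝔛.X N).IdealSheafData := fun x => ((A x).comap (O x).ι).map (O x).ι
  let 𝒜 := T.inf K
  have hid : ∀ x ∈ T, ∀ (V : (𝔛.X 0).Opens) (hV : IsAffineOpen V), V ≤ U x →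
      J.sect V = ((A x).ideal ⟨_, affine_lvU (h := h) hV N⟩).comap (pr 𝔛 h V N) := fun x hx V hV i => by
    rw [hA x hx V i, sect_ofLevel_affine N (A x) hV]
  have hagree : ∀ x ∈ T, ∀ y ∈ T, ∀ W' : (𝔛.X N).affineOpens, W'.1 ≤ O x → W'.1 ≤ O y →
      (A x).ideal W' = (A y).ideal W' := by
    intro x hx y hy W' hx' hy'
    obtain ⟨V, hV, rfl⟩ := exists_affine_lvU (h := h) N W'
    have hle : ∀ z, 𝔛.lvU h N V ≤ O z → V ≤ U z := fun z hz v hv => by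
      have e : 𝔛.gInv h N (𝔛.toX N v) = v := congr($(𝔛.toX_base_gInv h N) v)
      have h2 : 𝔛.gInv h N (𝔛.toX N v) ∈ U z := hz (show 𝔛.gInv h N (𝔛.toX N v) ∈ V from e.symm ▸ hv)
      rwa [e] at h2
    have h1 := (hid x hx V hV (hle x hx')).symm.trans (hid y hy V hV (hle y hy'))
    exact Ideal.comap_injective_of_surjective _ ((affPres p hR hp hV).1 N) h1
  have hideal : ∀ x ∈ T, ∀ W : (𝔛.X N).affineOpens, W.1 ≤ O x → 𝒜.ideal W = (A x).ideal W := by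
    intro x hx W hW
    refine le_antisymm ?_ ?_
    · refine ((Finset.inf_le hx : 𝒜 ≤ K x) W).trans ?_
      have key : ∀ (W₁ W₂ : (𝔛.X N).affineOpens), W₁ = W₂ → (K x).ideal W₁ = (A x).ideal W₁ →
          (K x).ideal W₂ ≤ (A x).ideal W₂ := by
        rintro W₁ _ rfl e
        exact e.le
      haveI := hqc x
      have hWr : W.1 ≤ (O x).ι.opensRange := by rw [Scheme.Opens.opensRange_ι]; exact hW
      let W'' : (O x : Scheme.{u}).affineOpens := ⟨(O x).ι ⁻¹ᵁ W.1, (O x).ι.isAffineOpen_iff_of_isOpenImmersion.1 (by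
        rw [Scheme.Hom.image_preimage_eq_opensRange_inf, inf_eq_right.2 hWr]; exact W.2)⟩
      have h1 : (K x).comap (O x).ι = (A x).comap (O x).ι := comap_map_of_isOpenImmersion _ _
      have h2 := congrArg (fun I : (O x : Scheme.{u}).IdealSheafData => I.ideal W'') h1
      simp only [Scheme.IdealSheafData.ideal_comap_of_isOpenImmersion] at h2
      have h3 := Ideal.comap_injective_of_surjective _
        (ConcreteCategory.bijective_of_isIso ((O x).ι.appIso W''.1).inv).2 h2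
      have e : (⟨(O x).ι ''ᵁ W''.1, W''.2.image_of_isOpenImmersion (O x).ι⟩ : (𝔛.X N).affineOpens) = W :=
        Subtype.ext (by
          show (O x).ι ''ᵁ ((O x).ι ⁻¹ᵁ W.1) = W.1
          rw [Scheme.Hom.image_preimage_eq_opensRange_inf, inf_eq_right.2 hWr])
      exact key _ _ e h3
    · refine Finset.inf_induction (p := fun I : (𝔛.X N).IdealSheafData => (A x).ideal W ≤ I.ideal W) le_top
        (fun I₁ h₁ I₂ h₂ => le_inf h₁ h₂) fun y hy => ?_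
      haveI := hqc y
      exact le_map_comap_of_agree (A y) (A x) (O y) W fun W' h₁ h₂ => hagree x hx y hy W' (h₁.trans hW) h₂
  have hcov : ∀ v : 𝔛.X 0, ∃ x ∈ T, v ∈ U x := fun v => by
    obtain ⟨x, hx, hv⟩ := Set.mem_iUnion₂.1 (hT (Set.mem_univ v))
    exact ⟨x, hx, hv⟩
  have hsect : ∀ x ∈ T, ∀ V : (𝔛.X 0).Opens, V ≤ U x → J.sect V = (FBlow.ofLevel 𝔛 h N 𝒜).sect V := fun x hx =>
    sect_ext_affine fun W i hW => by
      rw [hid x hx W hW i, sect_ofLevel_affine N 𝒜 hW, hideal x hx _ (FCompl.lvU_mono 𝔛 h i N)]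
  refine ⟨N, 𝒜, idealFT_of_local 𝒜 fun z => ?_, fun V => le_antisymm (fun s hs => ?_) fun s hs => ?_⟩
  · obtain ⟨x, hx, hzx⟩ := hcov (𝔛.gInv h N z)
    refine ⟨⟨O x, affine_lvU (h := h) (hU x) N⟩, hzx, fun f => ?_⟩
    rw [hideal x hx _ ((𝔛.X N).basicOpen_le f)]
    exact hAft x hx _
  · refine (FBlow.ofLevel 𝔛 h N 𝒜).mem_of_local fun v hv => ?_
    obtain ⟨x, hx, hvx⟩ := hcov v
    exact ⟨V ⊓ U x, inf_le_left, ⟨hv, hvx⟩, (hsect x hx _ inf_le_right).le (J.map_mem inf_le_left hs)⟩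
  · refine J.mem_of_local fun v hv => ?_
    obtain ⟨x, hx, hvx⟩ := hcov v
    exact ⟨V ⊓ U x, inf_le_left, ⟨hv, hvx⟩,
      (hsect x hx _ inf_le_right).ge ((FBlow.ofLevel 𝔛 h N 𝒜).map_mem inf_le_left hs)⟩

theorem noetherianSpace_primeSpectrum {B : Type u} [CommRing B] (L : Ideal B) (hL : L ≤ nilradical B)
    [IsNoetherianRing (B ⧸ L)] : NoetherianSpace (PrimeSpectrum B) := by
  refine noetherianSpace_of_surjective _ (PrimeSpectrum.continuous_comap (Ideal.Quotient.mk L)) fun P => ?_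
  have hP : P ∈ PrimeSpectrum.zeroLocus (L : Set B) :=
    (PrimeSpectrum.mem_zeroLocus P _).2 (hL.trans (nilradical_le_prime P.asIdeal))
  rw [show PrimeSpectrum.zeroLocus (L : Set B) = Set.range (PrimeSpectrum.comap (Ideal.Quotient.mk L)) by
    rw [range_comap_of_surjective _ _ Ideal.Quotient.mk_surjective, Ideal.mk_ker]] at hP
  exact hP

theorem isNoetherianRing_quot_nilradical (hR : AdicRing.IsBase R I) (k : ℕ) :
    IsNoetherianRing ((R ⧸ I ^ (k + 1)) ⧸ nilradical (R ⧸ I ^ (k + 1))) := by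
  rcases AdicRingLib.isBase_cases hR with ⟨hN, -⟩ | ⟨t, ht⟩
  · infer_instance
  have := ht.domain
  have := ht.pre
  have := ht.dim
  have : ValuationRing R := ⟨⟩
  let S := R ⧸ I ^ (k + 1)
  let φ : R →+* S := Ideal.Quotient.mk _
  haveI : Nontrivial S := Ideal.Quotient.nontrivial_iff.2 fun htop => ht.notUnit (by
    have h1 : I = ⊤ := top_le_iff.1 (htop.ge.trans (Ideal.pow_le_self (Nat.succ_ne_zero k)))
    rw [ht.eq] at h1
    exact Ideal.span_singleton_eq_top.1 h1)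
  haveI : IsLocalRing S := IsLocalRing.of_surjective' φ Ideal.Quotient.mk_surjective
  have hprime : ∀ P : Ideal S, P.IsPrime → P = IsLocalRing.maximalIdeal S := by
    intro P hP
    have htP : t ∈ P.comap φ := by
      refine (hP.comap φ).mem_of_pow_mem (k + 1) ?_
      show φ (t ^ (k + 1)) ∈ P
      rw [Ideal.Quotient.eq_zero_iff_mem.2 (Ideal.pow_mem_pow (ht.eq ▸ Ideal.mem_span_singleton_self t) (k + 1))]
      exact P.zero_mem
    have hne : P.comap φ ≠ ⊥ := fun he => ht.ne (by rwa [he, Ideal.mem_bot] at htP)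
    haveI := hP.comap φ
    haveI : (P.comap φ).IsMaximal := (hP.comap φ).isMaximal_of_ne_bot hne
    have h2 : ((P.comap φ).map φ).IsMaximal := by
      rcases Ideal.map_eq_top_or_isMaximal_of_surjective φ Ideal.Quotient.mk_surjective
        (inferInstance : (P.comap φ).IsMaximal) with h3 | h3
      · rw [Ideal.map_comap_of_surjective φ Ideal.Quotient.mk_surjective] at h3
        exact absurd h3 hP.ne_top
      · exact h3
    rw [Ideal.map_comap_of_surjective φ Ideal.Quotient.mk_surjective] at h2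
    exact IsLocalRing.eq_maximalIdeal h2
  have hnil : nilradical S = IsLocalRing.maximalIdeal S := by
    rw [nilradical_eq_sInf]
    exact le_antisymm (sInf_le (IsLocalRing.maximalIdeal.isMaximal S).isPrime)
      (le_sInf fun P hP => (hprime P hP).ge)
  rw [hnil]
  haveI := (IsLocalRing.maximalIdeal.isMaximal S)
  letI := Ideal.Quotient.field (IsLocalRing.maximalIdeal S)
  infer_instance

include hR in
theorem isCompact_of_le [LocallyOfFiniteType ((p : FSch.Hom 𝔛 (FSch.spf R I)).app 0)] {Y : (𝔛.X 0).Opens}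
    (hY : IsCompact (Y : Set (𝔛.X 0))) (O : (𝔛.X 0).Opens) (hO : O ≤ Y) : IsCompact (O : Set (𝔛.X 0)) := by
  classical
  have hnoeth : ∀ V : (𝔛.X 0).affineOpens, IsCompact ((O ⊓ V.1 : (𝔛.X 0).Opens) : Set (𝔛.X 0)) := fun V => by
    let S := R ⧸ I ^ (0 + 1)
    let φ : S →+* Γ(𝔛.X 0, V.1) := secHom ((p : FSch.Hom 𝔛 (FSch.spf R I)).app 0) V.1
    haveI := isNoetherianRing_quot_nilradical hR 0
    let L := (nilradical S).map φ
    have hL : L ≤ nilradical Γ(𝔛.X 0, V.1) := Ideal.map_le_iff_le_comap.2 fun a ha =>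
      Ideal.mem_comap.2 (IsNilpotent.map (mem_nilradical.1 ha) φ)
    have hft : φ.FiniteType := by
      show ((((p : FSch.Hom 𝔛 (FSch.spf R I)).app 0).appLE ⊤ V.1 le_top).hom.comp
        (Scheme.ΓSpecIso (CommRingCat.of S)).inv.hom).FiniteType
      exact (Scheme.Hom.finiteType_appLE _ (isAffineOpen_top (Spec (CommRingCat.of S))) V.2 le_top).comp
        (RingHom.FiniteType.of_surjective _
          (ConcreteCategory.bijective_of_isIso (Scheme.ΓSpecIso (CommRingCat.of S)).inv).2)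
    letI : Algebra (S ⧸ nilradical S) (Γ(𝔛.X 0, V.1) ⧸ L) :=
      (Ideal.quotientMap L φ Ideal.le_comap_map).toAlgebra
    haveI : Algebra.FiniteType (S ⧸ nilradical S) (Γ(𝔛.X 0, V.1) ⧸ L) :=
      RingHom.FiniteType.of_comp_finiteType (f := Ideal.Quotient.mk (nilradical S)) (by
        rw [Ideal.quotientMap_comp_mk]
        exact (RingHom.FiniteType.of_surjective _ Ideal.Quotient.mk_surjective).comp hft)
    haveI : IsNoetherianRing (Γ(𝔛.X 0, V.1) ⧸ L) := Algebra.FiniteType.isNoetherianRing (S ⧸ nilradical S) _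
    haveI := noetherianSpace_primeSpectrum L hL
    have h1 : IsCompact (V.2.fromSpec ⁻¹' ((O ⊓ V.1 : (𝔛.X 0).Opens) : Set (𝔛.X 0))) :=
      NoetherianSpace.isCompact (α := PrimeSpectrum Γ(𝔛.X 0, V.1)) _
    have h2 := h1.image V.2.fromSpec.continuous
    rw [Set.image_preimage_eq_inter_range, V.2.range_fromSpec] at h2
    have e : ((O ⊓ V.1 : (𝔛.X 0).Opens) : Set (𝔛.X 0)) =
        ((O ⊓ V.1 : (𝔛.X 0).Opens) : Set (𝔛.X 0)) ∩ (V.1 : Set (𝔛.X 0)) :=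
      (Set.inter_eq_left.2 fun _ hx => hx.2).symm
    rw [e]
    exact h2
  obtain ⟨T, hT⟩ := hY.elim_finite_subcover (fun V : (𝔛.X 0).affineOpens => (V.1 : Set (𝔛.X 0))) (fun V => V.1.2)
    (fun x _ => Set.mem_iUnion.2 (by
      obtain ⟨_, ⟨V, hV, rfl⟩, hxV, -⟩ :=
        (𝔛.X 0).isBasis_affineOpens.exists_subset_of_mem_open (Set.mem_univ x) isOpen_univ
      exact ⟨⟨V, hV⟩, hxV⟩))
  have e : (O : Set (𝔛.X 0)) = ⋃ V ∈ T, ((O ⊓ V.1 : (𝔛.X 0).Opens) : Set (𝔛.X 0)) := by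
    refine Set.Subset.antisymm (fun x hx => ?_) (Set.iUnion₂_subset fun V _ x hx => hx.1)
    obtain ⟨V, hV, hxV⟩ := Set.mem_iUnion₂.1 (hT (hO hx))
    exact Set.mem_iUnion₂.2 ⟨V, hV, hx, hxV⟩
  rw [e]
  exact T.isCompact_biUnion fun V _ => hnoeth V

end Groth.Agent.FBlowLib
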