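import Groth.Agent.FBlowLib.NoTorsion
import Groth.Agent.FBlowLib.CohPull
import Groth.Agent.FBlowLib.ShMul

/-!
# The composite of two admissible blow-ups
-/

set_option autoImplicit false
set_option linter.style.haveILetI false
set_option backward.isDefEq.respectTransparency false
set_option backward.isDefEq.respectTransparency.types false
set_option maxHeartbeats 1000000
universe u

open CategoryTheory CategoryTheory.Limits AlgebraicGeometry TopologicalSpace Opposite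

noncomputable section

namespace Groth.Agent.FBlowLib

open Groth.Agent.FCompl Groth.Agent.BlowChartLib

variable {R : Type u} [CommRing R] {I : Ideal R} {𝔛 : FSch.Sys.{u}} {h : 𝔛.IsFormal}
  (p : 𝔛 ⟶ FSch.spf R I) (hR : AdicRing.IsBase R I) (hp : FSch.IsAdicHom p)
  (hfp : ∀ n, LocallyOfFinitePresentation ((p : FSch.Hom 𝔛 (FSch.spf R I)).app n))
  (htf : ∀ (V : (𝔛.X 0).Opens) (s : (𝔛.Osh h).obj.obj (Opposite.op V)),
    (∀ a ∈ (FBlow.IdealSh.ker (𝔛.OshProj h 0)).sect V, a * s = 0) → s = 0)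

include hR hp hfp htf in
theorem isAdmBlowUp_mul {J K : FBlow.IdealSh (𝔛.Osh h)} (hJ : FBlow.IsCohOpen 𝔛 h J) (hK : FBlow.IsCohOpen 𝔛 h K)
    {𝔛' : FSch.Sys.{u}} {h' : 𝔛'.IsFormal} {b : 𝔛' ⟶ 𝔛} (hb : FBlow.IsAdmBlowUp b h' h J)
    {𝔛'' : FSch.Sys.{u}} {h'' : 𝔛''.IsFormal} {b' : 𝔛'' ⟶ 𝔛'}
    (hb' : FBlow.IsAdmBlowUp b' h'' h' (FBlow.idealMap b h' h K)) :
    FBlow.IsAdmBlowUp (b' ≫ b) h'' h (FBlow.IdealSh.mul J K) := by
  have hp' : FSch.IsAdicHom (b ≫ p) := isAdicHom_comp hb.1 hp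
  have htf' := noTorsion p hR hp hfp htf hJ hb
  have hfp' := lfp p hR hp hfp htf hJ hb
  have hK' : FBlow.IsCohOpen 𝔛' h' (FBlow.idealMap b h' h K) := isCohOpen_idealMap p hR hp b hb.1 hK
  have hJ' : FBlow.IsCohOpen 𝔛' h' (FBlow.idealMap b h' h J) := isCohOpen_idealMap p hR hp b hb.1 hJ
  have htf'' := noTorsion (b ≫ p) hR hp' hfp' htf' hK' hb'
  have hmul : ∀ {𝔜 : FSch.Sys.{u}} (hY : 𝔜.IsFormal) (g : 𝔜 ⟶ 𝔛),
      FBlow.idealMap g hY h (FBlow.IdealSh.mul J K) =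
        FBlow.IdealSh.mul (FBlow.idealMap g hY h J) (FBlow.idealMap g hY h K) := fun hY g =>
    map_mul' _ _ J K
  refine ⟨isAdicHom_comp hb'.1 hb.1, ?_, fun 𝔜 hY g hg hinv => ?_⟩
  · rw [hmul]
    refine isInvertible_mul ?_ ?_
    · rw [idealMap_comp h'' h' h]
      exact isInvertible_idealMap_of_noTorsion (b ≫ p) hR hp' b' hb'.1 htf'' hJ' hb.2.1
    · rw [idealMap_comp h'' h' h]
      exact hb'.2.1
  · rw [hmul] at hinv
    obtain ⟨k₁, hk₁, hu₁⟩ := hb.2.2 𝔜 hY g hg (isInvertible_of_mul hinv)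
    have hk₁a : FSch.IsAdicHom k₁ := isAdicHom_cancel (hk₁.symm ▸ hg) hb.1
    have hKi : (FBlow.idealMap k₁ hY h' (FBlow.idealMap b h' h K)).IsInvertible := by
      rw [← idealMap_comp hY h' h, hk₁]
      exact isInvertible_of_mul (mul_comm' _ _ ▸ hinv)
    obtain ⟨k₂, hk₂, hu₂⟩ := hb'.2.2 𝔜 hY k₁ hk₁a hKi
    refine ⟨k₂, ?_, fun k hk => hu₂ k (hu₁ _ ?_)⟩
    · show k₂ ≫ b' ≫ b = g
      rw [← Category.assoc, hk₂, hk₁]
    · show (k ≫ b') ≫ b = g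
      rw [Category.assoc]
      exact hk

end Groth.Agent.FBlowLib
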