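import Groth.Agent.FBlowLib.Extend
import Groth.Agent.FBlowLib.MulBlow

/-!
# Ideals given by a level: uniqueness, inverse images, products
-/

set_option autoImplicit false
set_option linter.style.haveILetI false
set_option backward.isDefEq.respectTransparency false
set_option backward.isDefEq.respectTransparency.types false
set_option maxHeartbeats 1000000
universe u

open CategoryTheory CategoryTheory.Limits AlgebraicGeometry TopologicalSpace Opposite

noncomputable section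

namespace Groth.Agent.FBlowLib

open Groth.Agent.FCompl Groth.Agent.BlowChartLib FBlow

variable {R : Type u} [CommRing R] {I : Ideal R} {𝔛 𝔛' : FSch.Sys.{u}} {h : 𝔛.IsFormal} {h' : 𝔛'.IsFormal}
  (p : 𝔛 ⟶ FSch.spf R I) (hR : AdicRing.IsBase R I) (hp : FSch.IsAdicHom p)

theorem ext_of_cover {J K : FBlow.IdealSh (𝔛.Osh h)}
    (e : ∀ x : 𝔛.X 0, ∃ U : (𝔛.X 0).Opens, x ∈ U ∧ ∀ V : (𝔛.X 0).Opens, V ≤ U → J.sect V = K.sect V) : J = K := by
  refine le_antisymm' (fun W s hs => K.mem_of_local fun x hx => ?_) (fun W s hs => J.mem_of_local fun x hx => ?_)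
  · obtain ⟨U, hxU, hU⟩ := e x
    exact ⟨W ⊓ U, inf_le_left, ⟨hx, hxU⟩, (hU _ inf_le_right).le (J.map_mem inf_le_left hs)⟩
  · obtain ⟨U, hxU, hU⟩ := e x
    exact ⟨W ⊓ U, inf_le_left, ⟨hx, hxU⟩, (hU _ inf_le_right).ge (K.map_mem inf_le_left hs)⟩

theorem ext_of_affine {J K : FBlow.IdealSh (𝔛.Osh h)}
    (e : ∀ V : (𝔛.X 0).Opens, IsAffineOpen V → J.sect V = K.sect V) : J = K :=
  ext_of_cover fun _ => ⟨⊤, trivial, fun V _ => sect_ext_affine (U := ⊤) (fun W _ hW => e W hW) V le_top⟩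

include hR hp in
/-- A level determines the ideal. -/
theorem level_unique {N : ℕ} {A B : (𝔛.X N).IdealSheafData}
    (e : FBlow.ofLevel 𝔛 h N A = FBlow.ofLevel 𝔛 h N B) : A = B := by
  refine Scheme.IdealSheafData.ext (funext fun W => ?_)
  obtain ⟨V, hV, rfl⟩ := exists_affine_lvU (h := h) N W
  have h1 := sect_ofLevel_affine (h := h) N A hV
  rw [e, sect_ofLevel_affine (h := h) N B hV] at h1
  exact Ideal.comap_injective_of_surjective _ ((affPres p hR hp hV).1 N) h1.symm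

theorem isCohOpen_ofLevel {N : ℕ} {A : (𝔛.X N).IdealSheafData} (hA : FSch.IdealFT A) :
    FBlow.IsCohOpen 𝔛 h (FBlow.ofLevel 𝔛 h N A) := fun _ => ⟨⊤, trivial, N, A, hA, fun _ _ => rfl⟩

theorem ofLevel_succ_eq (n : ℕ) (A : (𝔛.X n).IdealSheafData) :
    FBlow.ofLevel 𝔛 h n A = FBlow.ofLevel 𝔛 h (n + 1) (A.map (𝔛.ι n)) :=
  ext_of_cover fun _ => ⟨⊤, trivial, fun V _ => ofLevel_succ n A V⟩

include hR hp in
/-- An ideal given by one level is given by every higher level. -/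
theorem exists_level_of_le {J : FBlow.IdealSh (𝔛.Osh h)} {n m : ℕ} (hnm : n ≤ m) {A : (𝔛.X n).IdealSheafData}
    (hA : FSch.IdealFT A) (hJ : J = FBlow.ofLevel 𝔛 h n A) :
    ∃ A' : (𝔛.X m).IdealSheafData, FSch.IdealFT A' ∧ J = FBlow.ofLevel 𝔛 h m A' := by
  obtain ⟨A', hA', hJ'⟩ := exists_level_ge p hR hp (U := ⊤) hnm hA (J := J) (fun V _ => by rw [hJ])
  exact ⟨A', hA', ext_of_cover fun _ => ⟨⊤, trivial, fun V _ => hJ' V le_top⟩⟩

include hR hp in
/-- The inverse image of an ideal given by a level. -/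
theorem idealMap_level (b : 𝔛' ⟶ 𝔛) (hb : FSch.IsAdicHom b) (N : ℕ) (A : (𝔛.X N).IdealSheafData) :
    FBlow.idealMap b h' h (FBlow.ofLevel 𝔛 h N A) =
      FBlow.ofLevel 𝔛' h' N (A.comap ((b : FSch.Hom 𝔛' 𝔛).app N)) := by
  refine ext_of_cover fun x => ?_
  obtain ⟨U, hU, hxU, -⟩ := FCompl.exists_affine_le (𝔛 := 𝔛) (U := ⊤) (x := (b : FSch.Hom 𝔛' 𝔛).app 0 x) trivial
  exact ⟨_, hxU, fun V hV => idealMap_sect_eq p hR hp b hb hU (fun _ _ => rfl) hV⟩

/-- The ideal contains the `k`-th power of the ideal of definition on affine opens. -/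
def Deep (k : ℕ) (J : FBlow.IdealSh (𝔛.Osh h)) : Prop :=
  ∀ W : (𝔛.X 0).Opens, IsAffineOpen W → (I ^ k).map (ρB h p W) ≤ J.sect W

include hR hp in
theorem deep_ofLevel (n : ℕ) (A : (𝔛.X n).IdealSheafData) : Deep p (n + 1) (FBlow.ofLevel 𝔛 h n A) := by
  intro W hW
  rw [sect_ofLevel_affine n A hW]
  exact pow_le_lvIdeal p hR hp hW

include hR hp in
/-- The product of two ideals given by a level, when the level is deep enough. -/
theorem mul_level {N k l : ℕ} (hkl : k + l ≤ N + 1) (A B : (𝔛.X N).IdealSheafData)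
    (hA : Deep p k (FBlow.ofLevel 𝔛 h N A)) (hB : Deep p l (FBlow.ofLevel 𝔛 h N B)) :
    IdealSh.mul (FBlow.ofLevel 𝔛 h N A) (FBlow.ofLevel 𝔛 h N B) = FBlow.ofLevel 𝔛 h N (A * B) := by
  have key : ∀ (W : (𝔛.X 0).Opens), IsAffineOpen W → (FBlow.ofLevel 𝔛 h N (A * B)).sect W =
      (FBlow.ofLevel 𝔛 h N A).sect W * (FBlow.ofLevel 𝔛 h N B).sect W := by
    intro W hW
    obtain ⟨hsurj, hker, -⟩ := affPres p hR hp hW
    have hle : RingHom.ker (pr 𝔛 h W N) ≤ (FBlow.ofLevel 𝔛 h N A).sect W * (FBlow.ofLevel 𝔛 h N B).sect W := by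
      rw [hker N]
      refine (Ideal.map_mono (Ideal.pow_le_pow_right hkl)).trans ?_
      rw [pow_add, Ideal.map_mul]
      exact Ideal.mul_mono (hA W hW) (hB W hW)
    rw [← sup_eq_left.2 hle]
    show _ = _ ⊔ Ideal.comap _ ⊥
    rw [← Ideal.comap_map_of_surjective _ (hsurj N), Ideal.map_mul, sect_ofLevel_affine N A hW,
      sect_ofLevel_affine N B hW, sect_ofLevel_affine N (A * B) hW, Ideal.map_comap_of_surjective _ (hsurj N),
      Ideal.map_comap_of_surjective _ (hsurj N), Scheme.IdealSheafData.ideal_mul, Pi.mul_apply]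
  refine le_antisymm' (mul_le fun W a ha b hb => (FBlow.ofLevel 𝔛 h N (A * B)).mem_of_local fun x hx => ?_) fun W s hs => ?_
  · obtain ⟨V, hV, hxV, hle⟩ := FCompl.exists_affine_le (𝔛 := 𝔛) (U := W) hx
    refine ⟨V, hle, hxV, ?_⟩
    rw [key V hV, map_mul]
    exact Ideal.mul_mem_mul ((FBlow.ofLevel 𝔛 h N A).map_mem hle ha) ((FBlow.ofLevel 𝔛 h N B).map_mem hle hb)
  · refine (IdealSh.mul _ _).mem_of_local fun x hx => ?_
    obtain ⟨V, hV, hxV, hle⟩ := FCompl.exists_affine_le (𝔛 := 𝔛) (U := W) hx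
    refine ⟨V, hle, hxV, ?_⟩
    exact (Ideal.mul_le.2 fun a ha b hb => mul_mem_mul ha hb)
      ((key V hV).le ((FBlow.ofLevel 𝔛 h N (A * B)).map_mem hle hs))

theorem deep_mul {k l : ℕ} {J K : FBlow.IdealSh (𝔛.Osh h)} (hJ : Deep p k J) (hK : Deep p l K) :
    Deep p (k + l) (IdealSh.mul J K) := by
  intro W hW
  rw [pow_add, Ideal.map_mul]
  exact (Ideal.mul_mono (hJ W hW) (hK W hW)).trans (Ideal.mul_le.2 fun a ha b hb => mul_mem_mul ha hb)

theorem deep_mono {k l : ℕ} (hkl : k ≤ l) {J : FBlow.IdealSh (𝔛.Osh h)} (hJ : Deep p k J) : Deep p l J :=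
  fun W hW => (Ideal.map_mono (Ideal.pow_le_pow_right hkl)).trans (hJ W hW)

/-- The ideal `J · L^m`. -/
def tw (J L : FBlow.IdealSh (𝔛.Osh h)) : ℕ → FBlow.IdealSh (𝔛.Osh h)
  | 0 => J
  | m + 1 => IdealSh.mul (tw J L m) L

theorem deep_tw {k l : ℕ} {J L : FBlow.IdealSh (𝔛.Osh h)} (hJ : Deep p k J) (hL : Deep p l L) :
    ∀ m, Deep p (k + m * l) (tw J L m)
  | 0 => by rw [Nat.zero_mul, Nat.add_zero]; exact hJ
  | m + 1 => by rw [Nat.succ_mul, ← Nat.add_assoc]; exact deep_mul p (deep_tw hJ hL m) hL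

include hR hp in
/-- The level of `J · L^m`. -/
theorem tw_level {N k l : ℕ} (A B : (𝔛.X N).IdealSheafData) (hA : Deep p k (FBlow.ofLevel 𝔛 h N A))
    (hB : Deep p l (FBlow.ofLevel 𝔛 h N B)) :
    ∀ m, k + m * l ≤ N + 1 → tw (FBlow.ofLevel 𝔛 h N A) (FBlow.ofLevel 𝔛 h N B) m = FBlow.ofLevel 𝔛 h N (A * B ^ m)
  | 0, _ => by rw [pow_zero, mul_one]; rfl
  | m + 1, hm => by
    rw [Nat.succ_mul, ← Nat.add_assoc] at hm
    have e := tw_level A B hA hB m (le_trans le_self_add hm)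
    show IdealSh.mul (tw _ _ m) _ = _
    rw [e, mul_level p hR hp hm _ _ (e ▸ deep_tw p hA hB m) hB, pow_succ, mul_assoc]

theorem idealMap_tw {𝔜 : FSch.Sys.{u}} (hY : 𝔜.IsFormal) (g : 𝔜 ⟶ 𝔛) (J L : FBlow.IdealSh (𝔛.Osh h)) :
    ∀ m, FBlow.idealMap g hY h (tw J L m) = tw (FBlow.idealMap g hY h J) (FBlow.idealMap g hY h L) m
  | 0 => rfl
  | m + 1 => by
    show FBlow.idealMap g hY h (IdealSh.mul _ _) = IdealSh.mul _ _
    rw [← idealMap_tw hY g J L m]
    exact map_mul' _ _ _ _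

theorem isInvertible_of_tw {J L : FBlow.IdealSh (𝔛.Osh h)} : ∀ m, (tw J L m).IsInvertible → J.IsInvertible
  | 0, hJ => hJ
  | m + 1, hJ => isInvertible_of_tw m (isInvertible_of_mul hJ)

theorem isInvertible_tw {J L : FBlow.IdealSh (𝔛.Osh h)} (hJ : J.IsInvertible) (hL : L.IsInvertible) :
    ∀ m, (tw J L m).IsInvertible
  | 0 => hJ
  | m + 1 => isInvertible_mul (isInvertible_tw hJ hL m) hL

end Groth.Agent.FBlowLib
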