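import Groth.Agent.FBlowLib.AffPres
import Groth.Agent.FBlowLib.Functor

/-!
# An admissible blow-up over an affine open is the completion of a blow-up
-/

set_option autoImplicit false
set_option linter.style.haveILetI false
set_option backward.isDefEq.respectTransparency false
set_option backward.isDefEq.respectTransparency.types false
set_option maxHeartbeats 1000000
universe u

open CategoryTheory CategoryTheory.Limits AlgebraicGeometry TopologicalSpace Opposite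

noncomputable section

namespace Groth.Agent.FBlowLib

open Groth.Agent.FCompl Groth.Agent.BlowChartLib

lemma secHom_isoSpec {X : Scheme.{u}} {U : X.Opens} (hU : IsAffineOpen U) (V : (U : Scheme.{u}).Opens)
    (e : V ≤ U.ι ⁻¹ᵁ U) (a : Γ(X, U)) : secHom hU.isoSpec.hom V a = U.ι.appLE U V e a := by
  have h1 := Scheme.Hom.appLE_comp_appLE hU.isoSpec.hom hU.fromSpec U ⊤ V
    (by rw [hU.fromSpec_preimage_self]) (le_top (a := V))
  have h2 : hU.fromSpec.appLE U ⊤ (by rw [hU.fromSpec_preimage_self]) = (Scheme.ΓSpecIso Γ(X, U)).inv := by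
    rw [Scheme.Hom.appLE, hU.fromSpec_app_self, Category.assoc, ← Functor.map_comp]
    exact (congrArg (_ ≫ ·) ((congrArg _ (Subsingleton.elim _ (𝟙 _))).trans (CategoryTheory.Functor.map_id _ _))).trans
      (Category.comp_id _)
  have h3 : (hU.isoSpec.hom ≫ hU.fromSpec).appLE U V (by rw [hU.isoSpec_hom_fromSpec]; exact e) = U.ι.appLE U V e := by
    congr 1
    exact hU.isoSpec_hom_fromSpec
  rw [← h3]
  refine Eq.trans ?_ (ConcreteCategory.congr_hom h1 a)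
  rw [h2]
  rfl

lemma fg_comap_of_surjective {S T : Type u} [CommRing S] [CommRing T] (φ : S →+* T) (hφ : Function.Surjective φ)
    (hk : (RingHom.ker φ).FG) {M : Ideal T} (hM : M.FG) : (M.comap φ).FG := by
  classical
  obtain ⟨G, rfl⟩ := hM
  choose g hg using hφ
  have e : (Ideal.span (G : Set T)).comap φ = Ideal.span (g '' (G : Set T)) ⊔ RingHom.ker φ := by
    show _ = _ ⊔ Ideal.comap φ ⊥
    rw [← Ideal.comap_map_of_surjective φ (fun y => ⟨g y, hg y⟩), Ideal.map_span, ← Set.image_comp]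
    rw [show φ ∘ g = id from funext hg, Set.image_id]
  show ((Ideal.span (G : Set T)).comap φ).FG
  rw [e]
  exact Submodule.FG.sup (Submodule.fg_span (G.finite_toSet.image g)) hk

variable {R : Type u} [CommRing R] {I : Ideal R} {𝔛 : FSch.Sys.{u}} {h : 𝔛.IsFormal}

section Local

variable {U : (𝔛.X 0).Opens}

/-- The sections that reduce into the ideal of a level. -/
def lvIdeal (hU : IsAffineOpen U) (n : ℕ) (𝒜 : (𝔛.X n).IdealSheafData) : Ideal (OR 𝔛 h U) :=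
  (𝒜.ideal ⟨𝔛.lvU h n U, affine_lvU (h := h) hU n⟩).comap (pr 𝔛 h U n)

variable (p : 𝔛 ⟶ FSch.spf R I) (hR : AdicRing.IsBase R I) (hp : FSch.IsAdicHom p) (hU : IsAffineOpen U)
  {n : ℕ} {𝒜 : (𝔛.X n).IdealSheafData}

include hR hp in
theorem fg_lvIdeal (hFT : FSch.IdealFT 𝒜) : (lvIdeal (h := h) hU n 𝒜).FG := by
  obtain ⟨hsurj, hker, -⟩ := affPres p hR hp hU
  refine fg_comap_of_surjective _ (hsurj n) ?_ (hFT _)
  rw [hker n]
  exact ((AdicRingLib.isBase_fg hR).pow).map _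

include hR hp in
theorem pow_le_lvIdeal : (I ^ (n + 1)).map (ρB h p U) ≤ lvIdeal hU n 𝒜 := by
  obtain ⟨-, hker, -⟩ := affPres p hR hp hU
  rw [← hker n]
  exact fun a ha => Ideal.mem_comap.2 (by rw [RingHom.mem_ker.1 ha]; exact Ideal.zero_mem _)

variable {J : FBlow.IdealSh (𝔛.Osh h)} (hJ : ∀ V : (𝔛.X 0).Opens, V ≤ U → J.sect V = (FBlow.ofLevel 𝔛 h n 𝒜).sect V)

include hJ in
theorem lvIdeal_mem {a : OR 𝔛 h U} (ha : a ∈ lvIdeal hU n 𝒜) : a ∈ J.sect U := by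
  rw [hJ U le_rfl, FBlow.mem_ofLevel_iff, FBlow.IdealSh.mem_ofData_iff]
  intro x hx
  refine ⟨⟨_, affine_lvU (h := h) hU n⟩, le_rfl, hx, ?_⟩
  have e : ∀ s : Γ(𝔛.X n, 𝔛.lvU h n U), (𝔛.X n).presheaf.map (homOfLE (le_refl (𝔛.lvU h n U))).op s = s :=
    fun s => FBlow.IdealSh.map_id_apply (O := (𝔛.X n).sheaf) le_rfl s
  rw [e]
  exact ha

include hR hp hJ in
theorem exists_mem_map_lvIdeal {W : (𝔛.X 0).Opens} (hW : W ≤ U) {a : OR 𝔛 h W} (ha : a ∈ J.sect W) {z : 𝔛.X 0}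
    (hz : z ∈ W) :
    ∃ (V : (𝔛.X 0).Opens) (i : V ≤ W), z ∈ V ∧ rsO 𝔛 h i a ∈ (lvIdeal hU n 𝒜).map (rsO 𝔛 h (i.trans hW)) := by
  rw [hJ W hW, FBlow.mem_ofLevel_iff, FBlow.IdealSh.mem_ofData_iff] at ha
  have e0 : 𝔛.gInv h n (𝔛.toX n z) = z := congr($(𝔛.toX_base_gInv h n) z)
  obtain ⟨V', i', hzV', hV'⟩ := ha (𝔛.toX n z) (show 𝔛.gInv h n (𝔛.toX n z) ∈ W from e0.symm ▸ hz)
  obtain ⟨V, hV, hzV, hVle⟩ := FCompl.exists_affine_le (𝔛 := 𝔛) (U := W ⊓ 𝔛.toX n ⁻¹ᵁ V'.1) (x := z) ⟨hz, hzV'⟩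
  have i : V ≤ W := hVle.trans inf_le_left
  refine ⟨V, i, hzV, ?_⟩
  have k : 𝔛.lvU h n V ≤ V'.1 := by
    intro w hw
    have e1 : 𝔛.toX n (𝔛.gInv h n w) = w := congr($(𝔛.gInv_toX_base h n) w)
    rw [← e1]
    exact (hVle hw).2
  obtain ⟨hsurj, -, -⟩ := affPres p hR hp hV
  obtain ⟨hsurjU, hkerU, -⟩ := affPres p hR hp hU
  obtain ⟨-, hkerV, -⟩ := affPres p hR hp hV
  let r := rsO 𝔛 h (i.trans hW)
  have h1 : pr 𝔛 h V n (rsO 𝔛 h i a) ∈ 𝒜.ideal ⟨_, affine_lvU (h := h) hV n⟩ := by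
    have := FBlow.res_mem_ofData 𝒜 (V := V') (W := ⟨_, affine_lvU (h := h) hV n⟩) k hV'
    rw [FBlow.sch_map_comp_apply] at this
    rw [pr_rsO]
    exact this
  have h2 : 𝒜.ideal ⟨_, affine_lvU (h := h) hV n⟩ = ((lvIdeal hU n 𝒜).map r).map (pr 𝔛 h V n) := by
    rw [← 𝒜.map_ideal (U := ⟨_, affine_lvU (h := h) hV n⟩) (V := ⟨_, affine_lvU (h := h) hU n⟩)
      (FCompl.lvU_mono 𝔛 h (i.trans hW) n), Ideal.map_map,
      ← Ideal.map_comap_of_surjective _ (hsurjU n) (𝒜.ideal ⟨_, affine_lvU (h := h) hU n⟩), Ideal.map_map]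
    refine congrArg (fun φ : OR 𝔛 h U →+* LR 𝔛 h V n => (lvIdeal hU n 𝒜).map φ) (RingHom.ext fun s => ?_)
    exact (pr_rsO 𝔛 h (i.trans hW) n s).symm
  rw [h2, Ideal.mem_map_iff_of_surjective _ (hsurj n)] at h1
  obtain ⟨b, hb, hba⟩ := h1
  rw [← sub_add_cancel (rsO 𝔛 h i a) b]
  refine add_mem ?_ hb
  have h3 : rsO 𝔛 h i a - b ∈ (I ^ (n + 1)).map (ρB h p V) := by
    rw [← hkerV n, RingHom.mem_ker, map_sub, hba, sub_self]
  refine Ideal.map_mono (f := r) (pow_le_lvIdeal p hR hp hU) ?_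
  rw [Ideal.map_map, show r.comp (ρB h p U) = ρB h p V from
    RingHom.ext (rsO_img h (yB p) (yB_comm p) (i.trans hW))]
  exact h3

lemma secHom_lvSpec (m : ℕ) (W : ((𝔛.lvU h m U : (𝔛.X m).Opens) : Scheme.{u}).Opens)
    (e : W ≤ (𝔛.lvU h m U).ι ⁻¹ᵁ 𝔛.lvU h m U) (a : OR 𝔛 h U) :
    secHom (lvSpec h hU m) W a = (𝔛.lvU h m U).ι.appLE _ W e (pr 𝔛 h U m a) := by
  rw [lvSpec, secHom_comp_SpecMap, RingHom.comp_apply]
  exact secHom_isoSpec _ W e _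

variable (hS : (𝔛.restrictOpen h U).IsFormal)

lemma comm_lvSpec (m : ℕ) :
    (𝔛.restrictOpen h U).ι m ≫ lvSpec h hU (m + 1) = lvSpec h hU m := lvι_lvSpec h hU m

lemma img_lvSpec (W : ((𝔛.restrictOpen h U).X 0).Opens)
    (j : W ≤ (𝔛.restrictOpenι h U : FSch.Hom _ _).app 0 ⁻¹ᵁ U) (a : OR 𝔛 h U) :
    rsO _ hS j ((FSch.Hom.sharp (𝔛.restrictOpenι h U) hS h).hom.app (op U) a) =
      img hS (fun m => lvSpec h hU m) (comm_lvSpec hU) W a := by
  refine osh_ext fun m => ?_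
  rw [pr_rsO, pr_img]
  refine (congrArg _ (pr_sharp hS h (𝔛.restrictOpenι h U) U a m)).trans ?_
  refine (ConcreteCategory.congr_hom (Scheme.Hom.appLE_map _ _ _) (pr 𝔛 h U m a)).trans ?_
  exact (secHom_lvSpec hU m _ _ a).symm

include hR hp hJ in
/-- On an affine open the ideal is generated by its global sections there. -/
theorem idealMap_restrictOpenι :
    FBlow.idealMap (𝔛.restrictOpenι h U) hS h J =
      aSh hS (fun m => lvSpec h hU m) (comm_lvSpec hU) (lvIdeal hU n 𝒜) := by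
  let ι₀ := (𝔛.restrictOpenι h U : FSch.Hom _ _).app 0
  have hall : ∀ w : (𝔛.restrictOpen h U).X 0, ι₀ w ∈ U := fun w => (mem_lvU_zero h U _).1 w.2
  refine le_antisymm' (FBlow.IdealSh.map_le fun W a ha V j => ?_) (FBlow.IdealSh.gen_le ?_)
  · refine (aSh hS (fun m => lvSpec h hU m) (comm_lvSpec hU) (lvIdeal hU n 𝒜)).mem_of_local fun z hz => ?_
    let W' := W ⊓ U
    obtain ⟨V₃, i, hzV₃, h3⟩ := exists_mem_map_lvIdeal p hR hp hU hJ (inf_le_right : W' ≤ U)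
      (J.map_mem (inf_le_left : W' ≤ W) ha) (z := ι₀ z) ⟨j hz, hall z⟩
    let V' := V ⊓ ι₀ ⁻¹ᵁ V₃
    refine ⟨V', inf_le_left, ⟨hz, hzV₃⟩, map_img_le_aSh hS _ _ _ V' ?_⟩
    let S : OR 𝔛 h V₃ →+* OR _ hS V' := (rsO _ hS (inf_le_right : V' ≤ ι₀ ⁻¹ᵁ V₃)).comp
      ((FSch.Hom.sharp (𝔛.restrictOpenι h U) hS h).hom.app (op V₃)).hom
    have hSr : ∀ {W₀ : (𝔛.X 0).Opens} (k : V₃ ≤ W₀) (s : OR 𝔛 h W₀),
        S (rsO 𝔛 h k s) = rsO _ hS ((inf_le_right : V' ≤ ι₀ ⁻¹ᵁ V₃).trans (ι₀.preimage_mono k))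
          ((FSch.Hom.sharp (𝔛.restrictOpenι h U) hS h).hom.app (op W₀) s) := fun k s =>
      (congrArg (rsO _ hS (inf_le_right : V' ≤ ι₀ ⁻¹ᵁ V₃)) (ConcreteCategory.congr_hom
        ((FSch.Hom.sharp (𝔛.restrictOpenι h U) hS h).hom.naturality (homOfLE k).op) s)).trans
        (FBlow.IdealSh.map_comp_apply _ _ _)
    have e1 : S.comp (rsO 𝔛 h (i.trans inf_le_right)) = img hS (fun m => lvSpec h hU m) (comm_lvSpec hU) V' :=
      RingHom.ext fun s => (hSr _ s).trans (img_lvSpec hU hS V' _ s)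
    have h4 := Ideal.mem_map_of_mem S h3
    rw [Ideal.map_map, e1] at h4
    refine Eq.mp (congrArg (· ∈ _) ?_) h4
    exact (congrArg S (FBlow.IdealSh.map_comp_apply (inf_le_left : W' ≤ W) i a)).trans
      ((hSr (i.trans inf_le_left) a).trans (FBlow.IdealSh.map_comp_apply j inf_le_left _).symm)
  · rintro V _ ⟨a, ha, rfl⟩
    have j : V ≤ ι₀ ⁻¹ᵁ U := fun w _ => hall w
    rw [← img_lvSpec hU hS V j a]
    exact FBlow.IdealSh.image_mem_map ι₀.base (FSch.Hom.sharp (𝔛.restrictOpenι h U) hS h) J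
      (lvIdeal_mem hU hJ ha) j

end Local

end Groth.Agent.FBlowLib
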