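import Groth.Agent.FBlowLib.ComplNoTor
import Groth.Agent.FBlowLib.LocalModel
import Groth.Agent.S4599

/-!
# An admissible blow-up is admissible
-/

set_option autoImplicit false
set_option linter.style.haveILetI false
set_option backward.isDefEq.respectTransparency false
set_option backward.isDefEq.respectTransparency.types false
set_option maxHeartbeats 2000000
universe u

open CategoryTheory CategoryTheory.Limits AlgebraicGeometry TopologicalSpace Opposite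

noncomputable section

namespace Groth.Agent.FBlowLib

open Groth.Agent.FCompl Groth.Agent.BlowChartLib

lemma lfp_cancel {X Y Z : Scheme.{u}} (i : X ⟶ Y) (p : Y ⟶ Z) [LocallyOfFinitePresentation (i ≫ p)]
    [LocallyOfFiniteType p] : LocallyOfFinitePresentation i := by
  haveI : MorphismProperty.IsMultiplicative (@LocallyOfFinitePresentation.{u}) := { id_mem _ := inferInstance }
  haveI : MorphismProperty.HasOfPostcompProperty (@LocallyOfFinitePresentation.{u}) (@LocallyOfFiniteType.{u}) :=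
    MorphismProperty.hasOfPostcompProperty_iff_le_diagonal.mpr fun _ _ f (_ : LocallyOfFiniteType f) =>
      S4599.result f
  exact MorphismProperty.of_postcomp @LocallyOfFinitePresentation (W' := @LocallyOfFiniteType) i p ‹_› ‹_›

lemma lfp_completionToX {R : Type u} [CommRing R] {I : Ideal R} (hI : I.FG) {A : Type u} [CommRing A] [Algebra R A]
    {K : Ideal A} (hK : K = I.map (algebraMap R A)) {P : Scheme.{u}} (q : P ⟶ Spec (CommRingCat.of A)) (m : ℕ) :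
    LocallyOfFinitePresentation (FSch.completionToX P ((FSch.idealSpec A K).comap q) m) := by
  obtain ⟨η, hη⟩ := exists_spfIso K
  have h1 : LocallyOfFinitePresentation (FSch.spfToSpec A K m) := by
    show LocallyOfFinitePresentation (Spec.map (CommRingCat.ofHom (Ideal.Quotient.mk (K ^ (m + 1)))))
    rw [HasRingHomProperty.Spec_iff (P := @LocallyOfFinitePresentation)]
    exact RingHom.FinitePresentation.of_surjective _ Ideal.Quotient.mk_surjective
      (by rw [CommRingCat.hom_ofHom, Ideal.mk_ker, hK]; exact (hI.map _).pow)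
  haveI : IsIso ((η.hom : FSch.Hom _ _).app m) := ⟨(η.inv : FSch.Hom _ _).app m,
    congrArg (fun t => FSch.Hom.app t m) η.hom_inv_id, congrArg (fun t => FSch.Hom.app t m) η.inv_hom_id⟩
  rw [← hη m] at h1
  have h2 : LocallyOfFinitePresentation
      (FSch.completionToX (Spec (CommRingCat.of A)) (FSch.idealSpec A K) m) :=
    (MorphismProperty.cancel_left_of_respectsIso @LocallyOfFinitePresentation _ _).1 h1
  exact MorphismProperty.of_isPullback (S3875.h9_completion_square q (FSch.idealSpec A K)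
    (fun k => (S3857.comap_pow (FSch.idealSpec A K) q (k + 1)).le) m).flip h2

lemma lft_lvSpec {R : Type u} [CommRing R] {I : Ideal R} {𝔛 : FSch.Sys.{u}} {h : 𝔛.IsFormal}
    (p : 𝔛 ⟶ FSch.spf R I) (hR : AdicRing.IsBase R I) (hp : FSch.IsAdicHom p) {U : (𝔛.X 0).Opens}
    (hU : IsAffineOpen U) (m : ℕ) : LocallyOfFiniteType (lvSpec h hU m) := by
  haveI : IsClosedImmersion (Spec.map (CommRingCat.ofHom (pr 𝔛 h U m))) :=
    IsClosedImmersion.spec_of_surjective _ ((affPres p hR hp hU).1 m)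
  rw [lvSpec]
  infer_instance

variable {R : Type u} [CommRing R] {I : Ideal R} {𝔛 : FSch.Sys.{u}} {h : 𝔛.IsFormal}
  (p : 𝔛 ⟶ FSch.spf R I) (hR : AdicRing.IsBase R I) (hp : FSch.IsAdicHom p)
  (hfp : ∀ n, LocallyOfFinitePresentation ((p : FSch.Hom 𝔛 (FSch.spf R I)).app n))
  (htf : ∀ (V : (𝔛.X 0).Opens) (s : (𝔛.Osh h).obj.obj (Opposite.op V)),
    (∀ a ∈ (FBlow.IdealSh.ker (𝔛.OshProj h 0)).sect V, a * s = 0) → s = 0)
  {J : FBlow.IdealSh (𝔛.Osh h)} (hJ : FBlow.IsCohOpen 𝔛 h J)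
  {𝔛' : FSch.Sys.{u}} {h' : 𝔛'.IsFormal} {b : 𝔛' ⟶ 𝔛} (hb : FBlow.IsAdmBlowUp b h' h J)

include hR hp hfp htf hJ hb

/-- Each point of an admissible blow-up is in an open piece of a completed blow-up. -/
theorem exists_piece (x : 𝔛'.X 0) :
    ∃ (U : (𝔛.X 0).Opens) (hU : IsAffineOpen U),
      (b : FSch.Hom 𝔛' 𝔛).app 0 x ∈ U ∧
      ∃ (_ : letI := (ρB h p U).toAlgebra; AdicRing.Admissible R I (OR 𝔛 h U))
        (𝔞 : Ideal (OR 𝔛 h U)) (_ : 𝔞.FG) (P : Scheme.{u}) (q : P ⟶ Spec (CommRingCat.of (OR 𝔛 h U)))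
        (_ : BlowUp.IsBlowUp q (FSch.idealSpec (OR 𝔛 h U) 𝔞))
        (ε : 𝔛'.restrictOpen h' ((b : FSch.Hom 𝔛' 𝔛).app 0 ⁻¹ᵁ U) ≅
          FSch.completionAlong P ((FSch.idealSpec (OR 𝔛 h U) (I.map (ρB h p U))).comap q)),
        ∀ m, (ε.hom : FSch.Hom _ _).app m ≫
            FSch.completionToX P ((FSch.idealSpec (OR 𝔛 h U) (I.map (ρB h p U))).comap q) m ≫ q =
          (FSch.Hom.restrictOpen b h' h U : FSch.Hom _ _).app m ≫ lvSpec h hU m := by
  obtain ⟨U, hU, n, 𝒜, hxU, hFT, hU'⟩ := exists_affine_level hJ ((b : FSch.Hom 𝔛' 𝔛).app 0 x)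
  obtain ⟨hadm, hfg, -, P, q, hq, ε, hε⟩ := exists_local_model (p := p) hR hp hfp htf hb hFT hU hU'
  exact ⟨U, hU, hxU, hadm, _, hfg, P, q, hq, ε, hε⟩

theorem noTorsion (W : (𝔛'.X 0).Opens) (s : (𝔛'.Osh h').obj.obj (Opposite.op W))
    (hs : ∀ a ∈ (FBlow.IdealSh.ker (𝔛'.OshProj h' 0)).sect W, a * s = 0) : s = 0 := by
  suffices hloc : s ∈ (FBlow.IdealSh.bot (𝔛'.Osh h')).sect W from Ideal.mem_bot.1 hloc
  refine (FBlow.IdealSh.bot (𝔛'.Osh h')).mem_of_local fun x hx => ?_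
  obtain ⟨U, hU, hxU, hadm, 𝔞, h𝔞, P, q, hq, ε, hε⟩ := exists_piece p hR hp hfp htf hJ hb x
  letI := (ρB h p U).toAlgebra
  obtain ⟨⟨r, φ, hφ, -⟩, htfA⟩ := hadm
  have hA : AdicRing.TopFiniteType R I (OR 𝔛 h U) := ⟨r, φ, hφ⟩
  let K := I.map (ρB h p U)
  let C := FSch.completionAlong P ((FSch.idealSpec (OR 𝔛 h U) K).comap q)
  have hC : C.IsFormal := isFormal_completion _ _
  let U' := (b : FSch.Hom 𝔛' 𝔛).app 0 ⁻¹ᵁ U
  let ι' := 𝔛'.restrictOpenι h' U'
  let f : C ⟶ 𝔛' := ε.inv ≫ ι'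
  haveI : ∀ m, IsOpenImmersion ((f : FSch.Hom _ _).app m) := fun m => by
    haveI : IsIso ((ε.inv : FSch.Hom _ _).app m) := ⟨(ε.hom : FSch.Hom _ _).app m,
      congrArg (fun t => FSch.Hom.app t m) ε.inv_hom_id, congrArg (fun t => FSch.Hom.app t m) ε.hom_inv_id⟩
    haveI := restrictOpenι_open h' U' m
    show IsOpenImmersion ((ε.inv : FSch.Hom _ _).app m ≫ (ι' : FSch.Hom _ _).app m)
    infer_instance
  let p₀ := FSch.completionToX P ((FSch.idealSpec (OR 𝔛 h U) K).comap q) 0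
  let f₀ := (f : FSch.Hom _ _).app 0
  obtain ⟨z, hz⟩ : ∃ z, f₀ z = x := by
    let x' : (𝔛'.restrictOpen h' U').X 0 := ⟨x, (mem_lvU_zero h' U' x).2 hxU⟩
    refine ⟨(ε.hom : FSch.Hom _ _).app 0 x', ?_⟩
    have e : (ε.hom : FSch.Hom _ _).app 0 ≫ f₀ = (ι' : FSch.Hom _ _).app 0 := by
      show (ε.hom : FSch.Hom _ _).app 0 ≫ (ε.inv : FSch.Hom _ _).app 0 ≫ _ = _
      rw [← Category.assoc, show (ε.hom : FSch.Hom _ _).app 0 ≫ (ε.inv : FSch.Hom _ _).app 0 = 𝟙 _ from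
        congrArg (fun t => FSch.Hom.app t 0) ε.hom_inv_id, Category.id_comp]
    exact (congr($e x') : _)
  haveI : IsClosedImmersion p₀ := inferInstanceAs (IsClosedImmersion (Scheme.IdealSheafData.subschemeι _))
  obtain ⟨O, hO, hOW⟩ := p₀.isClosedEmbedding.isInducing.isOpen_iff.1 (f₀ ⁻¹ᵁ W).2
  have hzO : p₀ z ∈ O := by
    have : z ∈ p₀ ⁻¹' O := by
      rw [hOW]
      show f₀ z ∈ W
      rw [hz]
      exact hx
    exact this
  obtain ⟨V, hV, hzV, hVO⟩ := Opens.isBasis_iff_nbhd.mp P.isBasis_affineOpens (U := ⟨O, hO⟩) hzO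
  let V' := p₀ ⁻¹ᵁ V
  have hV'W : V' ≤ f₀ ⁻¹ᵁ W := by
    intro w hw
    have : w ∈ p₀ ⁻¹' O := hVO hw
    rw [hOW] at this
    exact this
  let W₁ := f₀ ''ᵁ V'
  have i₁ : W₁ ≤ W := by
    rintro _ ⟨w, hw, rfl⟩
    exact hV'W hw
  have hpre : f₀ ⁻¹ᵁ W₁ = V' := Scheme.Hom.preimage_image_eq f₀ V'
  refine ⟨W₁, i₁, ⟨z, hzV, hz⟩, Ideal.mem_bot.2 ?_⟩
  let T : OR 𝔛' h' W₁ →+* OR C hC V' :=
    (rsO C hC hpre.ge).comp ((FSch.Hom.sharp f hC h').hom.app (op W₁)).hom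
  have hT : Function.Injective T := by
    show Function.Injective (⇑(rsO C hC hpre.ge) ∘ ⇑((FSch.Hom.sharp f hC h').hom.app (op W₁)).hom)
    refine Function.Injective.comp ?_ (sharp_bijective_of_open hC h' f W₁
      (by rintro _ ⟨w, -, rfl⟩; exact ⟨w, rfl⟩)).1
    have : ∀ (V₁ : (C.X 0).Opens) (e : f₀ ⁻¹ᵁ W₁ = V₁), Function.Injective (rsO C hC e.ge) := by
      rintro _ rfl a c hac
      have e1 : ∀ t, rsO C hC (le_refl (f₀ ⁻¹ᵁ W₁)) t = t := fun t => FBlow.IdealSh.map_id_apply _ t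
      exact ((e1 a).symm.trans hac).trans (e1 c)
    exact this V' hpre
  haveI := locallyOfFinitePresentation_blowUp hR hA htfA h𝔞 hq
  refine hT ((completion_noTor q K hC hR hA rfl hV
    (noTor_blowUp (AdicRingLib.isBase_fg hR) htfA hq V) _ fun a ha => ?_).trans (map_zero T).symm)
  let y' := yB (b ≫ p)
  have hy' := yB_comm (b ≫ p)
  have h1 : img h' y' hy' W a * s = 0 := by
    refine hs _ (RingHom.mem_ker.2 ?_)
    refine (pr_img h' y' hy' W a 0).trans ?_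
    exact Ideal.mem_bot.1 ((map_pow_eq_bot (b ≫ p) 0 _).le (Ideal.mem_map_of_mem _ (by simpa using ha)))
  have h2 : img h' y' hy' W₁ a * rsO 𝔛' h' i₁ s = 0 := by
    rw [← rsO_img h' y' hy' i₁, ← map_mul, h1, map_zero]
  let yC : ∀ m, C.X m ⟶ Spec (CommRingCat.of R) := fun m => (f : FSch.Hom _ _).app m ≫ y' m
  have hyC := comp_comm f y' hy'
  have hy : ∀ m, yC m = (FSch.completionToX P ((FSch.idealSpec (OR 𝔛 h U) K).comap q) m ≫ q) ≫
      Spec.map (CommRingCat.ofHom (ρB h p U)) := fun m => by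
    haveI : IsIso ((ε.hom : FSch.Hom _ _).app m) := ⟨(ε.inv : FSch.Hom _ _).app m,
      congrArg (fun t => FSch.Hom.app t m) ε.hom_inv_id, congrArg (fun t => FSch.Hom.app t m) ε.inv_hom_id⟩
    rw [← cancel_epi ((ε.hom : FSch.Hom _ _).app m), ← Category.assoc _ (_ ≫ q), hε m, Category.assoc,
      lvSpec_img h (yB_comm p) hU m]
    show (ε.hom : FSch.Hom _ _).app m ≫ (((ε.inv : FSch.Hom _ _).app m ≫ (ι' : FSch.Hom _ _).app m) ≫
      ((b : FSch.Hom _ _).app m ≫ (p : FSch.Hom _ _).app m) ≫ FSch.spfToSpec R I m) =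
      (FSch.Hom.restrictOpen b h' h U : FSch.Hom _ _).app m ≫ (𝔛.lvU h m U).ι ≫
        (p : FSch.Hom _ _).app m ≫ FSch.spfToSpec R I m
    simp only [← Category.assoc]
    congr 2
    rw [show (ε.hom : FSch.Hom _ _).app m ≫ (ε.inv : FSch.Hom _ _).app m = 𝟙 _ from
      congrArg (fun t => FSch.Hom.app t m) ε.hom_inv_id, Category.id_comp]
    exact (Scheme.Hom.resLE_comp_ι _ _).symm
  have e : FComplTF.shHom hC V (secHom q V (algebraMap R (OR 𝔛 h U) a)) = T (img h' y' hy' W₁ a) := by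
    refine Eq.trans ?_ ((congrArg (rsO C hC hpre.ge)
      (sharp_img hC yC hyC h' y' hy' f (fun m => rfl) W₁ a)).trans (rsO_img hC yC hyC hpre.ge a)).symm
    refine (img_eq_sh q K hC V _).symm.trans (osh_ext fun m => ?_)
    rw [pr_img, pr_img, hy m, secHom_comp_SpecMap]
    rfl
  show FComplTF.shHom hC V (secHom q V (algebraMap R (OR 𝔛 h U) a)) * T (rsO 𝔛' h' i₁ s) = 0
  rw [e, ← map_mul, h2, map_zero]

theorem lfp (m : ℕ) : LocallyOfFinitePresentation ((b ≫ p : FSch.Hom 𝔛' (FSch.spf R I)).app m) := by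
  have hcov : ∀ z : 𝔛'.X m, ∃ O : (𝔛'.X m).Opens, z ∈ O ∧
      LocallyOfFinitePresentation (O.ι ≫ (b ≫ p : FSch.Hom 𝔛' (FSch.spf R I)).app m) := fun z => by
    obtain ⟨U, hU, hxU, hadm, 𝔞, h𝔞, P, q, hq, ε, hε⟩ := exists_piece p hR hp hfp htf hJ hb (𝔛'.gInv h' m z)
    refine ⟨𝔛'.lvU h' m ((b : FSch.Hom 𝔛' 𝔛).app 0 ⁻¹ᵁ U), hxU, ?_⟩
    letI := (ρB h p U).toAlgebra
    obtain ⟨⟨r, φ, hφ, -⟩, htfA⟩ := hadm
    haveI := locallyOfFinitePresentation_blowUp hR ⟨r, φ, hφ⟩ htfA h𝔞 hq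
    haveI := lfp_completionToX (AdicRingLib.isBase_fg hR) (K := I.map (ρB h p U)) rfl q m
    haveI : IsIso ((ε.hom : FSch.Hom _ _).app m) := ⟨(ε.inv : FSch.Hom _ _).app m,
      congrArg (fun t => FSch.Hom.app t m) ε.hom_inv_id, congrArg (fun t => FSch.Hom.app t m) ε.inv_hom_id⟩
    haveI := lft_lvSpec (h := h) p hR hp hU m
    haveI : LocallyOfFinitePresentation ((FSch.Hom.restrictOpen b h' h U : FSch.Hom _ _).app m ≫ lvSpec h hU m) := by
      rw [← hε m]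
      infer_instance
    haveI := lfp_cancel ((FSch.Hom.restrictOpen b h' h U : FSch.Hom _ _).app m) (lvSpec h hU m)
    haveI := hfp m
    have e : (𝔛'.lvU h' m ((b : FSch.Hom 𝔛' 𝔛).app 0 ⁻¹ᵁ U)).ι ≫
        ((b : FSch.Hom _ _).app m ≫ (p : FSch.Hom _ _).app m) =
        (FSch.Hom.restrictOpen b h' h U : FSch.Hom _ _).app m ≫ ((𝔛.lvU h m U).ι ≫ (p : FSch.Hom _ _).app m) := by
      rw [← Category.assoc, ← Category.assoc]
      exact congrArg (· ≫ _) (Scheme.Hom.resLE_comp_ι _ _).symm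
    show LocallyOfFinitePresentation (_ ≫ ((b : FSch.Hom _ _).app m ≫ (p : FSch.Hom _ _).app m))
    rw [e]
    infer_instance
  choose O hzO hO using hcov
  let 𝒰 : (𝔛'.X m).OpenCover := Scheme.Cover.mkOfCovers ↥(𝔛'.X m) (fun z => (O z : Scheme.{u}))
    (fun z => (O z).ι) (fun z => ⟨z, ⟨z, hzO z⟩, rfl⟩) (fun z => inferInstanceAs (IsOpenImmersion (O z).ι))
  exact (IsZariskiLocalAtSource.iff_of_openCover 𝒰).2 hO

end Groth.Agent.FBlowLib
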