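import Groth.Agent.FBlowLib.LevelTools
import Groth.Agent.FBlowLib.NoTorsion
import Groth.Agent.BlowTwistLib.Descend

/-!
# The twist of an ideal on an admissible blow-up over an affine open
-/

set_option autoImplicit false
set_option linter.style.haveILetI false
set_option backward.isDefEq.respectTransparency false
set_option backward.isDefEq.respectTransparency.types false
set_option maxHeartbeats 1000000
universe u

open CategoryTheory CategoryTheory.Limits AlgebraicGeometry TopologicalSpace Opposite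

noncomputable section

namespace Groth.Agent.FBlowLib

open Groth.Agent.FCompl Groth.Agent.BlowChartLib

theorem idealFT_idealSpec {A : Type u} [CommRing A] {𝔞 : Ideal A} (h𝔞 : 𝔞.FG) :
    FSch.IdealFT (FSch.idealSpec A 𝔞) := fun V => by
  rw [← (FSch.idealSpec A 𝔞).map_ideal (U := V) (V := ⟨⊤, isAffineOpen_top _⟩) (le_top (a := V.1)),
    S3873.idealSpec_top]
  exact (h𝔞.map _).map _

theorem comap_map_closed' {X Y : Scheme.{u}} (B : X.IdealSheafData) (g : X ⟶ Y) [IsClosedImmersion g] :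
    (B.map g).comap g = B := by
  refine Scheme.IdealSheafData.ext_of_iSup_eq_top
    (fun V : Y.affineOpens => (⟨g ⁻¹ᵁ V.1, V.2.preimage g⟩ : X.affineOpens)) ?_ fun V => ?_
  · refine top_le_iff.1 fun x _ => ?_
    obtain ⟨V, hV, hxV, -⟩ := Opens.isBasis_iff_nbhd.mp Y.isBasis_affineOpens (U := (⊤ : Y.Opens)) (x := g x) trivial
    exact Opens.mem_iSup.2 ⟨⟨V, hV⟩, hxV⟩
  · rw [IdealStalkLib.comap_ideal (B.map g) g V.2 (V.2.preimage g) le_rfl,
      Scheme.IdealSheafData.ideal_map B g V (V.2.preimage g), ← Scheme.Hom.app_eq_appLE]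
    exact Ideal.map_comap_of_surjective _ (g.app_surjective V.1 V.2) _

theorem idealFT_map_closed {X Y : Scheme.{u}} {B : X.IdealSheafData} (g : X ⟶ Y) [IsClosedImmersion g]
    (hB : FSch.IdealFT B) (hg : FSch.IdealFT g.ker) : FSch.IdealFT (B.map g) := fun V => by
  rw [Scheme.IdealSheafData.ideal_map B g V (V.2.preimage g)]
  refine fg_comap_of_surjective _ (g.app_surjective V.1 V.2) ?_ (hB _)
  rw [← Scheme.Hom.ker_apply]
  exact hg V

theorem le_comap_map_resLE {X X' : Scheme.{u}} (f : X' ⟶ X) [QuasiCompact f] (U : X.Opens) (W : X'.Opens)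
    (hW : f ⁻¹ᵁ U = W) (K : X'.IdealSheafData) (D : (U : Scheme.{u}).IdealSheafData)
    (hD : D.comap (f.resLE U W hW.ge) = K.comap W.ι) : K.comap W.ι ≤ ((K.map f).comap f).comap W.ι := by
  subst hW
  rw [Scheme.Hom.resLE_eq_morphismRestrict] at hD
  exact BlowTwistLib.le_comap_map_of_restrict f U K D hD

variable {R : Type u} [CommRing R] {I : Ideal R} {𝔛 : FSch.Sys.{u}} {h : 𝔛.IsFormal}
  (p : 𝔛 ⟶ FSch.spf R I) (hR : AdicRing.IsBase R I) (hp : FSch.IsAdicHom p)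

include hR hp in
/-- An ideal of a level over an affine open comes from the spectrum of the sections. -/
theorem comap_lvSpec {U : (𝔛.X 0).Opens} (hU : IsAffineOpen U) (N : ℕ) (A : (𝔛.X N).IdealSheafData) :
    A.comap (𝔛.lvU h N U).ι = (FSch.idealSpec (OR 𝔛 h U) (lvIdeal hU N A)).comap (lvSpec h hU N) := by
  have hUN := affine_lvU (h := h) hU N
  haveI : IsAffine (𝔛.lvU h N U) := hUN
  refine Scheme.IdealSheafData.ext_of_isAffine ?_
  have e1 : (⊤ : (𝔛.lvU h N U : Scheme.{u}).Opens) ≤ (𝔛.lvU h N U).ι ⁻¹ᵁ 𝔛.lvU h N U := fun w _ => w.2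
  rw [IdealStalkLib.comap_ideal A _ hUN (isAffineOpen_top _) e1,
    IdealStalkLib.comap_ideal (FSch.idealSpec (OR 𝔛 h U) (lvIdeal hU N A)) (lvSpec h hU N)
      (isAffineOpen_top (Spec (CommRingCat.of (OR 𝔛 h U)))) (isAffineOpen_top _) le_top,
    S3873.idealSpec_top, Ideal.map_map]
  show _ = (lvIdeal hU N A).map (secHom (lvSpec h hU N) ⊤)
  have e2 : secHom (lvSpec h hU N) ⊤ = (((𝔛.lvU h N U).ι.appLE _ ⊤ e1).hom).comp (pr 𝔛 h U N) := by
    rw [lvSpec, secHom_comp_SpecMap]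
    refine congrArg (fun φ => RingHom.comp φ (pr 𝔛 h U N)) (RingHom.ext fun a => ?_)
    exact secHom_isoSpec hUN ⊤ e1 a
  rw [e2, ← Ideal.map_map, lvIdeal, Ideal.map_comap_of_surjective _ ((affPres p hR hp hU).1 N)]

variable (hfp : ∀ n, LocallyOfFinitePresentation ((p : FSch.Hom 𝔛 (FSch.spf R I)).app n))
  (htf : ∀ (V : (𝔛.X 0).Opens) (s : (𝔛.Osh h).obj.obj (Opposite.op V)),
    (∀ a ∈ (FBlow.IdealSh.ker (𝔛.OshProj h 0)).sect V, a * s = 0) → s = 0)
  {J : FBlow.IdealSh (𝔛.Osh h)} {𝔛' : FSch.Sys.{u}} {h' : 𝔛'.IsFormal} {b : 𝔛' ⟶ 𝔛}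
  (hb : FBlow.IsAdmBlowUp b h' h J)

include hR hp hfp htf hb

/-- Over an affine open, a high twist of an ideal given by a level descends to the base at every deeper level. -/
theorem exists_piece_twist {n : ℕ} {A : (𝔛.X n).IdealSheafData} (hA : FSch.IdealFT A)
    (hJ : J = FBlow.ofLevel 𝔛 h n A) {J' : FBlow.IdealSh (𝔛'.Osh h')} {A' : (𝔛'.X n).IdealSheafData}
    (hA' : FSch.IdealFT A') (hJ' : J' = FBlow.ofLevel 𝔛' h' n A') {U : (𝔛.X 0).Opens} (hU : IsAffineOpen U) :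
    ∃ m₀ : ℕ, ∀ m, m₀ ≤ m → ∀ N, n ≤ N → ∀ [QuasiCompact ((b : FSch.Hom 𝔛' 𝔛).app N)]
      (AN : (𝔛.X N).IdealSheafData) (A'N : (𝔛'.X N).IdealSheafData),
      J = FBlow.ofLevel 𝔛 h N AN → J' = FBlow.ofLevel 𝔛' h' N A'N →
      (A'N * (AN.comap ((b : FSch.Hom 𝔛' 𝔛).app N)) ^ m).comap (𝔛'.lvU h' N ((b : FSch.Hom 𝔛' 𝔛).app 0 ⁻¹ᵁ U)).ι ≤
        ((((A'N * (AN.comap ((b : FSch.Hom 𝔛' 𝔛).app N)) ^ m).map ((b : FSch.Hom 𝔛' 𝔛).app N))).comap
          ((b : FSch.Hom 𝔛' 𝔛).app N)).comap (𝔛'.lvU h' N ((b : FSch.Hom 𝔛' 𝔛).app 0 ⁻¹ᵁ U)).ι := by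
  have hJU : ∀ V : (𝔛.X 0).Opens, V ≤ U → J.sect V = (FBlow.ofLevel 𝔛 h n A).sect V := fun V _ => by rw [hJ]
  obtain ⟨-, h𝔞, -, P, q, hq, ε, hε⟩ := exists_local_model (p := p) hR hp hfp htf hb hA hU hJU
  let 𝔞 := lvIdeal (h := h) hU n A
  let K := I.map (ρB h p U)
  let U' := (b : FSch.Hom 𝔛' 𝔛).app 0 ⁻¹ᵁ U
  let 𝔚 := 𝔛'.restrictOpen h' U'
  have hW : 𝔚.IsFormal := restrict_isFormal h' U'
  let ι' : 𝔚 ⟶ 𝔛' := 𝔛'.restrictOpenι h' U'
  have hι' : FSch.IsAdicHom ι' := isAdicHom_restrictOpenι (hX := h') U'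
  have hpW : FSch.IsAdicHom (ι' ≫ b ≫ p) := isAdicHom_comp hι' (isAdicHom_comp hb.1 hp)
  let g : ∀ N, 𝔚.X N ⟶ P := fun N => (ε.hom : FSch.Hom _ _).app N ≫
    FSch.completionToX P ((FSch.idealSpec (OR 𝔛 h U) K).comap q) N
  haveI hiso : ∀ N, IsIso ((ε.hom : FSch.Hom _ _).app N) := fun N => ⟨(ε.inv : FSch.Hom _ _).app N,
      congrArg (fun t => FSch.Hom.app t N) ε.hom_inv_id, congrArg (fun t => FSch.Hom.app t N) ε.inv_hom_id⟩
  haveI hg : ∀ N, IsClosedImmersion (g N) := fun N => by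
    haveI : IsClosedImmersion (FSch.completionToX P ((FSch.idealSpec (OR 𝔛 h U) K).comap q) N) :=
      inferInstanceAs (IsClosedImmersion (Scheme.IdealSheafData.subschemeι _))
    show IsClosedImmersion (_ ≫ _)
    infer_instance
  have hcomm : ∀ N, 𝔚.ι N ≫ g (N + 1) = g N := fun N => by
    show 𝔚.ι N ≫ (ε.hom : FSch.Hom _ _).app (N + 1) ≫ _ = (ε.hom : FSch.Hom _ _).app N ≫ _
    rw [← Category.assoc, ← ((ε.hom : FSch.Hom _ _).comm N), Category.assoc]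
    exact congrArg (_ ≫ ·) (Scheme.IdealSheafData.inclusion_subschemeι _)
  have hgq : ∀ N, g N ≫ q = (FSch.Hom.restrictOpen b h' h U : FSch.Hom _ _).app N ≫ lvSpec h hU N := fun N =>
    (Category.assoc _ _ _).trans (hε N)
  let Bn : (𝔚.X n).IdealSheafData := A'.comap (𝔛'.lvU h' n U').ι
  have hBn : FSch.IdealFT Bn := fg_comap A' _ hA'
  let JW := FBlow.idealMap ι' hW h' J'
  have hlev : ∀ N (A'N : (𝔛'.X N).IdealSheafData), J' = FBlow.ofLevel 𝔛' h' N A'N →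
      JW = FBlow.ofLevel 𝔚 hW N (A'N.comap (𝔛'.lvU h' N U').ι) := fun N A'N hN => by
    show FBlow.idealMap ι' hW h' J' = _
    rw [hN]
    exact idealMap_level (h := h') (h' := hW) (b ≫ p) hR (isAdicHom_comp hb.1 hp) ι' hι' N A'N
  let ℭ := Bn.map (g n)
  have hℭ : ∀ N, n ≤ N → ∀ B : (𝔚.X N).IdealSheafData, JW = FBlow.ofLevel 𝔚 hW N B → B.map (g N) = ℭ := by
    intro N hN
    induction hN with
    | refl =>
      intro B hB
      rw [level_unique (h := hW) (ι' ≫ b ≫ p) hR hpW (hB.symm.trans (hlev n A' hJ'))]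
    | @step N hN ih =>
      intro B hB
      obtain ⟨B₀, -, hB₀⟩ := exists_level_of_le (h := hW) (ι' ≫ b ≫ p) hR hpW hN hBn (hlev n A' hJ')
      rw [level_unique (h := hW) (ι' ≫ b ≫ p) hR hpW (hB.symm.trans (hB₀.trans (ofLevel_succ_eq N B₀))),
        ← Scheme.IdealSheafData.map_comp, hcomm N]
      exact ih B₀ hB₀
  have hℭft : BlowUp.IsFiniteTypeIdeal ℭ := idealFT_map_closed (g n) hBn (by
    show FSch.IdealFT (((ε.hom : FSch.Hom _ _).app n ≫
      FSch.completionToX P ((FSch.idealSpec (OR 𝔛 h U) K).comap q) n).ker)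
    rw [Scheme.Hom.ker_comp_of_isIso, Scheme.IdealSheafData.ker_subschemeι]
    exact BlowTwistLib.idealFT_pow (fg_comap _ _ (idealFT_idealSpec ((AdicRingLib.isBase_fg hR).map _))) _)
  obtain ⟨m₀, hm₀⟩ := BlowTwistLib.exists_comap_map_eq hq (idealFT_idealSpec h𝔞) ℭ hℭft
  refine ⟨m₀, fun m hm N hN _ AN A'N hAN hA'N => ?_⟩
  let bN := (b : FSch.Hom 𝔛' 𝔛).app N
  let W := 𝔛'.lvU h' N U'
  have hWpre : bN ⁻¹ᵁ 𝔛.lvU h N U = W := FSch.Hom.lvU_preimage b h' h N U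
  refine le_comap_map_resLE bN _ W hWpre _
    (((ℭ * ((FSch.idealSpec (OR 𝔛 h U) 𝔞).comap q) ^ m).map q).comap (lvSpec h hU N)) ?_
  have e1 : (A'N.comap W.ι) = ℭ.comap (g N) := by
    rw [← hℭ N hN _ (hlev N A'N hA'N)]
    exact (comap_map_closed' _ (g N)).symm
  have e0 : lvIdeal (h := h) hU N AN = 𝔞 := by
    have h1 := sect_ofLevel_affine (h := h) n A hU
    have h2 := sect_ofLevel_affine (h := h) N AN hU
    rw [← hJ] at h1
    rw [← hAN] at h2
    exact h2.symm.trans h1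
  have e2 : (AN.comap bN).comap W.ι = ((FSch.idealSpec (OR 𝔛 h U) 𝔞).comap q).comap (g N) := by
    rw [← Scheme.IdealSheafData.comap_comp _ (g N) q, hgq N, Scheme.IdealSheafData.comap_comp, ← e0,
      ← comap_lvSpec p hR hp hU N AN, ← Scheme.IdealSheafData.comap_comp, ← Scheme.IdealSheafData.comap_comp]
    refine congrArg (fun t => AN.comap t) ?_
    exact (Scheme.Hom.resLE_comp_ι _ _).symm
  rw [← Scheme.IdealSheafData.comap_comp]
  have e3 : bN.resLE (𝔛.lvU h N U) W hWpre.ge ≫ lvSpec h hU N = g N ≫ q := (hgq N).symm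
  rw [e3, Scheme.IdealSheafData.comap_comp, hm₀ m hm, BlowCompLib.comap_mul, BlowCompLib.comap_mul,
    S3857.comap_pow, S3857.comap_pow, ← e1, ← e2]

end Groth.Agent.FBlowLib
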