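import Groth.Agent.FBlowLib.LevelTools
import Groth.Agent.FBlowLib.Exist
import Groth.Agent.BlowTwistLib.Descend

/-!
# Locally finite products of coherent open ideals
-/

set_option autoImplicit false
set_option linter.style.haveILetI false
set_option backward.isDefEq.respectTransparency false
set_option backward.isDefEq.respectTransparency.types false
set_option maxHeartbeats 1000000
universe u

open CategoryTheory CategoryTheory.Limits AlgebraicGeometry TopologicalSpace Opposite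

noncomputable section

namespace Groth.Agent.FBlowLib

open Groth.Agent.FCompl Groth.Agent.BlowChartLib FBlow

section Sheaf

variable {T : TopCat.{u}} {O : Sheaf (Opens.grothendieckTopology T) CommRingCat.{u}}

/-- Products over equal opens of a family agree. -/
theorem mul_congr_on {J J' K K' : IdealSh O} {U : Opens T} (hJ : ∀ V, V ≤ U → J.sect V = J'.sect V)
    (hK : ∀ V, V ≤ U → K.sect V = K'.sect V) {V : Opens T} (hV : V ≤ U) :
    (IdealSh.mul J K).sect V ≤ (IdealSh.mul J' K').sect V := fun s hs => by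
  refine (IdealSh.mul J' K').mem_of_local fun x hx => ?_
  obtain ⟨W, i, hxW, hW⟩ := exists_span_seed_of_mem_mul hs hx
  refine ⟨W, i, hxW, (Ideal.span_le.2 ?_) hW⟩
  rintro _ ⟨a, ha, b, hb, rfl⟩
  exact mul_mem_mul ((hJ W (i.trans hV)).le ha) ((hK W (i.trans hV)).le hb)

variable {ι : Type u} (J : ι → IdealSh O)

/-- The product of finitely many ideals. -/
def fprod (S : Finset ι) : IdealSh O :=
  IdealSh.gen fun W => {t | ∃ a : ι → O.obj.obj (op W), (∀ j ∈ S, a j ∈ (J j).sect W) ∧ t = ∏ j ∈ S, a j}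

theorem fprod_anti {S S' : Finset ι} (h : S ⊆ S') : fprod J S' ≤ fprod J S :=
  IdealSh.gen_le fun W => by
    classical
    rintro _ ⟨a, ha, rfl⟩
    rw [← Finset.prod_sdiff h]
    exact Ideal.mul_mem_left _ _ (IdealSh.subset_gen _ W ⟨a, fun j hj => ha j (h hj), rfl⟩)

theorem fprod_le_of_top {S S' : Finset ι} (h : S ⊆ S') {U : Opens T}
    (htop : ∀ j ∈ S', j ∉ S → ∀ V, V ≤ U → (J j).sect V = ⊤) {V : Opens T} (hV : V ≤ U) :
    (fprod J S).sect V ≤ (fprod J S').sect V := fun s hs => by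
  classical
  refine (fprod J S').mem_of_local fun x hx => ?_
  obtain ⟨W, i, hxW, hW⟩ := hs x hx
  refine ⟨W, i, hxW, (Ideal.span_le.2 ?_) hW⟩
  rintro _ ⟨W', j', _, ⟨a, ha, rfl⟩, rfl⟩
  refine IdealSh.subset_gen _ W ⟨fun j => if j ∈ S then rs O j' (a j) else 1, fun j hj => ?_, ?_⟩
  · by_cases hjS : j ∈ S
    · simp only [if_pos hjS]; exact (J j).map_mem j' (ha j hjS)
    · rw [htop j hj hjS W (i.trans hV)]; trivial
  · show (rs O j') (∏ j ∈ S, a j) = _
    rw [map_prod, ← Finset.prod_subset h fun j _ hjS => if_neg hjS]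
    exact Finset.prod_congr rfl fun j hj => (if_pos hj).symm

theorem fprod_empty : fprod J (∅ : Finset ι) = IdealSh.top O :=
  le_antisymm' (fun _ _ _ => trivial) fun W s _ => by
    rw [← mul_one s]
    exact Ideal.mul_mem_left _ _ (IdealSh.subset_gen _ W ⟨fun _ => 1, by simp, by simp⟩)

theorem fprod_insert [DecidableEq ι] {i : ι} {S : Finset ι} (hi : i ∉ S) :
    fprod J (insert i S) = IdealSh.mul (J i) (fprod J S) := by
  refine le_antisymm' (IdealSh.gen_le fun W => ?_) (mul_le fun W a ha b hb => ?_)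
  · rintro _ ⟨a, ha, rfl⟩
    rw [Finset.prod_insert hi]
    exact mul_mem_mul (ha i (Finset.mem_insert_self _ _))
      (IdealSh.subset_gen _ W ⟨a, fun j hj => ha j (Finset.mem_insert_of_mem hj), rfl⟩)
  · refine (fprod J (insert i S)).mem_of_local fun x hx => ?_
    obtain ⟨V, k, hxV, hV⟩ := hb x hx
    refine ⟨V, k, hxV, ?_⟩
    have e : O.obj.map (homOfLE k).op (a * b) = rs O k a * rs O k b := map_mul _ _ _
    rw [e]
    suffices hle : Ideal.span {rs O k a} * Ideal.span (IdealSh.seed _ V) ≤ (fprod J (insert i S)).sect V from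
      hle (Ideal.mul_mem_mul (Ideal.mem_span_singleton_self _) hV)
    rw [Ideal.span_mul_span', Ideal.span_le]
    rintro _ ⟨_, rfl, _, ⟨W', j', _, ⟨c, hc, rfl⟩, rfl⟩, rfl⟩
    refine IdealSh.subset_gen _ V ⟨fun j => if j = i then rs O k a else rs O j' (c j), fun j hj => ?_, ?_⟩
    · by_cases hji : j = i
      · subst hji; simp only [if_pos]; exact (J j).map_mem k ha
      · simp only [if_neg hji]
        exact (J j).map_mem j' (hc j ((Finset.mem_insert.1 hj).resolve_left hji))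
    · show rs O k a * rs O j' (∏ j ∈ S, c j) = _
      rw [Finset.prod_insert hi, if_pos rfl, map_prod]
      exact congrArg (_ * ·) (Finset.prod_congr rfl fun j hj => (if_neg (fun he : j = i => hi (he ▸ hj))).symm)

/-- A locally finite product of ideals. -/
def lfprod : IdealSh O where
  sect W := ⨅ S : Finset ι, (fprod J S).sect W
  map_mem i s hs := by
    rw [Ideal.mem_iInf] at hs ⊢
    exact fun S => (fprod J S).map_mem i (hs S)
  mem_of_local hs := by
    rw [Ideal.mem_iInf]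
    refine fun S => (fprod J S).mem_of_local fun x hx => ?_
    obtain ⟨V, i, hxV, hV⟩ := hs x hx
    exact ⟨V, i, hxV, Ideal.mem_iInf.1 hV S⟩

theorem lfprod_sect_eq (S₀ : Finset ι) {U : Opens T} (htop : ∀ j ∉ S₀, ∀ V, V ≤ U → (J j).sect V = ⊤) {V : Opens T}
    (hV : V ≤ U) : (lfprod J).sect V = (fprod J S₀).sect V := by
  classical
  refine le_antisymm (iInf_le (fun S => (fprod J S).sect V) S₀) (le_iInf fun S => ?_)
  exact (fprod_le_of_top J Finset.subset_union_left (fun j _ hj => htop j hj) hV).trans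
    (fprod_anti J Finset.subset_union_right V)

end Sheaf

variable {R : Type u} [CommRing R] {I : Ideal R} {𝔛 : FSch.Sys.{u}} {h : 𝔛.IsFormal}
  (p : 𝔛 ⟶ FSch.spf R I) (hR : AdicRing.IsBase R I) (hp : FSch.IsAdicHom p)

include hR hp in
/-- The product of two coherent open ideals is a coherent open ideal. -/
theorem isCohOpen_mul {J K : FBlow.IdealSh (𝔛.Osh h)} (hJ : FBlow.IsCohOpen 𝔛 h J) (hK : FBlow.IsCohOpen 𝔛 h K) :
    FBlow.IsCohOpen 𝔛 h (IdealSh.mul J K) := by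
  intro x
  obtain ⟨U₁, hxU₁, n₁, A₁, hA₁, h₁⟩ := hJ x
  obtain ⟨U₂, hxU₂, n₂, A₂, hA₂, h₂⟩ := hK x
  let N := (n₁ + 1) + (n₂ + 1)
  obtain ⟨B₁, hB₁, e₁⟩ := exists_level_of_le (h := h) p hR hp (show n₁ ≤ N by omega) hA₁ rfl
  obtain ⟨B₂, hB₂, e₂⟩ := exists_level_of_le (h := h) p hR hp (show n₂ ≤ N by omega) hA₂ rfl
  have e := mul_level (h := h) p hR hp (k := n₁ + 1) (l := n₂ + 1) (show n₁ + 1 + (n₂ + 1) ≤ N + 1 by omega) B₁ B₂
    (by rw [← e₁]; exact deep_ofLevel p hR hp n₁ A₁) (by rw [← e₂]; exact deep_ofLevel p hR hp n₂ A₂)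
  refine ⟨U₁ ⊓ U₂, ⟨hxU₁, hxU₂⟩, N, B₁ * B₂, BlowTwistLib.idealFT_mul hB₁ hB₂, fun V hV => ?_⟩
  rw [← e, ← e₁, ← e₂]
  exact le_antisymm (mul_congr_on (fun V hV => h₁ V (hV.trans inf_le_left)) (fun V hV => h₂ V (hV.trans inf_le_right)) hV)
    (mul_congr_on (fun V hV => (h₁ V (hV.trans inf_le_left)).symm) (fun V hV => (h₂ V (hV.trans inf_le_right)).symm) hV)

theorem isCohOpen_top : FBlow.IsCohOpen 𝔛 h (IdealSh.top (𝔛.Osh h)) := fun x => by
  refine ⟨⊤, trivial, 0, ⊤, fun W => ?_, fun V _ => ?_⟩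
  · rw [Scheme.IdealSheafData.ideal_top]; exact ⟨{1}, by simp⟩
  · refine sect_ext_affine (U := ⊤) (fun W _ hW => ?_) V le_top
    rw [sect_ofLevel_affine 0 _ hW, Scheme.IdealSheafData.ideal_top]
    exact Ideal.comap_top.symm

include hR hp in
theorem isCohOpen_fprod {ι : Type u} (J : ι → FBlow.IdealSh (𝔛.Osh h)) (hJ : ∀ i, FBlow.IsCohOpen 𝔛 h (J i))
    (S : Finset ι) : FBlow.IsCohOpen 𝔛 h (fprod J S) := by
  classical
  induction S using Finset.induction with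
  | empty => rw [fprod_empty]; exact isCohOpen_top
  | insert i S hi ih => rw [fprod_insert J hi]; exact isCohOpen_mul p hR hp (hJ i) ih

/-- The inverse image to an open depends only on the sections over that open. -/
theorem idealMap_restrict_congr {U : (𝔛.X 0).Opens} (hU : (𝔛.restrictOpen h U).IsFormal)
    {J K : FBlow.IdealSh (𝔛.Osh h)} (e : ∀ V, V ≤ U → J.sect V = K.sect V) :
    FBlow.idealMap (𝔛.restrictOpenι h U) hU h J = FBlow.idealMap (𝔛.restrictOpenι h U) hU h K := by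
  have key : ∀ {J K : FBlow.IdealSh (𝔛.Osh h)}, (∀ V, V ≤ U → J.sect V ≤ K.sect V) →
      FBlow.idealMap (𝔛.restrictOpenι h U) hU h J ≤ FBlow.idealMap (𝔛.restrictOpenι h U) hU h K := by
    intro J K e
    refine FBlow.IdealSh.map_le fun W a ha V j => ?_
    let ι₀ := (𝔛.restrictOpenι h U : FSch.Hom _ _).app 0
    have hall : ∀ w : (𝔛.restrictOpen h U).X 0, ι₀ w ∈ U := fun w => (mem_lvU_zero h U _).1 w.2
    have j' : V ≤ ι₀ ⁻¹ᵁ (W ⊓ U) := fun z hz => ⟨j hz, hall z⟩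
    have h1 := IdealSh.image_mem_map ι₀.base (FSch.Hom.sharp (𝔛.restrictOpenι h U) hU h) K
      (e _ inf_le_right (J.map_mem (inf_le_left : W ⊓ U ≤ W) ha)) j'
    refine Eq.mp (congrArg (· ∈ _) ?_) h1
    refine (congrArg (rsO _ hU j') (ConcreteCategory.congr_hom
      ((FSch.Hom.sharp (𝔛.restrictOpenι h U) hU h).hom.naturality (homOfLE (inf_le_left : W ⊓ U ≤ W)).op) a)).trans ?_
    exact FBlow.IdealSh.map_comp_apply _ _ _
  exact le_antisymm' (key fun V hV => (e V hV).le) (key fun V hV => (e V hV).ge)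

theorem isInvertible_of_fprod {ι : Type u} (J : ι → FBlow.IdealSh (𝔛.Osh h)) {𝔜 : FSch.Sys.{u}} (hY : 𝔜.IsFormal)
    (g : 𝔜 ⟶ 𝔛) {S : Finset ι} {i : ι} (hi : i ∈ S)
    (hinv : (FBlow.idealMap g hY h (fprod J S)).IsInvertible) : (FBlow.idealMap g hY h (J i)).IsInvertible := by
  classical
  rw [← Finset.insert_erase hi, fprod_insert J (Finset.notMem_erase i S),
    show FBlow.idealMap g hY h (IdealSh.mul _ _) = IdealSh.mul _ _ from map_mul' _ _ _ _] at hinv
  exact isInvertible_of_mul hinv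

include hR hp in
/-- Admissible blow-ups of the members of a locally finite cover are dominated by one admissible blow-up. -/
theorem exists_blowUp_glue [QuasiSeparatedSpace (𝔛.X 0)]
    (hfp : ∀ n, LocallyOfFinitePresentation ((p : FSch.Hom 𝔛 (FSch.spf R I)).app n))
    (htf : ∀ (W : (𝔛.X 0).Opens) (s : (𝔛.Osh h).obj.obj (Opposite.op W)),
      (∀ a ∈ (FBlow.IdealSh.ker (𝔛.OshProj h 0)).sect W, a * s = 0) → s = 0)
    {ι : Type u} (V : ι → (𝔛.X 0).Opens) (hV : (⨆ i, V i) = ⊤) (hVc : ∀ i, IsCompact (V i : Set (𝔛.X 0)))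
    (hVf : ∀ i, Set.Finite {j : ι | V i ⊓ V j ≠ ⊥}) (hVi : ∀ i, (𝔛.restrictOpen h (V i)).IsFormal)
    (Ji : ∀ i, FBlow.IdealSh ((𝔛.restrictOpen h (V i)).Osh (hVi i)))
    (hJi : ∀ i, FBlow.IsCohOpen (𝔛.restrictOpen h (V i)) (hVi i) (Ji i))
    (𝔛i : ι → FSch.Sys.{u}) (hi : ∀ i, (𝔛i i).IsFormal) (bi : ∀ i, 𝔛i i ⟶ 𝔛.restrictOpen h (V i))
    (hbi : ∀ i, FBlow.IsAdmBlowUp (bi i) (hi i) (hVi i) (Ji i)) :
    ∃ (J : FBlow.IdealSh (𝔛.Osh h)) (𝔛' : FSch.Sys.{u}) (h' : 𝔛'.IsFormal) (b : 𝔛' ⟶ 𝔛),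
      FBlow.IsCohOpen 𝔛 h J ∧ FBlow.IsAdmBlowUp b h' h J ∧
      ∀ i, ∃! k : 𝔛'.restrictOpen h' (((b : FSch.Hom 𝔛' 𝔛).app 0) ⁻¹ᵁ (V i)) ⟶ 𝔛i i,
        k ≫ bi i = FSch.Hom.restrictOpen b h' h (V i) := by
  classical
  haveI := hfp 0
  have hqp : ∃ (ι : Type u) (V : ι → (𝔛.X 0).Opens), (⨆ i, V i) = ⊤ ∧ (∀ i, IsCompact (V i : Set (𝔛.X 0))) ∧
      ∀ i, Set.Finite {j : ι | V i ⊓ V j ≠ ⊥} := ⟨ι, V, hV, hVc, hVf⟩
  choose Je hJe hres htop using fun i =>
    exists_coh_extension p hR hp hqp (V i) (hVc i) (hVi i) (Ji i) (hJi i)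
  let S₀ : ι → Finset ι := fun i => insert i (hVf i).toFinset
  have hloc : ∀ i, ∀ W, W ≤ V i → (lfprod Je).sect W = (fprod Je (S₀ i)).sect W := fun i W hW => by
    refine lfprod_sect_eq Je (S₀ i) (U := V i) (fun j hj W hW => htop j W (le_bot_iff.1 ?_)) hW
    have hj' : V i ⊓ V j = ⊥ := by
      by_contra hne
      exact hj (Finset.mem_insert_of_mem ((hVf i).mem_toFinset.2 hne))
    exact hj' ▸ inf_le_inf_right (V j) hW
  have hJ : FBlow.IsCohOpen 𝔛 h (lfprod Je) := fun x => by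
    obtain ⟨i, hxi⟩ := Opens.mem_iSup.1 (hV.ge (Opens.mem_top x))
    obtain ⟨U, hxU, n, A, hA, hU⟩ := isCohOpen_fprod p hR hp Je hJe (S₀ i) x
    exact ⟨U ⊓ V i, ⟨hxU, hxi⟩, n, A, hA, fun W hW =>
      (hloc i W (hW.trans inf_le_right)).trans (hU W (hW.trans inf_le_left))⟩
  obtain ⟨𝔛', h', b, hb⟩ := exists_isAdmBlowUp p hR hp hfp htf hJ
  refine ⟨lfprod Je, 𝔛', h', b, hJ, hb, fun i => ?_⟩
  have hW := restrict_isFormal h' ((b : FSch.Hom 𝔛' 𝔛).app 0 ⁻¹ᵁ V i)
  have hr := isAdmBlowUp_restrict hb (V i) (hVi i) hW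
  refine (hbi i).2.2 _ hW _ hr.1 ?_
  have h1 := hr.2.1
  rw [idealMap_restrict_congr (hVi i) (hloc i), ← idealMap_comp hW (hVi i) h] at h1
  have h2 := isInvertible_of_fprod Je hW _ (Finset.mem_insert_self i (hVf i).toFinset) h1
  rw [idealMap_comp hW (hVi i) h, hres i] at h2
  exact h2

end Groth.Agent.FBlowLib
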