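import Groth.Agent.FBlowLib.OpenBase

/-!
# Gluing of formal systems over a formal system
-/

set_option autoImplicit false
set_option linter.style.haveILetI false
set_option backward.isDefEq.respectTransparency false
set_option backward.isDefEq.respectTransparency.types false
set_option backward.defeqAttrib.useBackward true
set_option maxHeartbeats 1000000
universe u

open CategoryTheory CategoryTheory.Limits AlgebraicGeometry TopologicalSpace Opposite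

noncomputable section

namespace Groth.Agent.FBlowLib

open Groth.Agent.FCompl

/-- The inclusion of one open subsystem in a larger one. -/
def resHom (𝔛 : FSch.Sys.{u}) (h : 𝔛.IsFormal) {U V : (𝔛.X 0).Opens} (i : U ≤ V) :
    𝔛.restrictOpen h U ⟶ 𝔛.restrictOpen h V :=
  ⟨fun n => (𝔛.X n).homOfLE (FCompl.lvU_mono 𝔛 h i n), fun n => by
    rw [← cancel_mono (𝔛.lvU h (n + 1) V).ι]
    show (_ ≫ (𝔛.ι n).resLE _ _ _) ≫ _ = ((𝔛.ι n).resLE _ _ _ ≫ _) ≫ _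
    rw [Category.assoc, Category.assoc, Scheme.Hom.resLE_comp_ι, Scheme.homOfLE_ι, Scheme.homOfLE_ι_assoc,
      Scheme.Hom.resLE_comp_ι]⟩

lemma resHom_ι (𝔛 : FSch.Sys.{u}) (h : 𝔛.IsFormal) {U V : (𝔛.X 0).Opens} (i : U ≤ V) :
    resHom 𝔛 h i ≫ 𝔛.restrictOpenι h V = 𝔛.restrictOpenι h U :=
  FSch.Hom.ext (funext fun n => Scheme.homOfLE_ι _ (FCompl.lvU_mono 𝔛 h i n))

lemma sys_mono {𝔄 𝔅 ℭ : FSch.Sys.{u}} {m : 𝔅 ⟶ ℭ} (hm : ∀ n, Mono ((m : FSch.Hom 𝔅 ℭ).app n)) {f g : 𝔄 ⟶ 𝔅}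
    (e : f ≫ m = g ≫ m) : f = g := FSch.Hom.ext (funext fun n => by
  haveI := hm n
  exact (cancel_mono ((m : FSch.Hom 𝔅 ℭ).app n)).1 (congrArg (fun t => FSch.Hom.app t n) e))

lemma isAdicHom_resHom (𝔛 : FSch.Sys.{u}) (h : 𝔛.IsFormal) {U V : (𝔛.X 0).Opens} (i : U ≤ V) :
    FSch.IsAdicHom (resHom 𝔛 h i) := fun n => by
  refine IsPullback.of_bot ?_ ((resHom 𝔛 h i : FSch.Hom _ _).comm n).symm (isAdicHom_restrictOpenι h V n)
  have e : ∀ m, (resHom 𝔛 h i : FSch.Hom _ _).app m ≫ (𝔛.restrictOpenι h V : FSch.Hom _ _).app m =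
      (𝔛.restrictOpenι h U : FSch.Hom _ _).app m := fun m => Scheme.homOfLE_ι _ (FCompl.lvU_mono 𝔛 h i m)
  rw [e, e]
  exact isAdicHom_restrictOpenι h U n

theorem sys_hom_ext {𝔜 ℨ : FSch.Sys.{u}} (h : 𝔜.IsFormal) {Idx : Type u} (O : Idx → (𝔜.X 0).Opens)
    (hO : ∀ x, ∃ i, x ∈ O i) {k k' : 𝔜 ⟶ ℨ}
    (e : ∀ i, 𝔜.restrictOpenι h (O i) ≫ k = 𝔜.restrictOpenι h (O i) ≫ k') : k = k' := by
  refine FSch.Hom.ext (funext fun n => ?_)
  choose i hi using fun z : 𝔜.X n => hO (𝔜.gInv h n z)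
  let 𝒱 : (𝔜.X n).OpenCover := Scheme.Cover.mkOfCovers Idx
    (fun j => ((𝔜.lvU h n (O j) : (𝔜.X n).Opens) : Scheme.{u})) (fun j => (𝔜.lvU h n (O j)).ι)
    (fun z => ⟨i z, ⟨z, hi z⟩, rfl⟩) (fun j => inferInstanceAs (IsOpenImmersion (𝔜.lvU h n (O j)).ι))
  exact Scheme.Cover.hom_ext 𝒱 _ _ fun j => congrArg (fun t => FSch.Hom.app t n) (e j)

theorem sys_exists_glue {𝔜 ℨ : FSch.Sys.{u}} (h : 𝔜.IsFormal) {Idx : Type u} (O : Idx → (𝔜.X 0).Opens)
    (hO : ∀ x, ∃ i, x ∈ O i) (f : ∀ i, 𝔜.restrictOpen h (O i) ⟶ ℨ)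
    (hf : ∀ i j, resHom 𝔜 h (inf_le_left : O i ⊓ O j ≤ O i) ≫ f i =
      resHom 𝔜 h (inf_le_right : O i ⊓ O j ≤ O j) ≫ f j) :
    ∃ k : 𝔜 ⟶ ℨ, ∀ i, 𝔜.restrictOpenι h (O i) ≫ k = f i := by
  choose i hi using fun n (z : 𝔜.X n) => hO (𝔜.gInv h n z)
  let 𝒱 : ∀ n, (𝔜.X n).OpenCover := fun n => Scheme.Cover.mkOfCovers Idx
    (fun j => ((𝔜.lvU h n (O j) : (𝔜.X n).Opens) : Scheme.{u})) (fun j => (𝔜.lvU h n (O j)).ι)
    (fun z => ⟨i n z, ⟨z, hi n z⟩, rfl⟩) (fun j => inferInstanceAs (IsOpenImmersion (𝔜.lvU h n (O j)).ι))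
  have hinf : ∀ n (a b : Idx), 𝔜.lvU h n (O a) ⊓ 𝔜.lvU h n (O b) ≤ 𝔜.lvU h n (O a ⊓ O b) := fun n a b w hw => hw
  have hcomp : ∀ n (a b : Idx),
      pullback.fst (𝔜.lvU h n (O a)).ι (𝔜.lvU h n (O b)).ι ≫ (f a : FSch.Hom _ _).app n =
        pullback.snd (𝔜.lvU h n (O a)).ι (𝔜.lvU h n (O b)).ι ≫ (f b : FSch.Hom _ _).app n := fun n a b => by
    rw [← cancel_epi (isPullback_opens_inf (𝔜.lvU h n (O a)) (𝔜.lvU h n (O b))).isoPullback.hom,
      IsPullback.isoPullback_hom_fst_assoc, IsPullback.isoPullback_hom_snd_assoc]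
    have h1 : (𝔜.X n).homOfLE (FCompl.lvU_mono 𝔜 h (inf_le_left : O a ⊓ O b ≤ O a) n) ≫ (f a : FSch.Hom _ _).app n =
        (𝔜.X n).homOfLE (FCompl.lvU_mono 𝔜 h (inf_le_right : O a ⊓ O b ≤ O b) n) ≫ (f b : FSch.Hom _ _).app n :=
      congrArg (fun t => FSch.Hom.app t n) (hf a b)
    have h2 := congrArg ((𝔜.X n).homOfLE (hinf n a b) ≫ ·) h1
    simp only [Scheme.homOfLE_homOfLE_assoc] at h2
    exact h2
  let k : ∀ n, 𝔜.X n ⟶ ℨ.X n := fun n =>
    Scheme.Cover.glueMorphisms (𝒱 n) (fun j => (f j : FSch.Hom _ _).app n) (hcomp n)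
  have hk : ∀ n j, (𝔜.lvU h n (O j)).ι ≫ k n = (f j : FSch.Hom _ _).app n := fun n j =>
    Scheme.Cover.ι_glueMorphisms (𝒱 n) _ (hcomp n) j
  refine ⟨⟨k, fun n => Scheme.Cover.hom_ext (𝒱 n) _ _ fun j => ?_⟩,
    fun j => FSch.Hom.ext (funext fun n => hk n j)⟩
  show (𝔜.lvU h n (O j)).ι ≫ k n ≫ ℨ.ι n = (𝔜.lvU h n (O j)).ι ≫ 𝔜.ι n ≫ k (n + 1)
  rw [← Category.assoc, hk, ← Category.assoc,
    show (𝔜.lvU h n (O j)).ι ≫ 𝔜.ι n = (𝔜.ι n).resLE _ _ (𝔜.lvU_le h n (O j)) ≫ (𝔜.lvU h (n + 1) (O j)).ι from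
      (Scheme.Hom.resLE_comp_ι _ _).symm, Category.assoc, hk]
  exact (f j : FSch.Hom _ _).comm n

variable {𝔛 : FSch.Sys.{u}} (h : 𝔛.IsFormal) (Pr : (𝔛.X 0).Opens → Prop)

/-- Compatible formal systems over the members of a basis. -/
structure GlueInput where
  basis : ∀ (x : 𝔛.X 0) (V : (𝔛.X 0).Opens), x ∈ V → ∃ U : Subtype Pr, x ∈ U.1 ∧ U.1 ≤ V
  B : Subtype Pr → FSch.Sys.{u}
  c : ∀ U, B U ⟶ 𝔛.restrictOpen h U.1
  adic : ∀ U, FSch.IsAdicHom (c U)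
  k : ∀ {U V : Subtype Pr}, U.1 ≤ V.1 → (B U ⟶ B V)
  k_id : ∀ U, k (le_refl U.1) = 𝟙 (B U)
  k_comp : ∀ {U V W : Subtype Pr} (i : U.1 ≤ V.1) (j : V.1 ≤ W.1), k (i.trans j) = k i ≫ k j
  sq : ∀ {U V : Subtype Pr} (i : U.1 ≤ V.1) (n : ℕ), IsPullback ((k i : FSch.Hom _ _).app n)
    ((c U : FSch.Hom _ _).app n) ((c V : FSch.Hom _ _).app n) ((resHom 𝔛 h i : FSch.Hom _ _).app n)

variable {h Pr} (G : GlueInput h Pr)

namespace GlueInput

/-- The index of the cover of a level. -/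
def Idx (_ : GlueInput h Pr) : Type u := Subtype Pr

instance : Preorder G.Idx := inferInstanceAs (Preorder (Subtype Pr))

lemma lvU_le_iff (n : ℕ) (U V : (𝔛.X 0).Opens) : 𝔛.lvU h n U ≤ 𝔛.lvU h n V ↔ U ≤ V := by
  refine ⟨fun hle x hx => ?_, fun i => FCompl.lvU_mono 𝔛 h i n⟩
  have e : 𝔛.gInv h n (𝔛.toX n x) = x := congr($(𝔛.toX_base_gInv h n) x)
  have := hle (show 𝔛.toX n x ∈ 𝔛.lvU h n U from (show 𝔛.gInv h n (𝔛.toX n x) ∈ U from e.symm ▸ hx))
  have h2 : 𝔛.gInv h n (𝔛.toX n x) ∈ V := this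
  rwa [e] at h2

lemma exists_mem (n : ℕ) {z : 𝔛.X n} {W : (𝔛.X n).Opens} (hz : z ∈ W) :
    ∃ U : G.Idx, z ∈ 𝔛.lvU h n U.1 ∧ 𝔛.lvU h n U.1 ≤ W := by
  have e : 𝔛.toX n (𝔛.gInv h n z) = z := congr($(𝔛.gInv_toX_base h n) z)
  obtain ⟨U, hU, hle⟩ := G.basis (𝔛.gInv h n z) (𝔛.toX n ⁻¹ᵁ W)
    (show 𝔛.toX n (𝔛.gInv h n z) ∈ W from e.symm ▸ hz)
  refine ⟨U, hU, fun w hw => ?_⟩
  rw [← show 𝔛.toX n (𝔛.gInv h n w) = w from congr($(𝔛.gInv_toX_base h n) w)]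
  exact hle hw

/-- The cover of a level by the members of the basis. -/
@[simps] def cover (n : ℕ) : (𝔛.X n).OpenCover where
  I₀ := G.Idx
  X U := (𝔛.lvU h n U.1 : (𝔛.X n).Opens)
  f U := (𝔛.lvU h n U.1).ι
  mem₀ := by
    rw [Scheme.presieve₀_mem_precoverage_iff]
    refine ⟨fun z => ?_, fun U => inferInstanceAs (IsOpenImmersion (𝔛.lvU h n U.1).ι)⟩
    obtain ⟨U, hz, -⟩ := G.exists_mem n (W := ⊤) (z := z) trivial
    exact ⟨U, ⟨z, hz⟩, rfl⟩

instance (n : ℕ) : Preorder (G.cover n).I₀ := inferInstanceAs (Preorder G.Idx)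

instance (n : ℕ) : Small.{u} (G.cover n).I₀ := inferInstanceAs (Small.{u} (Subtype Pr))

instance (n : ℕ) : (G.cover n).LocallyDirected :=
  .ofIsBasisOpensRange (fun {U V} => by
      show U.1 ≤ V.1 ↔ (𝔛.lvU h n U.1).ι.opensRange ≤ (𝔛.lvU h n V.1).ι.opensRange
      rw [Scheme.Opens.opensRange_ι, Scheme.Opens.opensRange_ι, lvU_le_iff]) <| by
    refine Opens.isBasis_iff_nbhd.mpr fun {W z} hz => ?_
    obtain ⟨U, hzU, hle⟩ := G.exists_mem n hz
    exact ⟨𝔛.lvU h n U.1, ⟨U, Scheme.Opens.opensRange_ι _⟩, hzU, hle⟩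

/-- The functor of the level `n`. -/
def functor (n : ℕ) : (G.cover n).I₀ ⥤ Scheme.{u} where
  obj U := (G.B U).X n
  map {U V} i := (G.k (U := U) (V := V) i.le : FSch.Hom _ _).app n
  map_id U := congrArg (fun t => FSch.Hom.app t n) (G.k_id U)
  map_comp {U V W} i j := congrArg (fun t => FSch.Hom.app t n) (G.k_comp i.le j.le)

lemma trans_eq (n : ℕ) {U V : (G.cover n).I₀} (i : U ⟶ V) :
    (G.cover n).trans i = (𝔛.X n).homOfLE (FCompl.lvU_mono 𝔛 h (show U.1 ≤ V.1 from i.le) n) := by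
  rw [← cancel_mono (𝔛.lvU h n V.1).ι, Scheme.homOfLE_ι]
  exact Scheme.Cover.trans_map (G.cover n) i

/-- The datum at the level `n`. -/
def datum (n : ℕ) : (G.cover n).RelativeGluingData where
  functor := G.functor n
  natTrans :=
    { app := fun U => (G.c U : FSch.Hom _ _).app n
      naturality := fun U V i => by
        show (G.k (U := U) (V := V) i.le : FSch.Hom _ _).app n ≫ (G.c V : FSch.Hom _ _).app n =
          (G.c U : FSch.Hom _ _).app n ≫ (G.cover n).trans i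
        rw [G.trans_eq n i]
        exact (G.sq (U := U) (V := V) i.le n).w }
  equifibered {U V} i := by
    show IsPullback ((G.k (U := U) (V := V) i.le : FSch.Hom _ _).app n) ((G.c U : FSch.Hom _ _).app n)
      ((G.c V : FSch.Hom _ _).app n) ((G.cover n).trans i)
    rw [G.trans_eq n i]
    exact G.sq (U := U) (V := V) i.le n

instance (n : ℕ) : Quiver.IsThin (G.cover n).I₀ := fun _ _ => inferInstance

instance (n : ℕ) : ((G.datum n).functor ⋙ Scheme.forget).IsLocallyDirected :=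
  Scheme.Cover.RelativeGluingData.instIsLocallyDirectedI₀CompFunctorForgetOfIsThin ..

/-- The piece of the level `n`. -/
def piece (n : ℕ) (U : Subtype Pr) : (G.B U).X n ⟶ (G.datum n).glued :=
  colimit.ι (J := (G.cover n).I₀) (G.datum n).functor U

instance (n : ℕ) (U : Subtype Pr) : IsOpenImmersion (G.piece n U) := (G.datum n).cover.map_prop U

lemma piece_k (n : ℕ) {U V : Subtype Pr} (i : U.1 ≤ V.1) :
    (G.k i : FSch.Hom _ _).app n ≫ G.piece n V = G.piece n U :=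
  colimit.w (J := (G.cover n).I₀) (G.datum n).functor (homOfLE (show (U : (G.cover n).I₀) ≤ V from i))

lemma isPullback_piece (n : ℕ) (U : Subtype Pr) :
    IsPullback (G.piece n U) ((G.c U : FSch.Hom _ _).app n) (G.datum n).toBase (𝔛.lvU h n U.1).ι :=
  ((G.datum n).isPullback_natTrans_ι_toBase U).flip

/-- The glued system. -/
def glued : FSch.Sys.{u} where
  X n := (G.datum n).glued
  ι n := colimit.desc (G.datum n).functor
    { pt := (G.datum (n + 1)).glued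
      ι :=
        { app := fun U => (G.B U).ι n ≫ G.piece (n + 1) U
          naturality := fun U V i => by
            show (G.k (U := U) (V := V) i.le : FSch.Hom _ _).app n ≫ (G.B V).ι n ≫ G.piece (n + 1) V =
              ((G.B U).ι n ≫ G.piece (n + 1) U) ≫ 𝟙 _
            rw [Category.comp_id, ← Category.assoc, (G.k (U := U) (V := V) i.le : FSch.Hom _ _).comm n,
              Category.assoc, G.piece_k] } }

lemma piece_ι (n : ℕ) (U : Subtype Pr) : G.piece n U ≫ G.glued.ι n = (G.B U).ι n ≫ G.piece (n + 1) U :=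
  colimit.ι_desc (J := (G.cover n).I₀) _ U

/-- The map of a piece. -/
def u' (U : Subtype Pr) : G.B U ⟶ G.glued := ⟨fun n => G.piece n U, fun n => G.piece_ι n U⟩

/-- The structure map. -/
def toSys : G.glued ⟶ 𝔛 := ⟨fun n => (G.datum n).toBase, fun n => colimit.hom_ext (J := (G.cover n).I₀) fun U => by
  show G.piece n U ≫ (G.datum n).toBase ≫ 𝔛.ι n = G.piece n U ≫ G.glued.ι n ≫ (G.datum (n + 1)).toBase
  rw [← Category.assoc, (G.isPullback_piece n U).w, ← Category.assoc (G.piece n U), G.piece_ι, Category.assoc,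
    Category.assoc, (G.isPullback_piece (n + 1) U).w, ← Category.assoc ((G.B U).ι n), ← (G.c U : FSch.Hom _ _).comm n,
    Category.assoc]
  exact congrArg (_ ≫ ·) (Scheme.Hom.resLE_comp_ι _ _).symm⟩

lemma u'_toSys (U : Subtype Pr) : G.u' U ≫ G.toSys = G.c U ≫ 𝔛.restrictOpenι h U.1 :=
  FSch.Hom.ext (funext fun n => (G.isPullback_piece n U).w)

lemma sq_toSys (U : Subtype Pr) (n : ℕ) : IsPullback ((G.u' U : FSch.Hom _ _).app n) ((G.c U : FSch.Hom _ _).app n)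
    ((G.toSys : FSch.Hom _ _).app n) ((𝔛.restrictOpenι h U.1 : FSch.Hom _ _).app n) := G.isPullback_piece n U

lemma exists_piece_mem (n : ℕ) (z : G.glued.X n) :
    ∃ U : Subtype Pr, z ∈ Set.range ((G.u' U : FSch.Hom _ _).app n) := by
  obtain ⟨U, w, hw⟩ := Scheme.IsLocallyDirected.ι_jointly_surjective (G.datum n).functor z
  exact ⟨U, w, hw⟩

theorem isAdicHom_toSys : FSch.IsAdicHom G.toSys := fun n => by
  let b := fun m => (G.toSys : FSch.Hom _ _).app m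
  let P := pullback (b (n + 1)) (𝔛.ι n)
  let L : G.glued.X n ⟶ P := pullback.lift (G.glued.ι n) (b n) ((G.toSys : FSch.Hom _ _).comm n).symm
  have hL₁ : L ≫ pullback.fst _ _ = G.glued.ι n := pullback.lift_fst _ _ _
  have hL₂ : L ≫ pullback.snd _ _ = b n := pullback.lift_snd _ _ _
  have sqP := IsPullback.of_hasPullback (b (n + 1)) (𝔛.ι n)
  have hU : ∀ U : Subtype Pr, IsPullback (G.piece n U ≫ L) ((G.c U : FSch.Hom _ _).app n) (pullback.snd _ _)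
      (𝔛.lvU h n U.1).ι := fun U => by
    have outer : IsPullback ((G.B U).ι n ≫ G.piece (n + 1) U) ((G.c U : FSch.Hom _ _).app n) (b (n + 1))
        ((𝔛.restrictOpen h U.1).ι n ≫ (𝔛.lvU h (n + 1) U.1).ι) :=
      (G.adic U n).paste_horiz (G.isPullback_piece (n + 1) U)
    have e : (𝔛.restrictOpen h U.1).ι n ≫ (𝔛.lvU h (n + 1) U.1).ι = (𝔛.lvU h n U.1).ι ≫ 𝔛.ι n :=
      Scheme.Hom.resLE_comp_ι _ _
    rw [e, ← G.piece_ι n U, ← hL₁, ← Category.assoc] at outer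
    refine IsPullback.of_right outer ?_ sqP
    rw [Category.assoc, hL₂]
    exact (G.isPullback_piece n U).w
  haveI hopen : ∀ U : Subtype Pr, IsOpenImmersion (G.piece n U ≫ L) := fun U =>
    MorphismProperty.of_isPullback (hU U).flip inferInstance
  have hcov : ∀ x : P, ∃ U : Subtype Pr, x ∈ Set.range (G.piece n U ≫ L) := fun x => by
    obtain ⟨U, hxU, -⟩ := G.exists_mem n (W := ⊤) (z := pullback.snd (b (n + 1)) (𝔛.ι n) x) trivial
    obtain ⟨w, hw, -⟩ := Scheme.exists_preimage_of_isPullback (hU U) x ⟨_, hxU⟩ rfl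
    exact ⟨U, w, hw⟩
  choose iU hiU using hcov
  let 𝒱 : P.OpenCover := Scheme.Cover.mkOfCovers (Subtype Pr) (fun U => (G.B U).X n)
    (fun U => G.piece n U ≫ L) (fun x => ⟨iU x, hiU x⟩) hopen
  have hiso : IsIso L := by
    refine (IsZariskiLocalAtTarget.iff_of_openCover (P := MorphismProperty.isomorphisms Scheme.{u}) 𝒱).2
      fun U => ?_
    show IsIso (pullback.snd L (G.piece n U ≫ L))
    have sq : IsPullback (G.piece n U) (𝟙 _) L (G.piece n U ≫ L) := by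
      refine IsPullback.of_bot ?_ (by rw [Category.id_comp]) (hU U)
      rw [hL₂, Category.id_comp]
      exact G.isPullback_piece n U
    rw [← sq.isoPullback_inv_snd]
    infer_instance
  exact IsPullback.of_iso_pullback ⟨((G.toSys : FSch.Hom _ _).comm n).symm⟩ (asIso L) hL₁ hL₂

end GlueInput

end Groth.Agent.FBlowLib
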